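import Cfsg.Agent.H160.PD.Crit
import Cfsg.Agent.S0205
import Cfsg.Agent.S0003
import Cfsg.Agent.H470.SolvPi
import Cfsg.Agent.OddOrderLocal.CyclicSub
import Cfsg.Agent.FastGrp
import Cfsg.Agent.Prune
set_option linter.all false

section
prune_inst 0x7f00000000000000000000000000000000000000000000000000000000000000000000000000000000000000000000000000000000000000000000000000000000000000000000000000000000000000003fffffffffffffffffffffffffffbeffbdffffffff

-- part: H160/PD/One
section
set_option linter.all false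
open scoped Cfsg.Agent.FastGrp

/-!
# S4246: criteria for the rows with one prime and the characteristic (helper160)

`One`, `OneV` : a group in characteristic `p`, one good prime `r`.
-/

set_option autoImplicit false
set_option linter.unusedSectionVars false

namespace Cfsg.Agent.H160.PD

open Subgroup

variable {S : Type*} [Group S] [Finite S]

/-- **The hypotheses of the criterion with one prime** `r` for a group in characteristic `p`. -/
structure One (S : Type*) [Group S] (p r c e m : ℕ) : Prop where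
  prime : p.Prime
  good : Good S r
  /-- the `p`-parts of the centralisers of the elements of order `r` -/
  cent : ∀ x : S, orderOf x = r → v p (centralizer {x}) ≤ c
  /-- the automorphisms of odd prime order fixing elements of order `r` -/
  reg : ∀ b : MulAut S, (orderOf b).Prime → orderOf b ≠ 2 → orderOf b ≠ p → ∀ x : S, orderOf x = r → b x = x →
    v p (Fx b) ≤ e
  /-- all the automorphisms of odd prime order -/
  syl : ∀ b : MulAut S, (orderOf b).Prime → orderOf b ≠ 2 → orderOf b ≠ p →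
    v p (Fx b) + max c e + (out S).factorization p < v p S
  odd : p ≠ 2 → ∀ H : Subgroup S, Odd (Nat.card H) → r ∣ Nat.card H → v p H ≤ m
  inv : p ≠ 2 → ∀ s : S, orderOf s = 2 → v p (centralizer {s}) + max m c + (out S).factorization p < v p S
  two₀ : p ≠ 2 → ∀ x : S, orderOf x = r → v 2 (centralizer {x}) + (out S).factorization 2 < v 2 S
  two₁ : p ≠ 2 → ∀ b : MulAut S, (orderOf b).Prime → orderOf b ≠ 2 → ∀ x : S, orderOf x = r → b x = x →
    v 2 (Fx b) + (out S).factorization 2 < v 2 S

/-- The variant of `One` with the involutions of `MulAut S` and without `|Out S|` in `two₀`, `two₁`. -/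
structure OneV (S : Type*) [Group S] (p r c e m : ℕ) : Prop where
  prime : p.Prime
  good : Good S r
  cent : ∀ x : S, orderOf x = r → v p (centralizer {x}) ≤ c
  reg : ∀ b : MulAut S, (orderOf b).Prime → orderOf b ≠ 2 → orderOf b ≠ p → ∀ x : S, orderOf x = r → b x = x →
    v p (Fx b) ≤ e
  syl : ∀ b : MulAut S, (orderOf b).Prime → orderOf b ≠ 2 → orderOf b ≠ p →
    v p (Fx b) + max c e + (out S).factorization p < v p S
  odd : p ≠ 2 → ∀ H : Subgroup S, Odd (Nat.card H) → r ∣ Nat.card H → v p H ≤ m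
  inv : p ≠ 2 → ∀ s : MulAut S, orderOf s = 2 → v p (Fx s) + max m c + (out S).factorization p < v p S
  two₀ : p ≠ 2 → ∀ x : S, orderOf x = r → v 2 (centralizer {x}) < v 2 S
  two₁ : p ≠ 2 → ∀ b : MulAut S, (orderOf b).Prime → orderOf b ≠ 2 → ∀ x : S, orderOf x = r → b x = x →
    v 2 (Fx b) < v 2 S

variable {p r c e m : ℕ}

/-- the part common to the two criteria -/
theorem row_one_aux (hZ : center S = ⊥) (hp : p.Prime) (hg : Good S r)
    (cent : ∀ x : S, orderOf x = r → v p (centralizer {x}) ≤ c)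
    (reg : ∀ b : MulAut S, (orderOf b).Prime → orderOf b ≠ 2 → orderOf b ≠ p → ∀ x : S, orderOf x = r → b x = x →
      v p (Fx b) ≤ e)
    (syl : ∀ b : MulAut S, (orderOf b).Prime → orderOf b ≠ 2 → orderOf b ≠ p →
      v p (Fx b) + max c e + (out S).factorization p < v p S)
    (odd : p ≠ 2 → ∀ H : Subgroup S, Odd (Nat.card H) → r ∣ Nat.card H → v p H ≤ m)
    (fin : p ≠ 2 → ∀ (π : Set ℕ) (L K L' K' : Subgroup (MulAut S)), Cfg π L K L' K' →
      v p S ≤ v p (tr L') + max m c + (out S).factorization p → In L K r → False) : Row S := by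
  have key : ∀ (π : Set ℕ) (L K L' K' : Subgroup (MulAut S)), Cfg π L K L' K' → In L K r → False := by
    intro π L K L' K' h hI
    have hc := le_max_left c e
    have he := le_max_right c e
    have hc' := le_max_right m c
    have hm := le_max_left m c
    by_cases hpπ : p ∈ π
    · have hp2 : p ≠ 2 := fun h1 => h.two (h1 ▸ hpπ)
      refine fin hp2 π L K L' K' h ?_ hI
      have h2 := v_le hZ L p
      have h3 := h.numL p hp hpπ
      rcases hI with h0 | h0
      · have h4 := odd hp2 (tr L) (h.odd hZ) h0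
        simp only [v] at *
        omega
      · obtain ⟨x, hx, hxo⟩ := Cfg.exists_mem hg.prime h0
        have h4 := (v_mono (h.trL_le_centralizer hZ hx) p).trans (cent x hxo)
        simp only [v] at *
        omega
    · have h4 : v p (tr K) ≤ max c e := by
        rcases hI with h0 | h0
        · obtain ⟨x, hx, hxo⟩ := Cfg.exists_mem hg.prime h0
          exact ((v_mono (h.trK_le_centralizer hZ hx) p).trans (cent x hxo)).trans hc
        · obtain ⟨x, hx, hxo⟩ := Cfg.exists_mem hg.prime h0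
          obtain ⟨b, hb, t, ht, htπ, ht2, hbo⟩ := h.exists_prime
          exact ((v_mono (h.trK_le hZ hb) p).trans (reg b (hbo ▸ ht) (by rw [hbo]; exact ht2)
            (by rw [hbo]; rintro rfl; exact hpπ htπ) x hxo (h.fix hZ hb hx))).trans he
      obtain ⟨b, hb, t, ht, htπ, ht2, hbo⟩ := h.symm.exists_prime
      have h5 := syl b (hbo ▸ ht) (by rw [hbo]; exact ht2) (by rw [hbo]; rintro rfl; exact hpπ htπ)
      have h6 := v_mono (h.symm.trK_le hZ hb) p
      have h7 := v_le hZ K p
      have h8 := h.numK p hp hpπ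
      simp only [v] at *
      omega
  intro π L K L' K' h
  rcases h.cover hZ hg with h0 | h0
  · exact key _ _ _ _ _ h h0
  · exact key _ _ _ _ _ h.symm h0

/-- **The criterion with one prime.** -/
theorem One.row (hZ : center S = ⊥) (H : One S p r c e m) : Row S := by
  refine row_one_aux hZ H.prime H.good H.cent H.reg H.syl H.odd ?_
  intro hp2 π L K L' K' h hL' hI
  have h1 : v 2 (tr K) + (out S).factorization 2 < v 2 S := by
    rcases hI with h0 | h0
    · obtain ⟨x, hx, hxo⟩ := Cfg.exists_mem H.good.prime h0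
      have h2 := v_mono (h.trK_le_centralizer hZ hx) 2
      have h3 := H.two₀ hp2 x hxo
      omega
    · obtain ⟨x, hx, hxo⟩ := Cfg.exists_mem H.good.prime h0
      obtain ⟨b, hb, t, ht, -, ht2, hbo⟩ := h.exists_prime
      have h2 := v_mono (h.trK_le hZ hb) 2
      have h3 := H.two₁ hp2 b (hbo ▸ ht) (by rw [hbo]; exact ht2) x hxo (h.fix hZ hb hx)
      omega
  have h2 := v_le hZ K 2
  have h3 := h.numK 2 Nat.prime_two h.two
  have h4 : 2 ∣ Nat.card (tr K') := by
    rw [← v_pos Nat.prime_two]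
    simp only [v] at *
    omega
  obtain ⟨s, hs, hso⟩ := Cfg.exists_mem Nat.prime_two h4
  have h5 := v_mono (h.symm.trL_le_centralizer hZ hs) p
  have h6 := H.inv hp2 s hso
  simp only [v] at *
  omega

/-- **The variant.** -/
theorem OneV.row (hZ : center S = ⊥) (H : OneV S p r c e m) : Row S := by
  refine row_one_aux hZ H.prime H.good H.cent H.reg H.syl H.odd ?_
  intro hp2 π L K L' K' h hL' hI
  have h1 : v 2 (tr K) < v 2 S := by
    rcases hI with h0 | h0
    · obtain ⟨x, hx, hxo⟩ := Cfg.exists_mem H.good.prime h0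
      have h2 := v_mono (h.trK_le_centralizer hZ hx) 2
      have h3 := H.two₀ hp2 x hxo
      omega
    · obtain ⟨x, hx, hxo⟩ := Cfg.exists_mem H.good.prime h0
      obtain ⟨b, hb, t, ht, -, ht2, hbo⟩ := h.exists_prime
      have h2 := v_mono (h.trK_le hZ hb) 2
      have h3 := H.two₁ hp2 b (hbo ▸ ht) (by rw [hbo]; exact ht2) x hxo (h.fix hZ hb hx)
      omega
  have h3 := h.numK' 2 Nat.prime_two h.two
  have h4 : 2 ∣ Nat.card K' := by
    rw [← v_pos Nat.prime_two]
    simp only [v] at *
    omega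
  have := Fact.mk Nat.prime_two
  obtain ⟨⟨s, hs⟩, hso⟩ := exists_prime_orderOf_dvd_card' 2 h4
  have hso' : orderOf s = 2 := by rw [← hso]; exact (Subgroup.orderOf_mk s hs).symm
  have h5 : tr L' ≤ Fx s := fun x hx => h.symm.fixK hZ hs hx
  have h5' := v_mono h5 p
  have h6 := H.inv hp2 s hso'
  simp only [v] at *
  omega

end Cfsg.Agent.H160.PD
end

-- part: H160/PD/Tools
section
set_option linter.all false
open scoped Cfsg.Agent.FastGrp

/-!
# S4246: tools for verifying the hypotheses of the criteria (helper160)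

* `Uniq S r` : the elements of order `r` of an `r`-subgroup generate one subgroup (cyclic Sylow `r`-subgroups);
  `uniq_of_cyclic`, `uniq_of_v`;
* `noOdd_of`, `noOdd_of_uniq` : `NoOdd S r s` from the normalisers of the `r`-subgroups and of the `s`-subgroups;
* `odd_bound`, `odd_bound_of_uniq` : the `p`-part of the subgroups of odd order containing elements of order `r`;
* `card_normalizer_dvd` : `|N(⟨x⟩)|` divides `n |C(x)|` if the `n`-th powers of `N(⟨x⟩)` centralise `x`.
-/

set_option autoImplicit false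
set_option linter.unusedSectionVars false

namespace Cfsg.Agent.H160.PD

open Subgroup

universe u

variable {S : Type u} [Group S]

/-! ### subgroups with a unique subgroup of order `r` -/

/-- commuting elements of order `r` generate the same subgroup (cyclic Sylow `r`-subgroups) -/
def Uniq (S : Type*) [Group S] (r : ℕ) : Prop :=
  ∀ x y : S, orderOf x = r → orderOf y = r → x * y = y * x → y ∈ zpowers x

/-- in a finite cyclic group two elements of the same order generate the same subgroup -/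
theorem mem_zpowers_of_cyclic {C : Type*} [Group C] [Finite C] [IsCyclic C] {x y : C} (h : orderOf x = orderOf y) :
    y ∈ zpowers x := by
  have h1 : zpowers y = zpowers x := by
    refine OddOrderLocal.CyclicSub.eq_of_card_eq_of_le_cyclic (Z := (⊤ : Subgroup C)) ?_ le_top le_top ?_
    · exact isCyclic_of_surjective (Subgroup.topEquiv : (⊤ : Subgroup C) ≃* C).symm.toMonoidHom
        (Subgroup.topEquiv : (⊤ : Subgroup C) ≃* C).symm.surjective
    · rw [Nat.card_zpowers, Nat.card_zpowers, h]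
  rw [← h1]
  exact mem_zpowers y

theorem mem_centralizer_of_comm {x y : S} (h : x * y = y * x) : y ∈ centralizer ({x} : Set S) :=
  mem_centralizer_singleton_iff.2 h.symm

theorem zpowers_le_normalizer_of_comm {x y : S} (h : x * y = y * x) :
    zpowers x ≤ normalizer ((zpowers y : Subgroup S) : Set S) := by
  rw [zpowers_le]
  apply centralizer_le_normalizer
  rw [mem_centralizer_iff]
  rintro _ ⟨k, rfl⟩
  exact ((Commute.zpow_right (show Commute x y from h) k).symm).eq

variable [Finite S]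

theorem uniq_of_cyclic {r : ℕ} (h : ∀ x : S, orderOf x = r → IsCyclic ↥(centralizer ({x} : Set S))) : Uniq S r := by
  intro x y hx hy hxy
  have := h x hx
  have h1 : orderOf (⟨x, mem_centralizer_of_comm rfl⟩ : centralizer ({x} : Set S)) =
      orderOf (⟨y, mem_centralizer_of_comm hxy⟩ : centralizer ({x} : Set S)) := by
    rw [Subgroup.orderOf_mk, Subgroup.orderOf_mk, hx, hy]
  have h2 := mem_zpowers_of_cyclic h1
  obtain ⟨k, hk⟩ := h2
  exact ⟨k, congrArg Subtype.val hk⟩

theorem isPGroup_zpowers {r : ℕ} {x : S} (hx : orderOf x = r) : IsPGroup r ↥(zpowers x) := by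
  apply IsPGroup.of_card (n := 1)
  rw [Nat.card_zpowers, hx, pow_one]

/-- a nontrivial `r`-subgroup contains an element of order `r` whose subgroup is normalised by the normaliser -/
theorem Uniq.exists_mem {r : ℕ} (hr : r.Prime) (h : Uniq S r) {R : Subgroup S} (hR : IsPGroup r R) (hR1 : R ≠ ⊥) :
    ∃ x ∈ R, orderOf x = r ∧ normalizer (R : Set S) ≤ normalizer ((zpowers x : Subgroup S) : Set S) := by
  have hrF := Fact.mk hr
  have : Nontrivial R := (Subgroup.nontrivial_iff_ne_bot R).2 hR1
  have hc := hR.center_nontrivial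
  have hcp : IsPGroup r ↥(center R) := hR.to_subgroup _
  obtain ⟨k, hk⟩ := IsPGroup.iff_card.1 hcp
  have hd : r ∣ Nat.card ↥(center R) := by
    have h1 : 1 < Nat.card ↥(center R) := Finite.one_lt_card_iff_nontrivial.2 hc
    rw [hk] at h1 ⊢
    apply dvd_pow_self
    rintro rfl
    simp at h1
  obtain ⟨⟨⟨x, hxR⟩, hxc⟩, hxo⟩ := exists_prime_orderOf_dvd_card' r hd
  have hxo' : orderOf x = r := by
    rw [← hxo, Subgroup.orderOf_mk, Subgroup.orderOf_mk]
  have hcen : ∀ y ∈ R, x * y = y * x := fun y hy =>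
    (congrArg Subtype.val (mem_center_iff.1 hxc ⟨y, hy⟩)).symm
  have key : ∀ n ∈ normalizer (R : Set S), ∀ w ∈ zpowers x, n * w * n⁻¹ ∈ zpowers x := by
    intro n hn w hw
    have h1 : n * x * n⁻¹ ∈ R := (mem_normalizer_iff.1 hn x).1 hxR
    have h2 : orderOf (n * x * n⁻¹) = r := by
      rw [← hxo']
      exact MulEquiv.orderOf_eq (MulAut.conj n) x
    have h3 := h x _ hxo' h2 (hcen _ h1)
    obtain ⟨k, rfl⟩ := hw
    have h4 : n * x ^ k * n⁻¹ = (n * x * n⁻¹) ^ k := conj_zpow.symm
    show n * x ^ k * n⁻¹ ∈ _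
    rw [h4]
    exact zpow_mem h3 k
  refine ⟨x, hxR, hxo', fun n hn => ?_⟩
  rw [mem_normalizer_iff]
  intro w
  refine ⟨fun hw => key n hn w hw, fun hw => ?_⟩
  have h5 := key n⁻¹ (inv_mem hn) _ hw
  have h6 : n⁻¹ * (n * w * n⁻¹) * n⁻¹⁻¹ = w := by group
  rwa [h6] at h5

/-! ### Hall subgroups for two primes -/

theorem exists_split {n r s : ℕ} (hn : n ≠ 0) (hr : r.Prime) (hs : s.Prime) (hrs : r ≠ s) :
    ∃ m, n = (r ^ n.factorization r * s ^ n.factorization s) * m ∧
      (r ^ n.factorization r * s ^ n.factorization s).Coprime m := by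
  obtain ⟨n1, hn1⟩ : ∃ n1, n1 = n / r ^ n.factorization r := ⟨_, rfl⟩
  have e1 : r ^ n.factorization r * n1 = n := by rw [hn1]; exact Nat.ordProj_mul_ordCompl_eq_self n r
  have c1 : r.Coprime n1 := by rw [hn1]; exact Nat.coprime_ordCompl hr hn
  have hn10 : n1 ≠ 0 := by rintro rfl; rw [mul_zero] at e1; exact hn e1.symm
  have f1 : n1.factorization s = n.factorization s := by
    rw [hn1, Nat.factorization_ordCompl, Finsupp.erase_ne hrs.symm]
  obtain ⟨m, hm⟩ : ∃ m, m = n1 / s ^ n1.factorization s := ⟨_, rfl⟩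
  have e2 : s ^ n1.factorization s * m = n1 := by rw [hm]; exact Nat.ordProj_mul_ordCompl_eq_self n1 s
  have c2 : s.Coprime m := by rw [hm]; exact Nat.coprime_ordCompl hs hn10
  have c3 : r.Coprime m := Nat.Coprime.coprime_dvd_right ⟨_, by rw [mul_comm]; exact e2.symm⟩ c1
  refine ⟨m, ?_, ?_⟩
  · rw [← f1, mul_assoc, e2, e1]
  · exact Nat.Coprime.mul_left (Nat.Coprime.pow_left _ c3) (Nat.Coprime.pow_left _ c2)

/-- a Hall `{r, s}`-subgroup of a subgroup of odd order -/
theorem exists_hall {H : Subgroup S} (hH : Odd (Nat.card H)) {r s : ℕ} (hr : r.Prime) (hs : s.Prime) (hrs : r ≠ s) :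
    ∃ M : Subgroup S, M ≤ H ∧ Nat.card M = r ^ v r H * s ^ v s H := by
  have hsol : Group.IsSolvable ↥H := Cfsg.Agent.S0205.result hH
  obtain ⟨n, hn, hmn⟩ := exists_split (n := Nat.card H) Nat.card_pos.ne' hr hs hrs
  obtain ⟨M, hM⟩ := Cfsg.Agent.S0003.result _ n hn hmn
  refine ⟨M.map H.subtype, map_subtype_le M, ?_⟩
  rw [show r ^ v r H * s ^ v s H = Nat.card M from hM.symm]
  exact (Nat.card_congr (M.equivMapOfInjective _ H.subtype_injective).toEquiv).symm

theorem card_map_subtype (M : Subgroup S) (Q : Subgroup ↥M) : Nat.card (Q.map M.subtype) = Nat.card Q :=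
  (Nat.card_congr (Q.equivMapOfInjective _ M.subtype_injective).toEquiv).symm

/-- a subgroup normalises the images of its normal subgroups -/
theorem le_normalizer_map (M : Subgroup S) (Q : Subgroup ↥M) [hQ : Q.Normal] :
    M ≤ normalizer ((Q.map M.subtype : Subgroup S) : Set S) := by
  intro g hg
  rw [mem_normalizer_iff]
  intro w
  constructor
  · rintro ⟨y, hy, rfl⟩
    exact ⟨⟨g, hg⟩ * y * ⟨g, hg⟩⁻¹, hQ.conj_mem y hy _, rfl⟩
  · rintro ⟨y, hy, he⟩
    refine ⟨⟨g, hg⟩⁻¹ * y * ⟨g, hg⟩, ?_, ?_⟩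
    · have := hQ.conj_mem y hy (⟨g, hg⟩⁻¹ : ↥M)
      rwa [inv_inv] at this
    · have h1 : (y : S) = g * w * g⁻¹ := he
      show g⁻¹ * (y : S) * g = w
      rw [h1]; group

/-- **`NoOdd` from the normalisers of the `r`-subgroups and of the `s`-subgroups.** -/
theorem noOdd_of {r s : ℕ} (hr : r.Prime) (hs : s.Prime) (hrs : r ≠ s)
    (h1 : ∀ R : Subgroup S, IsPGroup r R → R ≠ ⊥ → ¬ s ∣ Nat.card (normalizer (R : Set S)))
    (h2 : ∀ R : Subgroup S, IsPGroup s R → R ≠ ⊥ → ¬ r ∣ Nat.card (normalizer (R : Set S))) : NoOdd S r s := by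
  intro H hH hrH hsH
  obtain ⟨M, hMH, hM⟩ := exists_hall hH hr hs hrs
  have hMo : Odd (Nat.card M) := hH.of_dvd_nat (card_dvd_of_le hMH)
  have hsol : Group.IsSolvable ↥M := Cfsg.Agent.S0205.result hMo
  have hr1 : r ∣ Nat.card M := by
    rw [hM]
    exact Dvd.dvd.mul_right (dvd_pow_self r ((v_pos hr).2 hrH).ne') _
  have hs1 : s ∣ Nat.card M := by
    rw [hM]
    exact Dvd.dvd.mul_left (dvd_pow_self s ((v_pos hs).2 hsH).ne') _
  have hM1 : (⊤ : Subgroup ↥M) ≠ ⊥ := by
    intro h0
    have h3 : Nat.card M = 1 := by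
      rw [← Subgroup.card_top, h0, Subgroup.card_bot]
    rw [h3] at hr1
    exact hr.one_lt.ne' (Nat.dvd_one.1 hr1)
  have hts : Group.IsSolvable ↥(⊤ : Subgroup ↥M) :=
    Group.isSolvable_of_isSolvable_injective (subtype_injective _)
  obtain ⟨p, Q, hp, hQn, hQ1, -, hQp⟩ := H470.SolvPi.exists_normal_pgroup (G := ↥M) inferInstance hM1 hts
  have hpF := Fact.mk hp
  have hQ' : IsPGroup p ↥(Q.map M.subtype) := hQp.map _
  have hQ1' : Q.map M.subtype ≠ ⊥ := fun h0 => hQ1 ((map_eq_bot_iff_of_injective Q M.subtype_injective).1 h0)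
  have hle := card_dvd_of_le (le_normalizer_map M Q)
  have hpd : p ∣ Nat.card M := by
    obtain ⟨k, hk⟩ := IsPGroup.iff_card.1 hQp
    have h3 : k ≠ 0 := by
      rintro rfl
      rw [pow_zero, Subgroup.card_eq_one] at hk
      exact hQ1 hk
    exact ((hk ▸ dvd_pow_self p h3 : p ∣ Nat.card Q)).trans (card_subgroup_dvd_card Q)
  rw [hM, hp.dvd_mul] at hpd
  rcases hpd with hpd | hpd
  · have h3 : p = r := (Nat.prime_dvd_prime_iff_eq hp hr).1 (hp.dvd_of_dvd_pow hpd)
    subst h3
    exact h1 _ hQ' hQ1' (hs1.trans hle)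
  · have h3 : p = s := (Nat.prime_dvd_prime_iff_eq hp hs).1 (hp.dvd_of_dvd_pow hpd)
    subst h3
    exact h2 _ hQ' hQ1' (hr1.trans hle)

theorem noOdd_of_uniq {r s : ℕ} (hr : r.Prime) (hs : s.Prime) (hrs : r ≠ s) (hur : Uniq S r) (hus : Uniq S s)
    (h1 : ∀ x : S, orderOf x = r → ¬ s ∣ Nat.card (normalizer ((zpowers x : Subgroup S) : Set S)))
    (h2 : ∀ x : S, orderOf x = s → ¬ r ∣ Nat.card (normalizer ((zpowers x : Subgroup S) : Set S))) : NoOdd S r s := by
  refine noOdd_of hr hs hrs (fun R hR hR1 hd => ?_) (fun R hR hR1 hd => ?_)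
  · obtain ⟨x, -, hx, hle⟩ := hur.exists_mem hr hR hR1
    exact h1 x hx (hd.trans (card_dvd_of_le hle))
  · obtain ⟨x, -, hx, hle⟩ := hus.exists_mem hs hR hR1
    exact h2 x hx (hd.trans (card_dvd_of_le hle))

/-! ### the `p`-part of the subgroups of odd order -/

/-- **The `p`-part of the subgroups of odd order with elements of order `r`.** -/
theorem odd_bound {p r a b : ℕ} (hp : p.Prime) (hr : r.Prime) (hpr : p ≠ r)
    (hX : ∀ X : Subgroup S, IsPGroup p X → ∀ x ∈ normalizer (X : Set S), orderOf x = r → v p X ≤ a)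
    (hN : ∀ R : Subgroup S, IsPGroup r R → R ≠ ⊥ → v p (normalizer (R : Set S)) ≤ b)
    (H : Subgroup S) (hH : Odd (Nat.card H)) (hrH : r ∣ Nat.card H) : v p H ≤ a + b := by
  have hpF := Fact.mk hp
  have hrF := Fact.mk hr
  obtain ⟨M, hMH, hM⟩ := exists_hall hH hp hr hpr
  have hMo : Odd (Nat.card M) := hH.of_dvd_nat (card_dvd_of_le hMH)
  have hsol : Group.IsSolvable ↥M := Cfsg.Agent.S0205.result hMo
  have hrM : r ∣ Nat.card M := by
    rw [hM]
    exact Dvd.dvd.mul_left (dvd_pow_self r ((v_pos hr).2 hrH).ne') _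
  have hpM : p ^ v p H ∣ Nat.card M := hM ▸ dvd_mul_right _ _
  -- the largest normal `p`-subgroup
  have hfin : {X : Subgroup ↥M | X.Normal ∧ IsPGroup p X}.Finite := Set.toFinite _
  obtain ⟨X, hXm⟩ := hfin.exists_maximal ⟨⊥, inferInstance, IsPGroup.of_bot⟩
  obtain ⟨⟨hXn, hXp⟩, hXmax⟩ := hXm
  -- the quotient is not trivial
  have hrX : ¬ r ∣ Nat.card X := by
    intro hd
    obtain ⟨k, hk⟩ := IsPGroup.iff_card.1 hXp
    rw [hk] at hd
    exact hpr.symm ((Nat.prime_dvd_prime_iff_eq hr hp).1 (hr.dvd_of_dvd_pow hd))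
  have hcardq : Nat.card ↥M = Nat.card X * Nat.card (↥M ⧸ X) := by
    rw [mul_comm]; exact (Subgroup.card_eq_card_quotient_mul_card_subgroup X)
  have hrq : r ∣ Nat.card (↥M ⧸ X) := by
    rw [hcardq, hr.dvd_mul] at hrM
    exact hrM.resolve_left hrX
  have hq1 : (⊤ : Subgroup (↥M ⧸ X)) ≠ ⊥ := by
    intro h0
    have h3 : Nat.card (↥M ⧸ X) = 1 := by
      rw [← Subgroup.card_top, h0, Subgroup.card_bot]
    rw [h3] at hrq
    exact hr.one_lt.ne' (Nat.dvd_one.1 hrq)
  have hts : Group.IsSolvable ↥(⊤ : Subgroup (↥M ⧸ X)) :=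
    Group.isSolvable_of_isSolvable_injective (subtype_injective _)
  obtain ⟨t, Q, ht, hQn, hQ1, -, hQp⟩ := H470.SolvPi.exists_normal_pgroup (G := ↥M ⧸ X) inferInstance hq1 hts
  have htF := Fact.mk ht
  obtain ⟨k, hk⟩ := IsPGroup.iff_card.1 hQp
  have hk0 : k ≠ 0 := by
    rintro rfl
    rw [pow_zero, Subgroup.card_eq_one] at hk
    exact hQ1 hk
  -- the preimage
  set Y : Subgroup ↥M := Q.comap (QuotientGroup.mk' X) with hY
  have hYn : Y.Normal := hQn.comap _
  have hXY : X ≤ Y := by
    intro z hz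
    rw [hY, mem_comap, show QuotientGroup.mk' X z = 1 from (QuotientGroup.eq_one_iff z).2 hz]
    exact one_mem _
  have hYX : Nat.card Y = Nat.card X * Nat.card Q := by
    have h3 : Y.index = Q.index := index_comap_of_surjective Q (QuotientGroup.mk'_surjective X)
    have h4 := Subgroup.card_mul_index Y
    have h5 := Subgroup.card_mul_index Q
    have h6 : 0 < Q.index := Nat.pos_of_ne_zero Q.index_ne_zero_of_finite
    apply Nat.eq_of_mul_eq_mul_right h6
    rw [mul_assoc, h5, ← hcardq, ← h3, h4]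
  have htr : t = r := by
    have h3 : t ∣ Nat.card ↥M := ((hk ▸ dvd_pow_self t hk0 : t ∣ Nat.card Q).trans
      (card_subgroup_dvd_card Q)).trans (hcardq ▸ dvd_mul_left _ _)
    rw [hM, ht.dvd_mul] at h3
    rcases h3 with h3 | h3
    · exfalso
      have h4 : t = p := (Nat.prime_dvd_prime_iff_eq ht hp).1 (ht.dvd_of_dvd_pow h3)
      subst h4
      have h5 : IsPGroup t Y := hQp.comap_of_ker_isPGroup _ (by rw [QuotientGroup.ker_mk']; exact hXp)
      have h6 : Y = X := le_antisymm (hXmax ⟨hYn, h5⟩ hXY) hXY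
      have h7 : Nat.card Q = 1 := by
        rw [h6] at hYX
        exact Nat.eq_of_mul_eq_mul_left (Nat.card_pos (α := X)) (by rw [mul_one]; exact hYX.symm)
      rw [hk] at h7
      exact ht.one_lt.ne' ((Nat.pow_eq_one.1 h7).resolve_right hk0)
    · exact (Nat.prime_dvd_prime_iff_eq ht hr).1 (ht.dvd_of_dvd_pow h3)
  subst htr
  -- the Frattini argument
  obtain ⟨P⟩ : Nonempty (Sylow t ↥Y) := inferInstance
  have hfr := Sylow.normalizer_sup_eq_top P
  set R : Subgroup ↥M := (P : Subgroup ↥Y).map Y.subtype with hR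
  have hRY : R ≤ Y := map_subtype_le _
  have hRp : IsPGroup t R := P.isPGroup'.map _
  have hRc : t ^ k ∣ Nat.card R := by
    rw [hR, card_map_subtype, P.card_eq_multiplicity]
    apply Nat.pow_dvd_pow
    rw [← ht.pow_dvd_iff_le_factorization Nat.card_pos.ne', hYX, hk]
    exact dvd_mul_left _ _
  have hR1 : R ≠ ⊥ := by
    intro h0
    rw [h0, Subgroup.card_bot] at hRc
    exact ht.one_lt.ne' ((Nat.pow_eq_one.1 (Nat.dvd_one.1 hRc)).resolve_right hk0)
  set N : Subgroup ↥M := normalizer (R : Set ↥M) with hN'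
  have hRN : R ≤ N := le_normalizer
  have hYRX : Y = R ⊔ X := by
    symm
    apply Subgroup.eq_of_le_of_card_ge (sup_le hRY hXY)
    rw [hYX, hk]
    apply Nat.le_of_dvd Nat.card_pos
    have hc : (Nat.card X).Coprime (t ^ k) := by
      apply Nat.Coprime.pow_right
      exact ((Nat.Prime.coprime_iff_not_dvd ht).2 hrX).symm
    exact hc.mul_dvd_of_dvd_of_dvd (card_dvd_of_le le_sup_right) (hRc.trans (card_dvd_of_le le_sup_left))
  have hNX : N ⊔ X = ⊤ := by
    rw [eq_top_iff, ← hfr]
    refine sup_le le_sup_left ?_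
    rw [hYRX]
    exact sup_le (hRN.trans le_sup_left) le_sup_right
  have h1 : Nat.card ↥M ∣ Nat.card X * Nat.card N := by
    rw [hcardq]
    apply Nat.mul_dvd_mul_left
    have h2 : Nat.card (↥M ⧸ X) = X.relIndex N := by
      rw [← relIndex_sup_right (H := N) (K := X), hNX, relIndex_top_right]
      rfl
    rw [h2]
    exact relIndex_dvd_card X N
  have h2 : v p M ≤ v p X + v p N := by
    have h3 := (Nat.factorization_le_iff_dvd Nat.card_pos.ne'
      (mul_ne_zero Nat.card_pos.ne' Nat.card_pos.ne')).2 h1 p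
    rwa [Nat.factorization_mul Nat.card_pos.ne' Nat.card_pos.ne', Finsupp.add_apply] at h3
  have h3 : v p H ≤ v p M := (hp.pow_dvd_iff_le_factorization Nat.card_pos.ne').1 hpM
  obtain ⟨⟨x, hxM⟩, hxo⟩ := exists_prime_orderOf_dvd_card' t hrM
  have hxo' : orderOf x = t := by rw [← hxo]; exact (Subgroup.orderOf_mk x hxM).symm
  have h4 : v p X ≤ a := by
    have h5 := hX (X.map M.subtype) (hXp.map _) x (le_normalizer_map M X hxM) hxo'
    simp only [v] at h5 ⊢
    rwa [card_map_subtype] at h5
  have h5 : v p N ≤ b := by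
    have h6 : N.map M.subtype ≤ normalizer ((R.map M.subtype : Subgroup S) : Set S) := by
      rintro _ ⟨n, hn, rfl⟩
      rw [mem_normalizer_iff]
      intro w
      constructor
      · rintro ⟨y, hy, rfl⟩
        exact ⟨n * y * n⁻¹, (mem_normalizer_iff.1 hn y).1 hy, rfl⟩
      · rintro ⟨y, hy, he⟩
        refine ⟨n⁻¹ * y * n, ?_, ?_⟩
        · have h7 := (mem_normalizer_iff.1 hn (n⁻¹ * y * n)).2
          apply h7
          have h8 : n * (n⁻¹ * y * n) * n⁻¹ = y := by group
          rw [h8]; exact hy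
        · have h9 : (y : S) = n * w * (n : S)⁻¹ := he
          show (n : S)⁻¹ * (y : S) * n = w
          rw [h9]; group
    have h7 := hN (R.map M.subtype) (hRp.map _)
      (fun h0 => hR1 ((map_eq_bot_iff_of_injective R M.subtype_injective).1 h0))
    have h8 := v_mono h6 p
    simp only [v] at h7 h8 ⊢
    rw [card_map_subtype] at h8
    exact h8.trans h7
  omega

theorem odd_bound_of_uniq {p r a b : ℕ} (hp : p.Prime) (hr : r.Prime) (hpr : p ≠ r) (hu : Uniq S r)
    (hX : ∀ X : Subgroup S, IsPGroup p X → ∀ x ∈ normalizer (X : Set S), orderOf x = r → v p X ≤ a)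
    (hN : ∀ x : S, orderOf x = r → v p (normalizer ((zpowers x : Subgroup S) : Set S)) ≤ b)
    (H : Subgroup S) (hH : Odd (Nat.card H)) (hrH : r ∣ Nat.card H) : v p H ≤ a + b := by
  refine odd_bound hp hr hpr hX (fun R hR hR1 => ?_) H hH hrH
  obtain ⟨x, -, hx, hle⟩ := hu.exists_mem hr hR hR1
  exact (v_mono hle p).trans (hN x hx)

/-! ### normaliser and centraliser -/

/-- `N(⟨x⟩)/C(x)` is cyclic; if its elements have order dividing `n`, then `|N(⟨x⟩)|` divides `|C(x)| n`. -/
theorem card_normalizer_dvd {r n : ℕ} (hr : r.Prime) {x : S} (hx : orderOf x = r)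
    (h : ∀ y ∈ normalizer ((zpowers x : Subgroup S) : Set S), y ^ n ∈ centralizer ({x} : Set S)) :
    Nat.card ↥(normalizer ((zpowers x : Subgroup S) : Set S)) ∣ Nat.card ↥(centralizer ({x} : Set S)) * n := by
  have hcz : Nat.card ↥(zpowers x) = r := by rw [Nat.card_zpowers, hx]
  have hrF : Fact (Nat.card ↥(zpowers x)).Prime := ⟨hcz ▸ hr⟩
  set N := normalizer ((zpowers x : Subgroup S) : Set S) with hN
  set φ : ↥N →* MulAut ↥(zpowers x) := (zpowers x).normalizerMonoidHom with hφ
  have hcyc : IsCyclic (MulAut ↥(zpowers x)) :=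
    isCyclic_of_surjective (IsCyclic.mulAutMulEquiv ↥(zpowers x)).symm.toMonoidHom
      (IsCyclic.mulAutMulEquiv ↥(zpowers x)).symm.surjective
  have hcen : centralizer ((zpowers x : Subgroup S) : Set S) = centralizer ({x} : Set S) := by
    ext y
    rw [mem_centralizer_iff, mem_centralizer_singleton_iff]
    constructor
    · intro h1
      exact (h1 x (mem_zpowers x)).symm
    · rintro h1 _ ⟨k, rfl⟩
      exact ((Commute.zpow_right (show Commute y x from h1) k).symm).eq
  have hker : Nat.card φ.ker = Nat.card ↥(centralizer ({x} : Set S)) := by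
    rw [hφ, Subgroup.normalizerMonoidHom_ker, hcen]
    exact Nat.card_congr (Subgroup.subgroupOfEquivOfLe
      (hcen ▸ centralizer_le_normalizer _)).toEquiv
  have hrc : IsCyclic φ.range := inferInstance
  have hrn : Nat.card φ.range ∣ n := by
    obtain ⟨g, hg⟩ := hrc.exists_ofOrder_eq_natCard
    rw [← hg]
    apply orderOf_dvd_of_pow_eq_one
    obtain ⟨⟨_, ⟨y, rfl⟩⟩, hgy⟩ : ∃ g', g' = g := ⟨g, rfl⟩
    rw [← hgy]
    apply Subtype.ext
    show φ y ^ n = 1
    rw [← map_pow, ← MonoidHom.mem_ker, hφ, Subgroup.normalizerMonoidHom_ker, mem_subgroupOf, hcen]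
    exact h y y.2
  have h1 : Nat.card ↥N = Nat.card φ.ker * Nat.card φ.range := by
    rw [← Subgroup.card_mul_index φ.ker, Subgroup.index_ker]
  rw [h1, hker]
  exact Nat.mul_dvd_mul_left _ hrn

end Cfsg.Agent.H160.PD
end
end
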