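import Cfsg.Agent.H14.DP.Orth
import Cfsg.Agent.H200.RowOrthL_m3
import Cfsg.Agent.H160.PD.Crit
import Cfsg.Agent.H470.SolvPi
import Cfsg.Agent.S0817
import Cfsg.Agent.H889.PDL.Cen
import Cfsg.Agent.H568.FieldFix
import Cfsg.Agent.H100.AltSyl.PslPts
import Cfsg.Agent.H817.PD.Final_m3
import Cfsg.Agent.H160.PD.Tools
import Cfsg.Agent.S0290
import Cfsg.Agent.S0818
import Cfsg.Agent.H528.PDAlt.Main
import Cfsg.Prelude.Def_Classification2
import Cfsg.Agent.Lib.Zsigmondy
import Cfsg.Agent.H719.RowTData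
import Cfsg.Agent.H129.CycCard
import Cfsg.Prelude.Def_LieChev
import Cfsg.Agent.H378.SmallTor_m3
import Cfsg.Agent.H83.RowE6_m3
import Cfsg.Agent.H568.FldExc
import Cfsg.Agent.H70.OutE
import Cfsg.Agent.H77.E4Poly_m3
import Cfsg.Agent.S1064
import Cfsg.Agent.S1054
import Mathlib
import Cfsg.Agent.H92.PRegE8R
import Cfsg.Agent.S0205
import Cfsg.Agent.S0005
import Cfsg.Agent.Lib.SolvableNormalP
import Cfsg.Agent.H129.CycRow
import Cfsg.Agent.S2125
import Cfsg.Agent.S1065
import Cfsg.Agent.H83.TorAut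
import Cfsg.Agent.H568.RowTools_m3
import Cfsg.Agent.H378.RegE7
import Cfsg.Agent.S2312
import Cfsg.Agent.KFacts.RgdLieCharP
import Cfsg.Agent.S2121
import Cfsg.Agent.H568.OwnCharChev
import Cfsg.Agent.S2122
import Cfsg.Agent.H173.RU.Lin
import Cfsg.Agent.LieRecognition.ReeAbs
import Cfsg.Agent.H798.RowTwD
import Cfsg.Agent.SignalizersComponents.BalEndSz
import Cfsg.Agent.ChevalleyStructure.Ree.Data
import Cfsg.Agent.S1155
import Cfsg.Agent.S1157
import Cfsg.Agent.S1158
import Cfsg.Agent.S2358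
import Cfsg.Agent.S2361
import Cfsg.Agent.H129.DataE6e
import Cfsg.Agent.H56.Exc.Auto_m3
import Cfsg.Agent.H946.ExcNum_m3
import Cfsg.Agent.H742.PD.BigE6_m3
import Cfsg.Agent.H699.PD.TwDBT
import Cfsg.Agent.H83.RowD4
import Cfsg.Agent.Lib.Cores
import Cfsg.Prelude.Def_CaseTheorems
import Cfsg.Agent.S1074
import Cfsg.Agent.Mrg.Omega.TwoF.RowTh_m3
import Cfsg.Agent.EvenType.ChevTwoTits
import Cfsg.Agent.FastGrp
import Cfsg.Agent.Prune
set_option linter.all false

section
prune_inst 0x7ff8ecf8abb8b7deffff7e3fa6d8cdfc11809fffa4dff94bffe061af0b9f030809c5f38d09e010fe0e82401410a87843f97eeeffe06bdc7ffffd5ff41ffbee0fe5f73508119488340f340ff683f0778e7f3fffffffffffffffffffffffffffbeffbffffffffd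

-- part: H14/PD/Four
section
prune_inst 0x712051404402100000040502002002a5600001200000000008850e040a08204000800040040000054822008100000008110000300000000000000400000000008880000420000000860097000000000000000000000000000000000000000000000000002
set_option linter.all false
open scoped Cfsg.Agent.FastGrp

-- part: H14/PD/CentOrd
section
/-!
# S4246, row of `POmega^+_{2n}(q)`: the `t`-parts of the centralisers of the elements of order `r₀`, `r₁` (helper14)
-/

set_option autoImplicit false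
set_option linter.unusedSectionVars false

namespace Cfsg.Agent.H14.PD

open QuadraticMap Module Cfsg.Agent.LieClassical.OrthCore Cfsg.Agent.LieClassical.OrthTrans
open Cfsg.Agent.ClassicalGeometry.OrthSemi Cfsg.Agent.ClassicalGeometry.OrthAut1
open Cfsg.Agent.H200.LinFix Cfsg.Agent.H200.RowOrth Cfsg.Agent.H568
open Cfsg.Agent.H160.PD (v v_mono v_eq_zero v_pos Fx mem_Fx NoOdd noOdd_of)
open Cfsg.Agent.Classification.InvCentU.FiveLib (card_dvd_of_free)

variable {F V : Type*} [Field F] [AddCommGroup V] [Module F V] {Q : QuadraticForm F V}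

variable {n p f d : ℕ} [Finite V] [Finite F]

/-- an element trivial on `R y` and on a nonzero vector of the plane `K y` -/
theorem eq_one_of_fix (hpar : ∀ g : ↥(E Q), Even (finrank F (R (en Q g)))) {l : ℕ}
    (hlF : (l : F) ≠ 0) {y : ↥(E Q)} (hy : y ^ l = 1) (hK : finrank F (K (en Q y)) ≤ 2)
    {s : ↥(E Q)} (htriv : ∀ w ∈ R (en Q y), en Q s w = w) {w : V} (hw : w ∈ K (en Q y)) (hw0 : w ≠ 0)
    (hsw : en Q s w = w) : s = 1 := by
  have hfd : FiniteDimensional F V := inferInstance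
  have hy' : en Q y ^ l = 1 := by rw [← map_pow, hy, map_one]
  have h2 : R (en Q y) ⊔ Submodule.span F {w} ≤ K (en Q s) := by
    refine sup_le (fun u hu => mem_K.2 (htriv u hu)) ?_
    rw [Submodule.span_singleton_le_iff_mem]
    exact mem_K.2 hsw
  have h3 : R (en Q y) ⊓ Submodule.span F {w} = ⊥ := by
    rw [eq_bot_iff]
    rintro x ⟨hx, hx'⟩
    obtain ⟨c, rfl⟩ := Submodule.mem_span_singleton.1 hx'
    exact eq_zero_of_mem hy' hlF (mem_K.1 (Submodule.smul_mem _ c hw)) hx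
  have h4 := Submodule.finrank_sup_add_finrank_inf_eq (R (en Q y)) (Submodule.span F {w})
  rw [h3, finrank_bot, finrank_span_singleton hw0] at h4
  have h5 := Submodule.finrank_mono h2
  have h6 := finrank_add (en Q s)
  have h7 := finrank_add (en Q y)
  have h8 := hpar s
  have h9 : finrank F (R (en Q s)) = 0 := by
    rw [Nat.even_iff] at h8
    omega
  rw [Submodule.finrank_eq_zero, R_eq_bot] at h9
  exact en_injective (h9.trans (map_one _).symm)

theorem comm_K {y s : ↥(E Q)} (h : s ∈ Subgroup.centralizer ({y} : Set ↥(E Q))) : ∀ w ∈ K (en Q y), en Q s w ∈ K (en Q y) :=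
  fun w hw => K_inv (by rw [← map_mul, ← map_mul, Subgroup.mem_centralizer_singleton_iff.1 h]) hw

/-- the number of nonzero vectors -/
theorem card_ne_zero (W : Submodule F V) : Nat.card {v : V // v ∈ W ∧ v ≠ 0} = Nat.card F ^ finrank F W - 1 := by
  classical
  have h1 : Nat.card W = Nat.card (Option {v : V // v ∈ W ∧ v ≠ 0}) := by
    refine Nat.card_congr ⟨fun v => if h : (v : V) = 0 then none else some ⟨v, v.2, h⟩,
      fun v => v.elim 0 (fun v => ⟨v, v.2.1⟩), ?_, ?_⟩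
    · intro v
      by_cases h : (v : V) = 0
      · simp only [h, dif_pos]
        exact Subtype.ext h.symm
      · simp only [h, dif_neg, not_false_eq_true]
        rfl
    · rintro (_ | v)
      · simp
      · have := v.2.2
        simp [this]
  rw [Finite.card_option, Module.natCard_eq_pow_finrank (K := F)] at h1
  omega

/-- `g v = c v` for an element `g` of odd prime power order and a nonsingular vector `v` -/
theorem smul_eq_one {g : ↥(E Q)} {w : V} (hw0 : w ≠ 0) (hQw : Q w ≠ 0) {c : F} (h3 : (g : V ≃ₗ[F] V) w = c • w) {t k : ℕ}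
    (ht : t.Prime) (ht2 : t ≠ 2) (hg : g ^ t ^ k = 1) : c = 1 := by
  have h4 : Q ((g : V ≃ₗ[F] V) w) = Q w := E_le_O g.2 w
  rw [h3, QuadraticMap.map_smul, smul_eq_mul] at h4
  have h5 : c * c = 1 := by
    have h6 : (c * c - 1) * Q w = 0 := by rw [sub_mul, h4, one_mul, sub_self]
    exact sub_eq_zero.1 ((mul_eq_zero.1 h6).resolve_right hQw)
  have h9 : ∀ i : ℕ, ((g ^ i : ↥(E Q)) : V ≃ₗ[F] V) w = c ^ i • w := by
    intro i
    induction i with
    | zero => rw [pow_zero, pow_zero, one_smul]; rfl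
    | succ i ih =>
      rw [pow_succ, pow_succ]
      change ((g ^ i : ↥(E Q)) : V ≃ₗ[F] V) ((g : V ≃ₗ[F] V) w) = _
      rw [h3, map_smul, ih, smul_smul, mul_comm]
  have h10 := h9 (t ^ k)
  rw [hg] at h10
  have h11 : (c ^ t ^ k - 1) • w = 0 := by
    rw [sub_smul, ← h10, one_smul]
    exact sub_self w
  have h12 : c ^ t ^ k = 1 := sub_eq_zero.1 ((smul_eq_zero.1 h11).resolve_right hw0)
  obtain ⟨j, hj⟩ : ∃ j, t ^ k = 2 * j + 1 := (ht.odd_of_ne_two ht2).pow
  rw [hj, pow_succ, pow_mul, pow_two, h5, one_pow, one_mul] at h12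
  exact h12

/-- a `t`-group trivial on `R y`, anisotropic plane -/
theorem card_dvd_aniso (hpar : ∀ g : ↥(E Q), Even (finrank F (R (en Q g)))) {l : ℕ}
    (hlF : (l : F) ≠ 0) {y : ↥(E Q)} (hy : y ^ l = 1) (hK : finrank F (K (en Q y)) = 2)
    (hns : ∀ w ∈ K (en Q y), Q w = 0 → w = 0) {t : ℕ} (ht : t.Prime) (ht2 : t ≠ 2)
    {T : Subgroup ↥(E Q)} (hT : IsPGroup t T) (hTy : ∀ g ∈ T, g ∈ Subgroup.centralizer ({y} : Set ↥(E Q)))
    (hTR : ∀ c ∈ T, ∀ w ∈ R (en Q y), (c : V ≃ₗ[F] V) w = w) : Nat.card T ∣ Nat.card F + 1 := by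
  classical
  have hfinE : Finite ↥(E Q) := finite_E
  let act : MulAction (↥T × Fˣ) {v : V // v ∈ K (en Q y) ∧ v ≠ 0} :=
    { smul := fun g v => ⟨(g.2 : F) • (g.1.1 : V ≃ₗ[F] V) v,
        Submodule.smul_mem _ _ (comm_K (hTy _ g.1.2) v v.2.1),
        fun h => v.2.2 ((LinearEquiv.map_eq_zero_iff _).1 ((smul_eq_zero.1 h).resolve_left g.2.ne_zero))⟩
      one_smul := fun v => Subtype.ext (by
        change ((1 : Fˣ) : F) • (v : V) = v
        rw [Units.val_one, one_smul])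
      mul_smul := fun g h v => Subtype.ext (by
        change ((g.2 * h.2 : Fˣ) : F) • (g.1.1 : V ≃ₗ[F] V) ((h.1.1 : V ≃ₗ[F] V) v) =
          (g.2 : F) • (g.1.1 : V ≃ₗ[F] V) ((h.2 : F) • (h.1.1 : V ≃ₗ[F] V) v)
        rw [map_smul, smul_smul, Units.val_mul]) }
  have h1 := card_dvd_of_free (A := ↥T × Fˣ) (X := {v : V // v ∈ K (en Q y) ∧ v ≠ 0}) (by
    rintro ⟨g, c⟩ ⟨w, hw, hw0⟩ hgw
    have h2 : (c : F) • (g.1 : V ≃ₗ[F] V) w = w := congrArg Subtype.val hgw
    have h3 : (g.1 : V ≃ₗ[F] V) w = ((c⁻¹ : Fˣ) : F) • w := by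
      conv_rhs => rw [← h2]
      rw [smul_smul, Units.inv_mul, one_smul]
    obtain ⟨k, hk⟩ := hT g
    have h8 : ((c⁻¹ : Fˣ) : F) = 1 := smul_eq_one (g := g.1) hw0 (fun h => hw0 (hns w hw h)) h3 ht ht2
      (congrArg Subtype.val hk)
    have h9 : c = 1 := inv_eq_one.1 (Units.ext h8)
    have h10 : g.1 = 1 := by
      refine eq_one_of_fix hpar hlF hy hK.le (fun u hu => hTR _ g.2 u hu) hw hw0 ?_
      change (g.1 : V ≃ₗ[F] V) w = w
      rw [h3, h8, one_smul]
    exact Prod.ext (Subtype.ext h10) h9)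
  rw [Nat.card_prod, card_ne_zero, hK, Nat.card_units] at h1
  have hq : 1 < Nat.card F := Finite.one_lt_card
  have h2 : Nat.card F ^ 2 - 1 = (Nat.card F + 1) * (Nat.card F - 1) := Nat.sq_sub_sq (Nat.card F) 1
  rw [h2] at h1
  exact Nat.dvd_of_mul_dvd_mul_right (by omega) h1

/-- the kernel on `R y`, anisotropic plane -/
theorem v_ker_aniso (hpar : ∀ g : ↥(E Q), Even (finrank F (R (en Q g)))) {l : ℕ}
    (hlF : (l : F) ≠ 0) {y : ↥(E Q)} (hy : y ^ l = 1) (hK : finrank F (K (en Q y)) = 2)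
    (hns : ∀ w ∈ K (en Q y), Q w = 0 → w = 0)
    {L : Subgroup ↥(Subgroup.centralizer ({y} : Set ↥(E Q)))} (hL : ∀ c ∈ L, ∀ w ∈ R (en Q y), (c.1 : V ≃ₗ[F] V) w = w)
    {t : ℕ} (ht : t.Prime) (ht2 : t ≠ 2) : v t L ≤ (Nat.card F + 1).factorization t := by
  classical
  have htF := Fact.mk ht
  have hfinE : Finite ↥(E Q) := finite_E
  obtain ⟨T⟩ : Nonempty (Sylow t ↥L) := inferInstance
  have h1 := card_dvd_aniso hpar hlF hy hK hns ht ht2
    (T := ((((T : Subgroup ↥L).map L.subtype).map (Subgroup.centralizer ({y} : Set ↥(E Q))).subtype :)))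
    ((T.isPGroup'.map _).map _) (by
      rintro _ ⟨g, -, rfl⟩
      exact g.2) (by
      rintro _ ⟨_, ⟨g, -, rfl⟩, rfl⟩
      exact hL g.1 g.2)
  rw [Cfsg.Agent.H160.PD.card_map_subtype, Cfsg.Agent.H160.PD.card_map_subtype, T.card_eq_multiplicity] at h1
  exact (ht.pow_dvd_iff_le_factorization (by omega)).1 h1

/-- the kernel on `R y`, hyperbolic plane -/
theorem v_ker_hyp (hG : Good Q) (hpar : ∀ g : ↥(E Q), Even (finrank F (R (en Q g)))) {l : ℕ}
    (hlF : (l : F) ≠ 0) {y : ↥(E Q)} (hy : y ^ l = 1) (hK : finrank F (K (en Q y)) = 2) {e : V} (he : e ∈ K (en Q y))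
    (he0 : e ≠ 0) (hQe : Q e = 0)
    {L : Subgroup ↥(Subgroup.centralizer ({y} : Set ↥(E Q)))} (hL : ∀ c ∈ L, ∀ w ∈ R (en Q y), (c.1 : V ≃ₗ[F] V) w = w)
    {t : ℕ} (ht : t.Prime) (ht2 : t ≠ 2) : v t L ≤ (Nat.card F - 1).factorization t := by
  classical
  have hfinE : Finite ↥(E Q) := finite_E
  have hy' : en Q y ^ l = 1 := by rw [← map_pow, hy, map_one]
  have hnd : ∀ v ∈ K (en Q y), (∀ u ∈ K (en Q y), polarBilin Q u v = 0) → v = 0 := fun w hw h =>
    nondeg_K (isom_en y) (polar_nondeg hG) hy' hlF hw h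
  have h1 := card_sing_plane hK hnd he he0 hQe
  have hq : 1 < Nat.card F := Finite.one_lt_card
  have h2 : Nat.card {v : V // v ∈ K (en Q y) ∧ Q v = 0 ∧ v ≠ 0} = 2 * (Nat.card F - 1) := by
    have h3 : Nat.card {v : V // v ∈ K (en Q y) ∧ Q v = 0} =
        Nat.card (Option {v : V // v ∈ K (en Q y) ∧ Q v = 0 ∧ v ≠ 0}) := by
      refine Nat.card_congr ⟨fun v => if h : (v : V) = 0 then none else some ⟨v, v.2.1, v.2.2, h⟩,
        fun v => v.elim ⟨0, Submodule.zero_mem _, QuadraticMap.map_zero _⟩ (fun v => ⟨v, v.2.1, v.2.2.1⟩), ?_, ?_⟩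
      · intro v
        by_cases h : (v : V) = 0
        · simp only [h, dif_pos]
          exact Subtype.ext h.symm
        · simp only [h, dif_neg, not_false_eq_true]
          rfl
      · rintro (_ | v)
        · simp
        · have := v.2.2.2
          simp [this]
    rw [Finite.card_option] at h3
    omega
  let act : MulAction ↥L {v : V // v ∈ K (en Q y) ∧ Q v = 0 ∧ v ≠ 0} :=
    { smul := fun g v => ⟨(g.1.1 : V ≃ₗ[F] V) v, comm_K g.1.2 v v.2.1, by rw [E_le_O g.1.1.2]; exact v.2.2.1,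
        fun h => v.2.2.2 (LinearEquiv.map_eq_zero_iff _ |>.1 h)⟩
      one_smul := fun v => rfl
      mul_smul := fun g h v => rfl }
  have h3 := card_dvd_of_free (A := ↥L) (X := {v : V // v ∈ K (en Q y) ∧ Q v = 0 ∧ v ≠ 0}) (by
    rintro g ⟨w, hw, hQw, hw0⟩ hgw
    apply Subtype.ext
    apply Subtype.ext
    exact eq_one_of_fix hpar hlF hy hK.le (fun u hu => hL _ g.2 u hu) hw hw0 (congrArg Subtype.val hgw))
  rw [h2] at h3
  have h4 : Nat.card F - 1 ≠ 0 := by omega
  have h5 := (Nat.factorization_le_iff_dvd Nat.card_pos.ne' (mul_ne_zero two_ne_zero h4)).2 h3 t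
  rw [Nat.factorization_mul two_ne_zero h4, Finsupp.add_apply, Nat.factorization_eq_zero_of_not_dvd (n := 2)
    (fun h => ht2 ((Nat.prime_dvd_prime_iff_eq ht Nat.prime_two).1 h)), zero_add] at h5
  exact h5

theorem v_le_of_index {G : Type*} [Group G] [Finite G] {L : Subgroup G} {N : ℕ} (hN : N ≠ 0) (h : L.index ∣ N) (t : ℕ) :
    v t G ≤ v t L + N.factorization t := by
  have h1 := L.card_mul_index
  have h2 : L.index ≠ 0 := Subgroup.index_ne_zero_of_finite
  simp only [v]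
  rw [← h1, Nat.factorization_mul Nat.card_pos.ne' h2, Finsupp.add_apply]
  exact Nat.add_le_add_left ((Nat.factorization_le_iff_dvd h2 hN).2 h t) _

/-- the `t`-part of the centraliser of an element of order `r₀` -/
theorem Plus.v_cent_first (H : Plus Q n p f) {l : ℕ} [hl : Fact l.Prime] (hl2 : l ≠ 2) (hlF : (l : F) ≠ 0)
    (hd : Ordd l (Nat.card F) (2 * (n - 1))) (hld : l ∣ Nat.card F ^ (n - 1) + 1) {y : ↥(E Q)} (hy : y ^ l = 1)
    (hy1 : y ≠ 1) {t : ℕ} (ht : t.Prime) (ht2 : t ≠ 2) : v t (Subgroup.centralizer ({y} : Set ↥(E Q))) ≤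
      (Nat.card F ^ (n - 1) + 1).factorization t + (Nat.card F + 1).factorization t := by
  have hfinE : Finite ↥(E Q) := finite_E
  have hn := H.hn
  obtain ⟨h1, h2⟩ := H.dim_first hlF hd hy hy1
  obtain ⟨L, hL, hLi⟩ := Cfsg.Agent.H311.PD.exists_kernel H.good hl2 hlF hy hy1 (H.irr_first hlF hd hy) h1
  have h3 := v_ker_aniso H.hpar hlF hy h2 (fun w hw hQw => no_sing_K H.good (by omega) H.hV H.hsing hl2 hlF hd hld hy hy1
    hw hQw) (fun c hc => (hL c).1 hc) ht ht2
  have h4 := v_le_of_index (show Nat.card F ^ (n - 1) + 1 ≠ 0 from Nat.succ_ne_zero _) hLi t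
  omega

/-- the action of the centraliser of `y` on `U` -/
theorem exists_kernel_split (hG : Good Q) {l : ℕ} [hl : Fact l.Prime] (hl2 : l ≠ 2) (hlF : (l : F) ≠ 0)
    {y : ↥(E Q)} (hy : y ^ l = 1) (hd : Ordd l (Nat.card F) d) (hdo : Odd d) {U U' : Submodule F V}
    (h : Split Q y d U U') :
    ∃ L : Subgroup ↥(Subgroup.centralizer ({y} : Set ↥(E Q))),
      (∀ c ∈ L, ∀ w ∈ R (en Q y), (c.1 : V ≃ₗ[F] V) w = w) ∧ L.index ∣ Nat.card F ^ d - 1 := by
  classical
  have hfinE : Finite ↥(E Q) := finite_E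
  have hfd : FiniteDimensional F V := inferInstance
  have hd0 := hdo.pos
  have hy' : en Q y ^ l = 1 := by rw [← map_pow, hy, map_one]
  have hU0 : U ≠ ⊥ := by
    rintro rfl
    have := h.dim
    rw [finrank_bot] at this
    omega
  have hn : Nontrivial U := Submodule.nontrivial_iff_ne_bot.2 hU0
  have hirr : Irr (en Q y) U := irr_of_lt hd hlF hy' h.le h.inv (by rw [h.dim]; omega)
  have hcomm : ∀ c : ↥(Subgroup.centralizer ({y} : Set ↥(E Q))), c.1 * y = y * c.1 := fun c =>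
    Subgroup.mem_centralizer_singleton_iff.1 c.2
  have hcU : ∀ c : ↥(Subgroup.centralizer ({y} : Set ↥(E Q))), ∀ w ∈ U, en Q c.1 w ∈ U := fun c =>
    h.comm_inv hG hl2 hlF hy hd hdo (hcomm c)
  let ρ : ↥(Subgroup.centralizer ({y} : Set ↥(E Q))) →* Module.End F U :=
    { toFun := fun c => (en Q c.1).restrict (hcU c)
      map_one' := by
        refine LinearMap.ext fun w => Subtype.ext ?_
        change en Q 1 (w : V) = w
        rw [map_one]; rfl
      map_mul' := fun a b => by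
        refine LinearMap.ext fun w => Subtype.ext ?_
        change en Q (a.1 * b.1) (w : V) = en Q a.1 (en Q b.1 w)
        rw [map_mul]; rfl }
  have hρ : ∀ c, ρ c * (en Q y).restrict h.inv = (en Q y).restrict h.inv * ρ c := fun c => by
    refine LinearMap.ext fun w => Subtype.ext ?_
    change en Q c.1 (en Q y w) = en Q y (en Q c.1 w)
    rw [← Module.End.mul_apply, ← Module.End.mul_apply, ← map_mul, ← map_mul, hcomm]
  obtain ⟨L, hL, hLi⟩ := Cfsg.Agent.H311.PD.card_range_dvd (g := (en Q y).restrict h.inv) (hirr.restrict h.inv) ρ hρ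
    (n := Nat.card F ^ d - 1) (fun c => by
      have hP : Fact (Irreducible (minpoly F ((en Q y).restrict h.inv))) :=
        ⟨irreducible_minpoly (hirr.restrict h.inv)⟩
      obtain ⟨k, hk⟩ := exists_phi (hirr.restrict h.inv) (hρ c)
      obtain ⟨w, hw⟩ := _root_.exists_ne (0 : U)
      have hfin : Finite (KK ((en Q y).restrict h.inv)) := Finite.of_injective _ (phi_bijective (hirr.restrict h.inv) w hw).1
      have hft : Fintype (KK ((en Q y).restrict h.inv)) := Fintype.ofFinite _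
      have hc : Fintype.card (KK ((en Q y).restrict h.inv)) = Nat.card F ^ d := by
        rw [← Nat.card_eq_fintype_card, Module.natCard_eq_pow_finrank (K := F), finrank_KK (hirr.restrict h.inv), h.dim]
      have hk0 : k ≠ 0 := by
        rintro rfl
        rw [map_zero] at hk
        have h1 : ρ c * ρ c⁻¹ = 1 := by rw [← map_mul, mul_inv_cancel, map_one]
        rw [hk, zero_mul] at h1
        exact zero_ne_one h1
      rw [hk, ← map_pow, ← hc, FiniteField.pow_card_sub_one_eq_one k hk0, map_one])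
  refine ⟨L, fun c hc w hw => ?_, hLi⟩
  have h1 : ∀ u ∈ U, en Q c.1 u = u := fun u hu =>
    congrArg Subtype.val (LinearMap.congr_fun ((hL c).1 hc) ⟨u, hu⟩)
  have h2 : ∀ u ∈ U', en Q c.1 u = u := by
    intro u hu
    have hcU' : en Q c.1 u ∈ U' := h.symm.comm_inv hG hl2 hlF hy hd hdo (hcomm c) u hu
    have hmem : en Q c.1 u - u ∈ U' := Submodule.sub_mem _ hcU' hu
    rw [← sub_eq_zero]
    refine nondeg_R (isom_en y) (polar_nondeg hG) hy' hlF (h.le' hmem) fun a ha => ?_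
    rw [← h.sup] at ha
    obtain ⟨b, hb, b', hb', rfl⟩ := Submodule.mem_sup.1 ha
    rw [map_add, LinearMap.add_apply, h.ti' b' hb' _ hmem, add_zero, map_sub, sub_eq_zero]
    conv_lhs => rw [← h1 b hb]
    exact isom_en c.1 b u
  rw [← h.sup] at hw
  obtain ⟨b, hb, b', hb', rfl⟩ := Submodule.mem_sup.1 hw
  change en Q c.1 (b + b') = b + b'
  rw [map_add, h1 b hb, h2 b' hb']

/-- the `t`-part of the centraliser of an element of order `r₁`, `n` odd -/
theorem Plus.v_cent_second_odd (H : Plus Q n p f) (hdo : Odd n) {l : ℕ} [hl : Fact l.Prime] (hl2 : l ≠ 2)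
    (hlF : (l : F) ≠ 0) (hd : Ordd l (Nat.card F) n) (hld : l ∣ Nat.card F ^ n - 1) {y : ↥(E Q)} (hy : y ^ l = 1)
    (hy1 : y ≠ 1) (t : ℕ) : v t (Subgroup.centralizer ({y} : Set ↥(E Q))) ≤ (Nat.card F ^ n - 1).factorization t := by
  have hfinE : Finite ↥(E Q) := finite_E
  have hfd : FiniteDimensional F V := inferInstance
  have hn := H.hn
  obtain ⟨h1, h2⟩ := H.dim_second ⟨hdo, Or.inl rfl⟩ hl2 hlF hd hy hy1
  obtain ⟨U, U', hU⟩ := exists_split H.good hl2 hlF hy hd hld hdo h1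
  obtain ⟨L, hL, hLi⟩ := exists_kernel_split H.good hl2 hlF hy hd hdo hU
  have h3 : R (en Q y) = ⊤ := Submodule.eq_top_of_finrank_eq (by rw [h1, H.hV])
  have h4 : L = ⊥ := by
    rw [eq_bot_iff]
    intro c hc
    rw [Subgroup.mem_bot]
    apply Subtype.ext
    apply Subtype.ext
    ext w
    exact hL c hc w (h3 ▸ Submodule.mem_top)
  have hq : 1 < Nat.card F := Finite.one_lt_card
  have h5 : Nat.card F ^ n - 1 ≠ 0 := by
    have := Nat.one_lt_pow (n := n) (by omega) hq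
    omega
  have h6 := v_le_of_index h5 hLi t
  rw [h4] at h6
  have h7 : v t ↥(⊥ : Subgroup ↥(Subgroup.centralizer ({y} : Set ↥(E Q)))) = 0 := by
    rw [v, Subgroup.card_bot, Nat.factorization_one]; rfl
  rw [h7, zero_add] at h6
  exact h6

/-- the `t`-part of the centraliser of an element of order `r₁`, `n` even -/
theorem Plus.v_cent_second_even (H : Plus Q n p f) (hdo : Odd (n - 1)) {l : ℕ} [hl : Fact l.Prime] (hl2 : l ≠ 2)
    (hlF : (l : F) ≠ 0) (hd : Ordd l (Nat.card F) (n - 1)) (hld : l ∣ Nat.card F ^ (n - 1) - 1) {y : ↥(E Q)} (hy : y ^ l = 1)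
    (hy1 : y ≠ 1) {t : ℕ} (ht : t.Prime) (ht2 : t ≠ 2) : v t (Subgroup.centralizer ({y} : Set ↥(E Q))) ≤
      (Nat.card F ^ (n - 1) - 1).factorization t + (Nat.card F - 1).factorization t := by
  have hfinE : Finite ↥(E Q) := finite_E
  have hfd : FiniteDimensional F V := inferInstance
  have hn := H.hn
  obtain ⟨h1, h2⟩ := H.dim_second ⟨hdo, Or.inr rfl⟩ hl2 hlF hd hy hy1
  have h3 := finrank_add (en Q y)
  rw [h1, H.hV] at h3
  obtain ⟨U, U', hU⟩ := exists_split H.good hl2 hlF hy hd hld hdo h1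
  obtain ⟨L, hL, hLi⟩ := exists_kernel_split H.good hl2 hlF hy hd hdo hU
  obtain ⟨e, he, he0, hQe⟩ := sing_K (by omega) H.hsing hl2 hd hld hy
  have h4 := v_ker_hyp H.good H.hpar hlF hy (by omega) he he0 hQe hL ht ht2
  have hq : 1 < Nat.card F := Finite.one_lt_card
  have h5 : Nat.card F ^ (n - 1) - 1 ≠ 0 := by
    have := Nat.one_lt_pow (n := n - 1) (by omega) hq
    omega
  have h6 := v_le_of_index h5 hLi t
  omega

end Cfsg.Agent.H14.PD
end

-- part: H14/PD/Num
section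
/-!
# S4246, row of `POmega^+_{2n}(q)`: arithmetic (helper14)
-/

set_option autoImplicit false
set_option linter.unusedSectionVars false

namespace Cfsg.Agent.H14.PD

open QuadraticMap Module Cfsg.Agent.LieClassical.OrthCore Cfsg.Agent.LieClassical.OrthTrans
open Cfsg.Agent.ClassicalGeometry.OrthSemi Cfsg.Agent.ClassicalGeometry.OrthAut1
open Cfsg.Agent.H200.LinFix Cfsg.Agent.H200.RowOrth Cfsg.Agent.H568
open Cfsg.Agent.H160.PD (v v_mono v_eq_zero v_pos Fx mem_Fx NoOdd noOdd_of out)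

/-! ### numbers -/

section arith

variable {q t n d : ℕ}

theorem dvd_iff (hq : 0 < q) (j : ℕ) : t ∣ q ^ j - 1 ↔ orderOf (q : ZMod t) ∣ j := by
  rw [← ZMod.natCast_eq_zero_iff, Nat.cast_sub (Nat.one_le_pow _ _ hq), Nat.cast_pow, Nat.cast_one, sub_eq_zero,
    orderOf_dvd_iff_pow_eq_one]

theorem ordd_iff (hq : 0 < q) {e : ℕ} : Ordd t q e ↔ e ∣ orderOf (q : ZMod t) := by
  constructor
  · intro h
    exact h _ ((dvd_iff hq _).2 dvd_rfl)
  · intro h m hm
    exact h.trans ((dvd_iff hq m).1 hm)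

/-- the order of `q` modulo a prime divisor of the order of the group -/
theorem t_cases (hq : 0 < q) (hn : 4 ≤ n) (hO : Odg n d) (ht : t.Prime)
    (h : t ∣ (q ^ n - 1) * ∏ i ∈ Finset.range (n - 1), (q ^ (2 * (i + 1)) - 1)) :
    (Ordd t q (2 * (n - 1)) ∧ t ∣ q ^ (2 * (n - 1)) - 1) ∨ (Ordd t q d ∧ t ∣ q ^ d - 1) ∨
      ∃ i, 2 ≤ i ∧ i ≤ n - 2 ∧ t ∣ q ^ (2 * i) - 1 := by
  simp only [ordd_iff hq, dvd_iff hq]
  obtain ⟨e, he⟩ : ∃ e, e = orderOf (q : ZMod t) := ⟨_, rfl⟩
  rw [← he]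
  have hod := hO.odd
  have hor := hO.or
  have small : ∀ m, 0 < m → e ∣ m → e ≤ n - 2 → ∃ i, 2 ≤ i ∧ i ≤ n - 2 ∧ e ∣ 2 * i := by
    intro m hm hem hle
    have h0 := Nat.pos_of_dvd_of_pos hem hm
    rcases Nat.lt_or_ge e 2 with h1 | h1
    · have h2 : e = 1 := by omega
      exact ⟨2, le_rfl, by omega, h2 ▸ one_dvd _⟩
    · exact ⟨e, h1, hle, dvd_mul_left _ _⟩
  rcases ht.dvd_mul.1 h with h1 | h1
  · -- `e ∣ n`
    rw [dvd_iff hq, ← he] at h1
    obtain ⟨k, hk⟩ := h1
    rcases Nat.lt_or_ge k 2 with h2 | h2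
    · have h3 : k = 1 := by
        rcases Nat.lt_or_ge k 1 with h | h
        · have : k = 0 := by omega
          subst this
          omega
        · omega
      subst h3
      rw [mul_one] at hk
      rcases Nat.even_or_odd n with hev | hodd
      · obtain ⟨j, hj⟩ := hev
        right; right
        exact ⟨j, by omega, by omega, by rw [← hk, hj]; exact ⟨1, by ring⟩⟩
      · right; left
        have h4 : d = n := by
          rcases hor with h | h
          · exact h
          · rw [Nat.odd_iff] at hod hodd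
            omega
        rw [h4, ← hk]
        exact ⟨dvd_rfl, dvd_rfl⟩
    · right; right
      refine small n (by omega) ⟨k, hk⟩ ?_
      have : e * 2 ≤ e * k := Nat.mul_le_mul_left _ h2
      omega
  · obtain ⟨i, hi, h2⟩ := (Prime.dvd_finsetProd_iff ht.prime _).1 h1
    rw [Finset.mem_range] at hi
    rw [dvd_iff hq, ← he] at h2
    rcases Nat.eq_zero_or_pos i with rfl | hi0
    · right; right
      exact ⟨2, le_rfl, by omega, h2.trans ⟨2, rfl⟩⟩
    rcases Nat.lt_or_ge i (n - 2) with h3 | h3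
    · right; right
      exact ⟨i + 1, by omega, by omega, h2⟩
    have h4 : i + 1 = n - 1 := by omega
    rw [h4] at h2
    obtain ⟨k, hk⟩ := h2
    rcases Nat.lt_or_ge k 3 with h5 | h5
    · have hk0 : k ≠ 0 := by
        rintro rfl
        omega
      rcases (show k = 1 ∨ k = 2 by omega) with h6 | h6
      · subst h6
        rw [mul_one] at hk
        left
        rw [hk]
        exact ⟨dvd_rfl, dvd_rfl⟩
      · subst h6
        have h7 : e = n - 1 := by omega
        rcases Nat.even_or_odd (n - 1) with hev | hodd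
        · obtain ⟨j, hj⟩ := hev
          right; right
          exact ⟨j, by omega, by omega, by rw [h7, hj]; exact ⟨1, by ring⟩⟩
        · right; left
          have h8 : d = n - 1 := by
            rcases hor with h | h
            · rw [Nat.odd_iff] at hod hodd
              (clear * - hod hodd h; omega)
            · exact h
          rw [h8, h7]
          exact ⟨dvd_rfl, dvd_rfl⟩
    · right; right
      refine small (2 * (n - 1)) (by omega) ⟨k, hk⟩ ?_
      have : e * 3 ≤ e * k := Nat.mul_le_mul_left _ h5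
      omega

theorem fac_mono {a b t : ℕ} (h : a ∣ b) (hb : b ≠ 0) : a.factorization t ≤ b.factorization t :=
  (Nat.factorization_le_iff_dvd (ne_zero_of_dvd_ne_zero hb h) hb).2 h t

/-- the sum of the `t`-parts -/
theorem sum_ge (q : ℕ) {n i : ℕ} (t : ℕ) (hn : 4 ≤ n) (hi : 2 ≤ i) (hi' : i ≤ n - 2) :
    (q ^ 2 - 1).factorization t + (q ^ (2 * (n - 1)) - 1).factorization t + (q ^ (2 * i) - 1).factorization t ≤
      ∑ j ∈ Finset.range (n - 1), (q ^ (2 * (j + 1)) - 1).factorization t := by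
  have h1 : ({0, n - 2, i - 1} : Finset ℕ) ⊆ Finset.range (n - 1) := by
    intro j hj
    simp only [Finset.mem_insert, Finset.mem_singleton] at hj
    rw [Finset.mem_range]
    omega
  have h2 := Finset.sum_le_sum_of_subset (f := fun j => (q ^ (2 * (j + 1)) - 1).factorization t) h1
  rw [Finset.sum_insert (by simp only [_root_.Finset.mem_insert, _root_.Finset.mem_singleton, _root_.not_or]; omega), Finset.sum_insert (by simp; omega), Finset.sum_singleton,
    show n - 2 + 1 = n - 1 by omega, show i - 1 + 1 = i by omega, zero_add, mul_one] at h2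
  omega

theorem fac_prod (q : ℕ) (hq : 1 < q) (n t : ℕ) : (∏ i ∈ Finset.range (n - 1), (q ^ (2 * (i + 1)) - 1)).factorization t =
    ∑ j ∈ Finset.range (n - 1), (q ^ (2 * (j + 1)) - 1).factorization t := by
  rw [Nat.factorization_prod (fun i _ => by
    have := Nat.one_lt_pow (n := 2 * (i + 1)) (by omega) hq
    omega), Finsupp.finsetSum_apply]

end arith

/-! ### the group -/

variable {F V : Type*} [Field F] [AddCommGroup V] [Module F V] {Q : QuadraticForm F V}

/-- the data with the order of the group and the outer automorphisms -/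
structure PlusC (Q : QuadraticForm F V) (n p f : ℕ) : Prop extends Plus Q n p f where
  hcard : ∃ c, c ∣ 4 ∧ c * Nat.card (P Q) = Nat.card F ^ (n * (n - 1)) * (Nat.card F ^ n - 1) *
    ∏ i ∈ Finset.range (n - 1), (Nat.card F ^ (2 * (i + 1)) - 1)
  hc2 : p = 2 → Nat.card (P Q) = Nat.card F ^ (n * (n - 1)) * (Nat.card F ^ n - 1) *
    ∏ i ∈ Finset.range (n - 1), (Nat.card F ^ (2 * (i + 1)) - 1)
  hout : ∀ t, t.Prime → t ≠ 2 → (out (P Q)).factorization t ≤ f.factorization t + (if t = 3 ∧ n = 4 then 1 else 0)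
  houtp : (out (P Q)).factorization p ≤ f

variable {n p f d : ℕ} [Finite V] [Finite F]

theorem PlusC.v_eq (H : PlusC Q n p f) {t : ℕ} (ht : t.Prime) (ht2 : t ≠ 2 ∨ p = 2) : v t (P Q) =
    (Nat.card F ^ (n * (n - 1))).factorization t + (Nat.card F ^ n - 1).factorization t +
      ∑ j ∈ Finset.range (n - 1), (Nat.card F ^ (2 * (j + 1)) - 1).factorization t := by
  have hn := H.hn
  have hq : 1 < Nat.card F := Finite.one_lt_card
  have hfin : Finite ↥(E Q) := finite_E
  have h1 : Nat.card F ^ (n * (n - 1)) ≠ 0 := by positivity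
  have h2 : Nat.card F ^ n - 1 ≠ 0 := by
    have := Nat.one_lt_pow (n := n) (by omega) hq
    omega
  have h3 : ∏ i ∈ Finset.range (n - 1), (Nat.card F ^ (2 * (i + 1)) - 1) ≠ 0 := by
    rw [Finset.prod_ne_zero_iff]
    intro i _
    have := Nat.one_lt_pow (n := 2 * (i + 1)) (by omega) hq
    omega
  obtain ⟨c, hc, hc', hcc⟩ : ∃ c, c ≠ 0 ∧ c.factorization t = 0 ∧
      c * Nat.card (P Q) = Nat.card F ^ (n * (n - 1)) * (Nat.card F ^ n - 1) *
    ∏ i ∈ Finset.range (n - 1), (Nat.card F ^ (2 * (i + 1)) - 1) := by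
    rcases ht2 with ht2 | hp2
    · obtain ⟨c, hc, hcc⟩ := H.hcard
      refine ⟨c, ?_, ?_, hcc⟩
      · rintro rfl
        exact absurd (Nat.eq_zero_of_zero_dvd hc) (by norm_num)
      · apply Nat.factorization_eq_zero_of_not_dvd
        intro h
        have h5 : t ∣ 2 ^ 2 := h.trans hc
        exact ht2 ((Nat.prime_dvd_prime_iff_eq ht Nat.prime_two).1 (ht.dvd_of_dvd_pow h5))
    · exact ⟨1, one_ne_zero, by rw [Nat.factorization_one]; rfl, by rw [one_mul]; exact H.hc2 hp2⟩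
  have h4 : (c * Nat.card (P Q)).factorization t = (Nat.card F ^ (n * (n - 1)) * (Nat.card F ^ n - 1) *
    ∏ i ∈ Finset.range (n - 1), (Nat.card F ^ (2 * (i + 1)) - 1)).factorization t := by rw [hcc]
  rw [Nat.factorization_mul hc Nat.card_pos.ne', Finsupp.add_apply, hc', zero_add,
    Nat.factorization_mul (mul_ne_zero h1 h2) h3, Nat.factorization_mul h1 h2, Finsupp.add_apply, Finsupp.add_apply,
    fac_prod _ hq] at h4
  exact h4

/-- the `p`-part of the order -/
theorem PlusC.v_p (H : PlusC Q n p f) : v p (P Q) = f * (n * (n - 1)) := by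
  have hn := H.hn
  have hp := H.prime
  have hq : 1 < Nat.card F := Finite.one_lt_card
  rw [H.v_eq hp (by by_cases h : p = 2; exacts [Or.inr h, Or.inl h])]
  have h1 : (Nat.card F ^ n - 1).factorization p = 0 := by
    apply Nat.factorization_eq_zero_of_not_dvd
    rw [H.hF]
    exact Cfsg.Agent.H311.PD.not_dvd_pow_sub_one hp H.hf (by omega)
  have h2 : ∑ j ∈ Finset.range (n - 1), (Nat.card F ^ (2 * (j + 1)) - 1).factorization p = 0 := by
    apply Finset.sum_eq_zero
    intro j _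
    apply Nat.factorization_eq_zero_of_not_dvd
    rw [H.hF]
    exact Cfsg.Agent.H311.PD.not_dvd_pow_sub_one hp H.hf (by omega)
  rw [h1, h2, H.hF, ← pow_mul, hp.factorization_pow, Finsupp.single_eq_same, add_zero, add_zero]

theorem PlusC.t_cases (H : PlusC Q n p f) (hO : Odg n d) {t : ℕ} (ht : t.Prime) (htp : t ≠ p)
    (h : t ∣ Nat.card (P Q)) : (Ordd t (Nat.card F) (2 * (n - 1)) ∧ t ∣ Nat.card F ^ (2 * (n - 1)) - 1) ∨
      (Ordd t (Nat.card F) d ∧ t ∣ Nat.card F ^ d - 1) ∨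
      ∃ i, 2 ≤ i ∧ i ≤ n - 2 ∧ t ∣ Nat.card F ^ (2 * i) - 1 := by
  obtain ⟨c, hc, hcc⟩ := H.hcard
  refine PD.t_cases Nat.card_pos H.hn hO ht ?_
  have h1 : t ∣ Nat.card F ^ (n * (n - 1)) * (Nat.card F ^ n - 1) *
    ∏ i ∈ Finset.range (n - 1), (Nat.card F ^ (2 * (i + 1)) - 1) := hcc ▸ Dvd.dvd.mul_left h c
  rw [mul_assoc] at h1
  rcases ht.dvd_mul.1 h1 with h2 | h2
  · exfalso
    rw [H.hF, ← pow_mul] at h2
    exact htp ((Nat.prime_dvd_prime_iff_eq ht H.prime).1 (ht.dvd_of_dvd_pow h2))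
  · exact h2

theorem PlusC.lte (H : PlusC Q n p f) {t e : ℕ} (ht : t.Prime) (he : 1 ≤ e) (h : t ∣ Nat.card F ^ e - 1) :
    f.factorization t + 1 ≤ (Nat.card F ^ e - 1).factorization t := by
  have hp := H.prime
  have hq : 1 < Nat.card F := Finite.one_lt_card
  have h1 := Nat.one_lt_pow (n := e) (by omega) hq
  rw [H.hF] at h h1 ⊢
  exact Cfsg.Agent.H311.PD.lte ht H.hf hp.one_lt.le h h1

/-- `3` divides `q ^ 2 - 1` -/
theorem three_dvd {q e : ℕ} (hq : ¬ 3 ∣ q) (he : Even e) : 3 ∣ q ^ e - 1 := by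
  obtain ⟨k, rfl⟩ := he
  have hq0 : 0 < q := Nat.pos_of_ne_zero (by rintro rfl; exact hq (dvd_zero _))
  rw [dvd_iff hq0]
  have h1 : orderOf (q : ZMod 3) ∣ 2 := by
    rw [orderOf_dvd_iff_pow_eq_one]
    have h2 : (q : ZMod 3) ≠ 0 := by rwa [ne_eq, ZMod.natCast_eq_zero_iff]
    have : Fact (Nat.Prime 3) := ⟨Nat.prime_three⟩
    exact ZMod.pow_card_sub_one_eq_one h2
  exact h1.trans ⟨k, by ring⟩

/-- **`Good`** -/
theorem PlusC.good_of (H : PlusC Q n p f) {t : ℕ} (ht : t.Prime) (ht2 : t ≠ 2) (htp : t ≠ p)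
    (h : t ∣ Nat.card (P Q)) : (out (P Q)).factorization t < v t (P Q) := by
  have hn := H.hn
  obtain ⟨d, hO⟩ : ∃ d, Odg n d := by
    rcases Nat.even_or_odd n with h | h
    · exact ⟨n - 1, ⟨Nat.Even.sub_odd (by omega) h odd_one, Or.inr rfl⟩⟩
    · exact ⟨n, ⟨h, Or.inl rfl⟩⟩
  have hor := hO.or
  have h1 := H.hout t ht ht2
  have h2 := H.v_eq ht (Or.inl ht2)
  have h3 := sum_ge (Nat.card F) (n := n) (i := 2) t hn le_rfl (by omega)
  have hq : 1 < Nat.card F := Finite.one_lt_card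
  have hne : ∀ e, 1 ≤ e → Nat.card F ^ e - 1 ≠ 0 := fun e he => by
    have := Nat.one_lt_pow (n := e) (by omega) hq
    omega
  by_cases h34 : t = 3 ∧ n = 4
  · obtain ⟨rfl, rfl⟩ := h34
    have h3q : ¬ 3 ∣ Nat.card F := by
      rw [H.hF]
      intro h4
      exact htp ((Nat.prime_dvd_prime_iff_eq ht H.prime).1 (ht.dvd_of_dvd_pow h4))
    have h5 := H.lte ht (by norm_num) (three_dvd h3q (e := 2) (by decide))
    have h6 := H.lte ht (by norm_num) (three_dvd h3q (e := 2 * 2) (by decide))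
    rw [if_pos ⟨rfl, rfl⟩] at h1
    omega
  · rw [if_neg h34] at h1
    rcases H.t_cases hO ht htp h with ⟨-, h4⟩ | ⟨-, h4⟩ | ⟨i, hi, hi', h4⟩
    · have h5 := H.lte ht (by omega) h4
      omega
    · rcases hor with rfl | rfl
      · have h5 := H.lte ht (by omega) h4
        omega
      · have h5 := H.lte ht (by omega) h4
        have h6 : Nat.card F ^ (n - 1) - 1 ∣ Nat.card F ^ (2 * (n - 1)) - 1 := by
          have := Nat.sub_dvd_pow_sub_pow (Nat.card F ^ (n - 1)) 1 2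
          rwa [one_pow, ← pow_mul, mul_comm (n - 1) 2] at this
        have h7 := fac_mono (t := t) h6 (hne _ (by omega))
        omega
    · have h5 := H.lte ht (by omega) h4
      have h6 := sum_ge (Nat.card F) (n := n) (i := i) t hn hi hi'
      omega

/-- **`num`** -/
theorem PlusC.num (H : PlusC Q n p f) (hO : Odg n d) {l₀ l₁ : ℕ} (h₀ : l₀.Prime) (h₀2 : l₀ ≠ 2) (h₀F : (l₀ : F) ≠ 0)
    (hd₀ : Ordd l₀ (Nat.card F) (2 * (n - 1))) (hld₀ : l₀ ∣ Nat.card F ^ (n - 1) + 1)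
    (h₁ : l₁.Prime) (h₁2 : l₁ ≠ 2) (h₁F : (l₁ : F) ≠ 0)
    (hd₁ : Ordd l₁ (Nat.card F) d) (hld₁ : l₁ ∣ Nat.card F ^ d - 1) {t : ℕ} (ht : t.Prime) (ht2 : t ≠ 2) (htp : t ≠ p)
    (h : t ∣ Nat.card (P Q)) :
    ((out (P Q)).factorization t < v t (P Q) ∧ ∀ y : P Q, orderOf y = t →
        v p (Subgroup.centralizer ({y} : Set (P Q))) ≤ 0) ∨
      ∀ x y : P Q, orderOf x = l₀ → orderOf y = l₁ →
        v t (Subgroup.centralizer ({x} : Set (P Q))) + v t (Subgroup.centralizer ({y} : Set (P Q))) +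
          (out (P Q)).factorization t < v t (P Q) := by
  have := Fact.mk h₀
  have := Fact.mk h₁
  have hn := H.hn
  have hor := hO.or
  have hod := hO.odd
  rcases H.t_cases hO ht htp h with ⟨h1, h4⟩ | ⟨h1, h4⟩ | ⟨i, hi, hi', h4⟩
  · left
    refine ⟨H.good_of ht ht2 htp h, fun y hy => ?_⟩
    exact (H.cent_first ht ht2 (H.cast_ne ht (by omega) h4) h1 hy).le
  · left
    refine ⟨H.good_of ht ht2 htp h, fun y hy => ?_⟩
    exact (H.cent_second hO ht ht2 (H.cast_ne ht (by omega) h4) h1 h4 hy).le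
  · right
    intro x y hx hy
    obtain ⟨a, ha, ha1, rfl⟩ := H.exists_lift h₀ h₀2 hx
    obtain ⟨b, hb, hb1, rfl⟩ := H.exists_lift h₁ h₁2 hy
    have e1 := (Cfsg.Agent.H311.PD.v_centralizer_mk H.good (h₀.odd_of_ne_two h₀2) ha t).trans
      (H.v_cent_first h₀2 h₀F hd₀ hld₀ ha ha1 ht ht2)
    have e2 := Cfsg.Agent.H311.PD.v_centralizer_mk H.good (h₁.odd_of_ne_two h₁2) hb t
    have e3 := H.hout t ht ht2
    have e4 := H.v_eq ht (Or.inl ht2)
    have e5 := sum_ge (Nat.card F) (n := n) (i := i) t hn hi hi'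
    have e6 := H.lte ht (by omega) h4
    have hq : 1 < Nat.card F := Finite.one_lt_card
    have hne : ∀ e, 1 ≤ e → Nat.card F ^ e - 1 ≠ 0 := fun e he => by
      have := Nat.one_lt_pow (n := e) (by omega) hq
      omega
    have f1 : Nat.card F ^ 2 - 1 = (Nat.card F + 1) * (Nat.card F - 1) := Nat.sq_sub_sq (Nat.card F) 1
    have f2 : Nat.card F ^ (2 * (n - 1)) - 1 = (Nat.card F ^ (n - 1) + 1) * (Nat.card F ^ (n - 1) - 1) := by
      rw [mul_comm 2, pow_mul]
      exact Nat.sq_sub_sq (Nat.card F ^ (n - 1)) 1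
    have f3 : (Nat.card F ^ 2 - 1).factorization t = (Nat.card F + 1).factorization t +
        (Nat.card F - 1).factorization t := by
      rw [f1, Nat.factorization_mul (by omega) (by omega), Finsupp.add_apply]
    have f4 : (Nat.card F ^ (2 * (n - 1)) - 1).factorization t = (Nat.card F ^ (n - 1) + 1).factorization t +
        (Nat.card F ^ (n - 1) - 1).factorization t := by
      rw [f2, Nat.factorization_mul (by omega) (hne _ (by omega)), Finsupp.add_apply]
    rcases hor with rfl | rfl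
    · -- `n` odd
      have e7 := H.v_cent_second_odd hod h₁2 h₁F hd₁ hld₁ hb hb1 t
      have h34 : ¬ (t = 3 ∧ d = 4) := by
        rintro ⟨-, rfl⟩
        exact absurd hod (by decide)
      rw [if_neg h34] at e3
      omega
    · have e7 := H.v_cent_second_even hod h₁2 h₁F hd₁ hld₁ hb hb1 ht ht2
      by_cases h34 : t = 3 ∧ n = 4
      · obtain ⟨rfl, rfl⟩ := h34
        rw [if_pos ⟨rfl, rfl⟩] at e3
        have h3q : ¬ 3 ∣ Nat.card F := by
          rw [H.hF]
          intro h4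
          exact htp ((Nat.prime_dvd_prime_iff_eq ht H.prime).1 (ht.dvd_of_dvd_pow h4))
        have h6 := H.lte ht (by norm_num) (three_dvd h3q (e := 4) (by decide))
        omega
      · rw [if_neg h34] at e3
        omega

end Cfsg.Agent.H14.PD
end

-- part: H14/PD/OddH
section
/-!
# S4246, row of `POmega^+_{2n}(q)`: the subgroups of odd order (helper14)
-/

set_option autoImplicit false
set_option linter.unusedSectionVars false

namespace Cfsg.Agent.H14.PD

open QuadraticMap Module Cfsg.Agent.LieClassical.OrthCore Cfsg.Agent.LieClassical.OrthTrans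
open Cfsg.Agent.ClassicalGeometry.OrthSemi Cfsg.Agent.ClassicalGeometry.OrthAut1
open Cfsg.Agent.H200.LinFix Cfsg.Agent.H200.RowOrth Cfsg.Agent.H568
open Cfsg.Agent.H160.PD (v v_mono v_eq_zero v_pos Fx mem_Fx NoOdd noOdd_of Uniq odd_bound_of_uniq)

variable {F V : Type*} [Field F] [AddCommGroup V] [Module F V] {Q : QuadraticForm F V} [Finite V] [Finite F]

variable {n p f d : ℕ}

/-- the image of a `p`-subgroup in `P Q` -/
theorem card_map_mk {p : ℕ} [hp : Fact p.Prime] (h : ¬ p ∣ Nat.card (Subgroup.center ↥(E Q))) {X : Subgroup ↥(E Q)}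
    (hX : IsPGroup p X) : Nat.card ↥(X.map (QuotientGroup.mk' (Subgroup.center ↥(E Q)))) = Nat.card X := by
  have hfin : Finite ↥(E Q) := finite_E
  have hinj : Function.Injective ((QuotientGroup.mk' (Subgroup.center ↥(E Q))).comp X.subtype) := by
    rw [injective_iff_map_eq_one]
    rintro ⟨g, hg⟩ h1
    have h2 : g ∈ Subgroup.center ↥(E Q) := (QuotientGroup.eq_one_iff g).1 h1
    by_contra hne
    have h3 : g ≠ 1 := fun h0 => hne (Subtype.ext h0)
    obtain ⟨k, hk⟩ := (IsPGroup.iff_orderOf.1 hX) ⟨g, hg⟩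
    rw [Subgroup.orderOf_mk] at hk
    have hk0 : k ≠ 0 := by
      rintro rfl
      rw [pow_zero, orderOf_eq_one_iff] at hk
      exact h3 hk
    apply h
    have h4 : orderOf g ∣ Nat.card (Subgroup.center ↥(E Q)) := by
      have h5 := orderOf_dvd_natCard (⟨g, h2⟩ : Subgroup.center ↥(E Q))
      rwa [Subgroup.orderOf_mk] at h5
    exact (dvd_pow_self p hk0).trans (hk ▸ h4)
  have h2 : Nat.card X = Nat.card ((QuotientGroup.mk' (Subgroup.center ↥(E Q))).comp X.subtype).range :=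
    Nat.card_congr (MonoidHom.ofInjective hinj).toEquiv
  rw [h2, MonoidHom.range_comp, Subgroup.range_subtype]

/-- an element commuting with `y` and trivial on `U` is trivial on `R y` -/
theorem Split.triv (hG : Good Q) {l : ℕ} [hl : Fact l.Prime] (hl2 : l ≠ 2) (hlF : (l : F) ≠ 0)
    {y : ↥(E Q)} (hy : y ^ l = 1) (hd : Ordd l (Nat.card F) d) (hdo : Odd d) {U U' : Submodule F V}
    (h : Split Q y d U U') {s : ↥(E Q)} (hs : s * y = y * s) (h1 : ∀ w ∈ U, en Q s w = w) :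
    ∀ w ∈ R (en Q y), en Q s w = w := by
  have hfd : FiniteDimensional F V := inferInstance
  have hy' : en Q y ^ l = 1 := by rw [← map_pow, hy, map_one]
  have h2 : ∀ u ∈ U', en Q s u = u := by
    intro u hu
    have hcU' : en Q s u ∈ U' := h.symm.comm_inv hG hl2 hlF hy hd hdo hs u hu
    have hmem : en Q s u - u ∈ U' := Submodule.sub_mem _ hcU' hu
    rw [← sub_eq_zero]
    refine nondeg_R (isom_en y) (polar_nondeg hG) hy' hlF (h.le' hmem) fun a ha => ?_
    rw [← h.sup] at ha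
    obtain ⟨b, hb, b', hb', rfl⟩ := Submodule.mem_sup.1 ha
    rw [map_add, LinearMap.add_apply, h.ti' b' hb' _ hmem, add_zero, map_sub, sub_eq_zero]
    conv_lhs => rw [← h1 b hb]
    exact isom_en s b u
  intro w hw
  rw [← h.sup] at hw
  obtain ⟨b, hb, b', hb', rfl⟩ := Submodule.mem_sup.1 hw
  rw [map_add, h1 b hb, h2 b' hb']

/-- reduction of `Uniq` to `E Q` -/
theorem uniq_of (hG : Good Q) {l : ℕ} [hl : Fact l.Prime] (hl2 : l ≠ 2)
    (h : ∀ a b : ↥(E Q), a ^ l = 1 → a ≠ 1 → b ^ l = 1 → b * a = a * b → ∃ i : ℕ, (b * (a ^ i)⁻¹ = 1)) : Uniq (P Q) l := by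
  have hlo := hl.out.odd_of_ne_two hl2
  intro x y hx hy hxy
  obtain ⟨a, ha, rfl⟩ := lift_pow hG x hlo (by rw [← hx, pow_orderOf_eq_one])
  obtain ⟨b, hb, rfl⟩ := lift_pow hG y hlo (by rw [← hy, pow_orderOf_eq_one])
  have ha1 : a ≠ 1 := by
    rintro rfl
    rw [QuotientGroup.mk_one, orderOf_one] at hx
    exact hl.out.one_lt.ne hx
  obtain ⟨i, hi⟩ := h a b ha ha1 hb (comm_of_mk hG hlo ha hxy).symm
  rw [mul_inv_eq_one] at hi
  rw [hi, QuotientGroup.mk_pow]
  exact Subgroup.pow_mem _ (Subgroup.mem_zpowers _) i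

theorem pow_mul_inv {a b : ↥(E Q)} {l : ℕ} (ha : a ^ l = 1) (hb : b ^ l = 1) (hba : b * a = a * b) (i : ℕ) :
    (b * (a ^ i)⁻¹) ^ l = 1 ∧ (b * (a ^ i)⁻¹) * a = a * (b * (a ^ i)⁻¹) := by
  have h1 : Commute b a := hba
  have h2 : Commute b (a ^ i)⁻¹ := (h1.pow_right i).inv_right
  have h3 : Commute (a ^ i)⁻¹ a := ((Commute.refl a).pow_left i).inv_left
  refine ⟨?_, (h1.mul_left h3).eq⟩
  rw [h2.mul_pow, hb, one_mul, inv_pow, ← pow_mul, mul_comm, pow_mul, ha, one_pow, inv_one]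

theorem Plus.uniq_first (H : Plus Q n p f) {l : ℕ} [hl : Fact l.Prime] (hl2 : l ≠ 2) (hlF : (l : F) ≠ 0)
    (hd : Ordd l (Nat.card F) (2 * (n - 1))) : Uniq (P Q) l := by
  have hfd : FiniteDimensional F V := inferInstance
  have hn := H.hn
  refine uniq_of H.good hl2 fun a b ha ha1 hb hba => ?_
  have hR0 : R (en Q a) ≠ ⊥ := by
    intro h
    rw [R_eq_bot] at h
    exact ha1 (en_injective (h.trans (map_one _).symm))
  obtain ⟨i, hi⟩ := mem_powers_on hlF ha (W := R (en Q a)) le_rfl hR0 (fun w hw => R_inv rfl hw) (H.irr_first hlF hd ha)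
    (s := b) (fun w hw => R_inv (by rw [← map_mul, hba, map_mul]) hw) hba hb
  refine ⟨i, ?_⟩
  obtain ⟨h1, h2⟩ := pow_mul_inv ha hb hba i
  have h3 : ∀ w ∈ R (en Q a), en Q (b * (a ^ i)⁻¹) w = w := by
    intro w hw
    have hw' : en Q (a ^ i)⁻¹ w ∈ R (en Q a) :=
      R_inv (by rw [← map_mul, ← map_mul]; exact congrArg (en Q) (((Commute.refl a).pow_left i).inv_left).eq) hw
    rw [map_mul, Module.End.mul_apply, hi _ hw', ← Module.End.mul_apply, ← map_mul, mul_inv_cancel, map_one]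
    rfl
  by_contra hne
  have h4 := (H.dim_first hlF hd h1 hne).1
  have h5 := (H.dim_first hlF hd ha ha1).2
  have h6 := Submodule.finrank_mono (R_le_K hlF ha h2 h3)
  omega

theorem Plus.uniq_second (H : Plus Q n p f) (hO : Odg n d) {l : ℕ} [hl : Fact l.Prime] (hl2 : l ≠ 2)
    (hlF : (l : F) ≠ 0) (hd : Ordd l (Nat.card F) d) (hld : l ∣ Nat.card F ^ d - 1) : Uniq (P Q) l := by
  have hfd : FiniteDimensional F V := inferInstance
  have hn := H.hn
  have hor := hO.or
  have hd0 := hO.odd.pos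
  have hG := H.good
  refine uniq_of H.good hl2 fun a b ha ha1 hb hba => ?_
  have ha' : en Q a ^ l = 1 := by rw [← map_pow, ha, map_one]
  obtain ⟨e1, e2⟩ := H.dim_second hO hl2 hlF hd ha ha1
  obtain ⟨U, U', hU⟩ := exists_split H.good hl2 hlF ha hd hld hO.odd e1
  have hU0 : U ≠ ⊥ := by
    rintro rfl
    have := hU.dim
    rw [finrank_bot] at this
    omega
  have hirr : Irr (en Q a) U := irr_of_lt hd hlF ha' hU.le hU.inv (by rw [hU.dim]; omega)
  obtain ⟨i, hi⟩ := mem_powers_on hlF ha (W := U) hU.le hU0 hU.inv hirr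
    (s := b) (hU.comm_inv hG hl2 hlF ha hd hO.odd hba) hba hb
  refine ⟨i, ?_⟩
  obtain ⟨h1, h2⟩ := pow_mul_inv ha hb hba i
  have h3 : ∀ w ∈ R (en Q a), en Q (b * (a ^ i)⁻¹) w = w := by
    refine hU.triv hG hl2 hlF ha hd hO.odd h2 fun w hw => ?_
    have hw' : en Q (a ^ i)⁻¹ w ∈ U := hU.comm_inv hG hl2 hlF ha hd hO.odd
      (((Commute.refl a).pow_left i).inv_left).eq w hw
    rw [map_mul, Module.End.mul_apply, hi _ hw', ← Module.End.mul_apply, ← map_mul, mul_inv_cancel, map_one]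
    rfl
  by_contra hne
  have h4 := (H.dim_second hO hl2 hlF hd h1 hne).1
  have h6 := Submodule.finrank_mono (R_le_K hlF ha h2 h3)
  have hd3 : 3 ≤ d := by
    have h1 := hO.odd
    rw [Nat.odd_iff] at h1
    omega
  omega

theorem Plus.noNorm_first (H : Plus Q n p f) (hp2 : p ≠ 2) {l : ℕ} [hl : Fact l.Prime] (hl2 : l ≠ 2) (hlF : (l : F) ≠ 0)
    (hd : Ordd l (Nat.card F) (2 * (n - 1))) (hld : l ∣ Nat.card F ^ (n - 1) + 1) {y : ↥(E Q)} (hy : y ^ l = 1)
    (hy1 : y ≠ 1) : NoNorm p (QuotientGroup.mk y : P Q) := by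
  have := Fact.mk H.prime
  have hn := H.hn
  have h2F : (2 : F) ≠ 0 := by
    intro h
    have hc : CharP F p := (CharP.charP_iff_prime_eq_zero H.prime).2 H.hpF
    have h3 : ((2 : ℕ) : F) = 0 := by exact_mod_cast h
    rw [CharP.cast_eq_zero_iff F p] at h3
    exact hp2 ((Nat.prime_dvd_prime_iff_eq H.prime Nat.prime_two).1 h3)
  refine noNorm_of_ti H.good hp2 H.hpF (ti_of_irr H.good hlF hy (H.irr_first hlF hd hy) fun w hw hww => ?_)
  apply no_sing_K H.good (by omega) H.hV H.hsing hl2 hlF hd hld hy hy1 hw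
  rw [polarBilin_apply_apply, polar_self'] at hww
  exact (mul_eq_zero.1 hww).resolve_left h2F

theorem Plus.odd_first (H : Plus Q n p f) (hp2 : p ≠ 2) {l : ℕ} (hl : l.Prime) (hl2 : l ≠ 2) (hlF : (l : F) ≠ 0)
    (hd : Ordd l (Nat.card F) (2 * (n - 1))) (hld : l ∣ Nat.card F ^ (n - 1) + 1) {X : Subgroup (P Q)}
    (hX : Odd (Nat.card X)) (hlX : l ∣ Nat.card X) : v p X ≤ (2 * (n - 1)).factorization p := by
  have := Fact.mk hl
  have := Fact.mk H.prime
  have hn := H.hn
  have hfin : Finite ↥(E Q) := finite_E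
  have hpl : p ≠ l := by
    rintro rfl
    exact hlF H.hpF
  have h1 := odd_bound_of_uniq (a := 0) (b := (2 * (n - 1)).factorization p) H.prime hl hpl (H.uniq_first hl2 hlF hd)
    (fun Y hY x hx hxo => by
      obtain ⟨y, hy, hy1, rfl⟩ := H.exists_lift hl hl2 hxo
      have h2 : Y = ⊥ := by
        obtain h3 := H.noNorm_first hp2 hl2 hlF hd hld hy hy1
        exact h3 Y hY hx
      rw [h2, v, Subgroup.card_bot, Nat.factorization_one]
      rfl) (fun x hxo => by
      have h3 := H.cent_first hl hl2 hlF hd hxo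
      obtain ⟨y, hy, hy1, rfl⟩ := H.exists_lift hl hl2 hxo
      have h2 := v_normalizer_le H.good hl2 hy hy1 (n := 2 * (n - 1)) (by omega) (fun z k hk => by
        have h4 := norm_pow_irr hlF hy hy1 hk (H.irr_first hlF hd hy)
        rwa [(H.dim_first hlF hd hy hy1).1] at h4) p
      rw [h3, zero_add] at h2
      exact h2) X hX hlX
  rwa [zero_add] at h1

theorem Plus.odd_second (H : Plus Q n p f) (hO : Odg n d) (hp2 : p ≠ 2) {l : ℕ} (hl : l.Prime) (hl2 : l ≠ 2)
    (hlF : (l : F) ≠ 0) (hd : Ordd l (Nat.card F) d) (hld : l ∣ Nat.card F ^ d - 1) {X : Subgroup (P Q)}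
    (hX : Odd (Nat.card X)) (hlX : l ∣ Nat.card X) :
    v p X + f * d ≤ v p (P Q) + f + (2 * d).factorization p := by
  have := Fact.mk hl
  have := Fact.mk H.prime
  have hn := H.hn
  have hd0 := hO.odd.pos
  have hfin : Finite ↥(E Q) := finite_E
  have hpl : p ≠ l := by
    rintro rfl
    exact hlF H.hpF
  -- the subgroups normalised by an element of order `l`
  have hN : ∀ Y : Subgroup (P Q), IsPGroup p Y → ∀ x ∈ Subgroup.normalizer (Y : Set (P Q)), orderOf x = l →
      v p Y + f * d ≤ v p (P Q) + f := by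
    intro Y hY x hx hxo
    obtain ⟨y, hy, hy1, rfl⟩ := H.exists_lift hl hl2 hxo
    obtain ⟨Y₁, hY₁, hmap, hnorm⟩ := Cfsg.Agent.SigZeroU5.exists_lift (Subgroup.center ↥(E Q)) le_rfl
      (not_dvd_center H.good hp2) hY
    have h1 := H.v_norm_second hO hp2 hl2 hlF hd hld hy hy1 hY₁ (fun g hg => by
      rw [hnorm y hx]
      have h2 : y * (y⁻¹ * g * y) * y⁻¹ = g := by group
      rwa [h2])
    rw [v_P H.good (Or.inl hp2)]
    have h2 : v p Y = v p Y₁ := by
      rw [v, v, ← hmap, card_map_mk (not_dvd_center H.good hp2) hY₁]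
    rw [h2]
    exact h1
  obtain ⟨x, hxX, hxo⟩ := Cfsg.Agent.H160.PD.Cfg.exists_mem hl hlX
  have h0 := hN ⊥ IsPGroup.of_bot x (by
    rw [Subgroup.mem_normalizer_iff]
    intro w
    simp only [_root_.Subgroup.mem_bot, _root_.conj_eq_one_iff]) hxo
  rw [v, Subgroup.card_bot, Nat.factorization_one, Finsupp.coe_zero, Pi.zero_apply, zero_add] at h0
  have h1 := odd_bound_of_uniq (a := v p (P Q) + f - f * d) (b := (2 * d).factorization p) H.prime hl hpl
    (H.uniq_second hO hl2 hlF hd hld)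
    (fun Y hY x hx hxo => by
      have := hN Y hY x hx hxo
      omega) (fun x hxo => by
      have h3 := H.cent_second hO hl hl2 hlF hd hld hxo
      obtain ⟨y, hy, hy1, rfl⟩ := H.exists_lift hl hl2 hxo
      obtain ⟨U, U', hU⟩ := exists_split H.good hl2 hlF hy hd hld hO.odd (H.dim_second hO hl2 hlF hd hy hy1).1
      have h2 := v_normalizer_le H.good hl2 hy hy1 (n := 2 * d) (by omega) (fun z k hk =>
        norm_pow_split hlF hy hd hd0 hU hk) p
      rw [h3, zero_add] at h2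
      exact h2) X hX hlX
  omega

end Cfsg.Agent.H14.PD
end

-- part: H14/PD/Field
section
/-!
# S4246, row of `POmega^+_{2n}(q)`: field automorphisms (helper14)
-/

set_option autoImplicit false
set_option linter.unusedSectionVars false

namespace Cfsg.Agent.H14.PD

open QuadraticMap Module Cfsg.Agent.LieClassical.OrthCore Cfsg.Agent.LieClassical.OrthTrans
open Cfsg.Agent.ClassicalGeometry.OrthSemi Cfsg.Agent.ClassicalGeometry.OrthAut1
open Cfsg.Agent.H200.LinFix Cfsg.Agent.H200.RowOrth Cfsg.Agent.H568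
open Cfsg.Agent.H160.PD (v v_mono v_eq_zero v_pos Fx mem_Fx NoOdd noOdd_of Uniq odd_bound_of_uniq out)

variable {F V : Type*} [Field F] [AddCommGroup V] [Module F V] {Q : QuadraticForm F V} [Finite V] [Finite F]

variable {n p f d : ℕ}

/-- irreducibility from a primitive prime for the prime field -/
theorem irrZ_on {g : Module.End F V} {r f e l : ℕ} [hl : Fact l.Prime] (hr : r.Prime) (hF : Nat.card F = r ^ f)
    (hd : ∀ m, l ∣ r ^ m - 1 → f * e ∣ m) (hlF : (l : F) ≠ 0) (hg : g ^ l = 1) {W : Submodule F V} (hWR : W ≤ R g)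
    (hW : finrank F W ≤ e) : IrrZ g W := by
  classical
  intro U hU hgU
  let g' : Module.End ℤ V := g.toAddMonoidHom.toIntLinearMap
  let U' : Submodule ℤ V := AddSubgroup.toIntSubmodule U
  have hpow : ∀ (n : ℕ) (v : V), (g' ^ n) v = (g ^ n) v := by
    intro n
    induction n with
    | zero => intro v; rfl
    | succ n ih => intro v; rw [pow_succ, pow_succ, Module.End.mul_apply, Module.End.mul_apply, ih]; rfl
  have h1 : Nat.card U' ≡ 1 [MOD l] := card_modEq (g := g') (W := U') (fun w hw => hgU w hw)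
    (fun w _ => by rw [hpow, hg]; rfl) (fun w hw h => eq_zero_of_mem hg hlF h (hWR (hU w hw)))
  have h2 : Nat.card U' ∣ Nat.card W := by
    have h3 : U ≤ W.toAddSubgroup := fun u hu => hU u hu
    exact (AddSubgroup.card_dvd_of_le h3 :)
  have h3 : Nat.card W = r ^ (f * finrank F W) := by
    rw [Module.natCard_eq_pow_finrank (K := F), hF, ← pow_mul]
  rw [h3] at h2
  obtain ⟨j, hj, hjU⟩ := (Nat.dvd_prime_pow hr).1 h2
  rw [hjU] at h1
  have h4 : l ∣ r ^ j - 1 := (Nat.modEq_iff_dvd' (Nat.one_le_pow _ _ hr.pos)).1 h1.symm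
  obtain ⟨c, hc⟩ := hd j h4
  rcases Nat.eq_zero_or_pos c with h0 | h0
  · left
    rw [hc, h0, mul_zero, pow_zero] at hjU
    exact AddSubgroup.card_eq_one.1 hjU
  · right
    have h5 : j = f * finrank F W := by
      apply le_antisymm hj
      calc f * finrank F W ≤ f * e := Nat.mul_le_mul_left _ hW
        _ ≤ f * e * c := Nat.le_mul_of_pos_right _ h0
        _ = j := hc.symm
    have h6 : U = W.toAddSubgroup := by
      apply AddSubgroup.eq_of_le_of_card_ge (fun u hu => hU u hu)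
      have h7 : Nat.card W.toAddSubgroup = Nat.card U := by
        change Nat.card W = Nat.card U'
        rw [h3, hjU, h5]
      exact h7.le
    intro w hw
    rw [h6]
    exact hw

/-- a semilinear map commuting with `y`, leaving an irreducible subspace invariant -/
theorem ss_eq_one {M : Equiv.Perm V} {σ : F ≃+* F} {c : F} (hM : IsSS Q σ c M) {g : Module.End F V}
    {W : Submodule F V} (hgW : ∀ w ∈ W, g w ∈ W) (hMW : ∀ w ∈ W, M w ∈ W) (hW : W ≠ ⊥) (hirr : IrrZ g W)
    (hcomm : ∀ v, M (g v) = g (M v)) : σ = 1 := by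
  let g' : Module.End ℤ V := g.toAddMonoidHom.toIntLinearMap
  let a : Module.End ℤ V := (AddMonoidHom.mk' M hM.add).toIntLinearMap
  have hWirr : Irr g' (W.restrictScalars ℤ) := by
    intro U hU hgU
    rcases hirr U.toAddSubgroup (fun u hu => hU hu) (fun u hu => hgU u hu) with h1 | h1
    · left
      rw [eq_bot_iff]
      intro u hu
      have h2 : u ∈ U.toAddSubgroup := hu
      rw [h1, AddSubgroup.mem_bot] at h2
      exact h2
    · right
      exact le_antisymm hU fun w hw => h1 w hw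
  obtain ⟨w, hw, hw0⟩ := Submodule.exists_mem_ne_zero_of_ne_bot hW
  ext lam
  let b : Module.End ℤ V := (AddMonoidHom.mk' (fun v : V => lam • v) (fun u v => smul_add lam u v)).toIntLinearMap
  have h1 := schur (g := g') (a := a) (b := b) (W := W.restrictScalars ℤ) hWirr
    (fun w hw => hgW w hw) (fun w hw => hMW w hw) (fun w hw => W.smul_mem lam hw)
    (fun w _ => hcomm w) (fun w _ => (g.map_smul lam w).symm) hw
  have h2 : M (lam • w) = lam • M w := h1
  rw [hM.smul] at h2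
  have h3 : (σ lam - lam) • M w = 0 := by rw [sub_smul, h2, sub_self]
  rcases smul_eq_zero.1 h3 with h4 | h4
  · exact sub_eq_zero.1 h4
  · exact absurd (M.injective (h4.trans hM.map_zero.symm)) hw0

/-- the image of a subspace under a semilinear map -/
theorem exists_image {M : Equiv.Perm V} {σ : F ≃+* F} {c : F} (hM : IsSS Q σ c M) (U : Submodule F V) :
    ∃ W : Submodule F V, (∀ w, w ∈ W ↔ ∃ u ∈ U, M u = w) ∧ finrank F W = finrank F U := by
  let W : Submodule F V :=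
    { carrier := {w | ∃ u ∈ U, M u = w}
      add_mem' := by
        rintro _ _ ⟨a, ha, rfl⟩ ⟨b, hb, rfl⟩
        exact ⟨a + b, U.add_mem ha hb, hM.add a b⟩
      zero_mem' := ⟨0, U.zero_mem, hM.map_zero⟩
      smul_mem' := by
        rintro x _ ⟨a, ha, rfl⟩
        refine ⟨σ.symm x • a, U.smul_mem _ ha, ?_⟩
        rw [hM.smul, RingEquiv.apply_symm_apply] }
  refine ⟨W, fun w => Iff.rfl, ?_⟩
  have h1 : Nat.card W = Nat.card U := by
    refine Nat.card_congr (Equiv.ofBijective (fun u : U => (⟨M u, u, u.2, rfl⟩ : W)) ⟨?_, ?_⟩).symm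
    · intro a b h
      exact Subtype.ext (M.injective (congrArg Subtype.val h))
    · rintro ⟨_, u, hu, rfl⟩
      exact ⟨⟨u, hu⟩, rfl⟩
  rw [Module.natCard_eq_pow_finrank (K := F) (V := W), Module.natCard_eq_pow_finrank (K := F) (V := U)] at h1
  exact Nat.pow_right_injective (show 2 ≤ Nat.card F from Finite.one_lt_card) h1

theorem ss_split_false {M : Equiv.Perm V} {σ : F ≃+* F} {c : F} (hM : IsSS Q σ c M) (hσ : σ ≠ 1) {k : ℕ} (hk : Odd k)
    (hσk : σ ^ k = 1) {y : ↥(E Q)} {U U' : Submodule F V} (hd0 : 0 < d) (h : Split Q y d U U')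
    (hcomm : ∀ v, M (en Q y v) = en Q y (M v)) (hirr : IrrZ (en Q y) U) : False := by
  have hfd : FiniteDimensional F V := inferInstance
  have hRd : finrank F (R (en Q y)) = 2 * d := by
    have h1 := Submodule.finrank_sup_add_finrank_inf_eq U U'
    rw [h.sup, h.inf, finrank_bot, h.dim, h.dim'] at h1
    omega
  have key : ∀ W : Submodule F V, W ≤ R (en Q y) → (∀ w ∈ W, en Q y w ∈ W) → finrank F W = d →
      (∀ w ∈ W, M w ∈ U) ∨ (∀ w ∈ W, M w ∈ U') := by
    intro W hWR hyW hWd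
    obtain ⟨X, hX, hXd⟩ := exists_image hM W
    have h1 : X ≤ R (en Q y) := by
      intro x hx
      obtain ⟨w, hw, rfl⟩ := (hX x).1 hx
      obtain ⟨w', rfl⟩ := hWR hw
      refine ⟨M w', ?_⟩
      change en Q y (M w') - M w' = M (en Q y w' - w')
      rw [hM.sub, hcomm]
    have h2 : ∀ x ∈ X, en Q y x ∈ X := by
      intro x hx
      obtain ⟨w, hw, rfl⟩ := (hX x).1 hx
      rw [← hcomm]
      exact (hX _).2 ⟨_, hyW w hw, rfl⟩
    rcases h.all X h1 h2 with h3 | h3 | h3 | h3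
    · rw [h3, finrank_bot] at hXd
      omega
    · left
      intro w hw
      rw [← h3]
      exact (hX _).2 ⟨w, hw, rfl⟩
    · right
      intro w hw
      rw [← h3]
      exact (hX _).2 ⟨w, hw, rfl⟩
    · rw [h3, hRd] at hXd
      omega
  have hU0 : U ≠ ⊥ := by
    intro h0
    have := h.dim
    rw [h0, finrank_bot] at this
    omega
  have hU0' : U' ≠ ⊥ := by
    intro h0
    have := h.dim'
    rw [h0, finrank_bot] at this
    omega
  rcases key U h.le h.inv h.dim with h1 | h1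
  · exact hσ (ss_eq_one hM h.inv h1 hU0 hirr hcomm)
  · have h2 : ∀ w ∈ U', M w ∈ U := by
      rcases key U' h.le' h.inv' h.dim' with h2 | h2
      · exact h2
      · exfalso
        obtain ⟨X, hX, hXd⟩ := exists_image hM U
        have h3 : X = U' := by
          apply Submodule.eq_of_le_of_finrank_eq
          · intro x hx
            obtain ⟨w, hw, rfl⟩ := (hX x).1 hx
            exact h1 w hw
          · rw [hXd, h.dim, h.dim']
        obtain ⟨w, hw, hw0⟩ := Submodule.exists_mem_ne_zero_of_ne_bot hU0'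
        have h4 : M w ∈ X := by rw [h3]; exact h2 w hw
        obtain ⟨u, hu, huw⟩ := (hX _).1 h4
        have h5 : u = w := M.injective huw
        subst h5
        have h6 : u ∈ U ⊓ U' := ⟨hu, hw⟩
        rw [h.inf, Submodule.mem_bot] at h6
        exact hw0 h6
    have h3 := ss_eq_one (isSS_pow hM 2) h.inv (fun w hw => h2 _ (h1 w hw)) hU0 hirr (fun w => by
      change M (M (en Q y w)) = en Q y (M (M w))
      rw [hcomm, hcomm])
    apply hσ
    obtain ⟨j, rfl⟩ := hk
    rw [pow_succ, pow_mul, h3, one_pow, one_mul] at hσk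
    exact hσk

/-- the order of `σ` -/
theorem sigma_pow (hG : Good Q) {k : ℕ} {M : Gam Q} {σ : F ≃+* F} {c : F}
    (hM : IsSS Q σ c M.1) (ha : orderOf (Psi Q M) = k) : σ ^ k = 1 := by
  have h1 : M ^ k ∈ (Psi Q).ker := by
    rw [MonoidHom.mem_ker, map_pow, ← ha, pow_orderOf_eq_one]
  rw [ker_Psi hG] at h1
  obtain ⟨a, ha'⟩ := h1
  have h2 : IsSS Q (1 : F ≃+* F) ((a : F) * a) (M ^ k).1 := by
    rw [← ha']
    refine ⟨mul_ne_zero a.ne_zero a.ne_zero, fun u v => smul_add _ _ _, fun b v => smul_comm _ _ _, fun v => ?_⟩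
    rw [scal_apply, QuadraticMap.map_smul]
    rfl
  exact (isSS_unique (exists_ne hG) (isSS_pow hM k) h2).1

/-- **Automorphisms of odd prime order fixing an element of order `r₀`.** -/
theorem Plus.lift_first (H : Plus Q n p f) [IsSimpleGroup (P Q)] {l : ℕ} [hl : Fact l.Prime] (hl2 : l ≠ 2)
    (hlF : (l : F) ≠ 0) (hd : Ordd l (Nat.card F) (2 * (n - 1))) (hsup : ∀ m, l ∣ p ^ m - 1 → f * (2 * (n - 1)) ∣ m)
    {b : MulAut (P Q)} (hb : (orderOf b).Prime) (hb2 : orderOf b ≠ 2) (hM : ∃ M : Gam Q, b = Psi Q M)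
    {x : P Q} (hx : orderOf x = l) (hbx : b x = x) :
    ∃ t y : ↥(E Q), t ^ orderOf b = 1 ∧ t ≠ 1 ∧ b = MulAut.conj (QuotientGroup.mk t : P Q) ∧ y ^ l = 1 ∧ y ≠ 1 ∧
      (QuotientGroup.mk y : P Q) = x ∧ t * y = y * t := by
  have hG := H.good
  have hbF := Fact.mk hb
  obtain ⟨M, hM⟩ := hM
  have hlo := hl.out.odd_of_ne_two hl2
  obtain ⟨y, hy, hy1, hyx⟩ := H.exists_lift hl.out hl2 hx
  rcases inner_or_field hG hb hb2 (M := M) (by rw [← hM]) with ⟨g, hg⟩ | ⟨σ, c, hMs, hσ⟩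
  · obtain ⟨t, ht, ht1, hat⟩ := exists_lift_elt hG hb2 (a := b) rfl (s := g) (by rw [hM, hg]) (not_comm_P hG)
    refine ⟨t, y, ht, ht1, hat, hy, hy1, hyx, ?_⟩
    rw [hat, MulAut.conj_apply, mul_inv_eq_iff_eq_mul, ← hyx] at hbx
    exact (comm_of_mk hG hlo hy hbx.symm).symm
  · exfalso
    refine not_fixed_field hG hl2 hMs hσ (fun z hz => ?_) hx (by rw [← hM]; exact hbx)
    by_cases hz1 : z = 1
    · subst hz1
      intro U hU _
      left
      rw [eq_bot_iff]
      intro u hu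
      have h2 := hU u hu
      rw [map_one, R_eq_bot.2 rfl] at h2
      exact h2
    · have hz' : en Q z ^ l = 1 := by rw [← map_pow, hz, map_one]
      exact irrZ_of H.prime H.hF hsup hlF hz' (H.dim_first hlF hd hz hz1).1.le

/-- **Automorphisms of odd prime order fixing an element of order `r₁`.** -/
theorem Plus.lift_second (H : Plus Q n p f) (hO : Odg n d) [IsSimpleGroup (P Q)] {l : ℕ} [hl : Fact l.Prime] (hl2 : l ≠ 2)
    (hlF : (l : F) ≠ 0) (hd : Ordd l (Nat.card F) d) (hld : l ∣ Nat.card F ^ d - 1)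
    (hsup : (∀ m, l ∣ p ^ m - 1 → f * d ∣ m) ∨ f ≤ 2)
    {b : MulAut (P Q)} (hb : (orderOf b).Prime) (hb2 : orderOf b ≠ 2) (hM : ∃ M : Gam Q, b = Psi Q M)
    {x : P Q} (hx : orderOf x = l) (hbx : b x = x) :
    ∃ t y : ↥(E Q), t ^ orderOf b = 1 ∧ t ≠ 1 ∧ b = MulAut.conj (QuotientGroup.mk t : P Q) ∧ y ^ l = 1 ∧ y ≠ 1 ∧
      (QuotientGroup.mk y : P Q) = x ∧ t * y = y * t := by
  have hG := H.good
  have hbF := Fact.mk hb
  have hfd : FiniteDimensional F V := inferInstance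
  obtain ⟨M, hM⟩ := hM
  have hlo := hl.out.odd_of_ne_two hl2
  obtain ⟨y, hy, hy1, hyx⟩ := H.exists_lift hl.out hl2 hx
  rcases inner_or_field hG hb hb2 (M := M) (by rw [← hM]) with ⟨g, hg⟩ | ⟨σ, c, hMs, hσ⟩
  · obtain ⟨t, ht, ht1, hat⟩ := exists_lift_elt hG hb2 (a := b) rfl (s := g) (by rw [hM, hg]) (not_comm_P hG)
    refine ⟨t, y, ht, ht1, hat, hy, hy1, hyx, ?_⟩
    rw [hat, MulAut.conj_apply, mul_inv_eq_iff_eq_mul, ← hyx] at hbx
    exact (comm_of_mk hG hlo hy hbx.symm).symm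
  · exfalso
    have hMb : orderOf (Psi Q M) = orderOf b := by rw [← hM]
    rcases hsup with hsup | hf2
    · have h2 := conj_fix hG hlo hy (M := M) (by rw [← hM, hyx]; exact hbx)
      obtain ⟨U, U', hU⟩ := exists_split H.good hl2 hlF hy hd hld hO.odd (H.dim_second hO hl2 hlF hd hy hy1).1
      have hy' : en Q y ^ l = 1 := by rw [← map_pow, hy, map_one]
      refine ss_split_false hMs hσ (hb.odd_of_ne_two hb2) (sigma_pow hG hMs hMb) hO.odd.pos hU (fun v => ?_)
        (irrZ_on H.prime H.hF hsup hlF hy' hU.le hU.dim.le)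
      rw [en_apply, en_apply, ← conjLin_apply', ← coe_conjE, h2]
    · have h1 := field_dvd hG hb hMs hσ hMb H.prime H.hF
      have h2 := Nat.le_of_dvd H.hf h1
      have h3 := hb.two_le
      omega

end Cfsg.Agent.H14.PD
end

-- part: H14/PD/Crit
section
/-!
# S4246: the criterion with two primes, with `Inc` replaced by a hypothesis on the configurations (helper14)
-/

set_option autoImplicit false
set_option linter.unusedSectionVars false

namespace Cfsg.Agent.H14.PD

open Subgroup Cfsg.Agent.H160.PD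

variable {S : Type*} [Group S] [Finite S]

/-! ### two primes and the characteristic -/

/-- **The hypotheses of the criterion with two primes** `r₀, r₁` for a group in characteristic `p`. -/
structure TwoE (S : Type*) [Group S] (p r₀ r₁ c₀ c₁ cE m₀ m₁ : ℕ) : Prop where
  prime : p.Prime
  good₀ : Good S r₀
  good₁ : Good S r₁
  /-- the `p`-parts of the centralisers of the elements of order `r_i` -/
  cent₀ : ∀ x : S, orderOf x = r₀ → v p (centralizer {x}) ≤ c₀
  cent₁ : ∀ x : S, orderOf x = r₁ → v p (centralizer {x}) ≤ c₁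
  noOdd : NoOdd S r₀ r₁
  exc : ∀ (π : Set ℕ) (L K L' K' : Subgroup (MulAut S)), Cfg π L K L' K' → r₀ ∣ Nat.card (tr K) → r₁ ∣ Nat.card (tr K) → False
  /-- the automorphisms fixing elements of order `r_i` -/
  syl₀ : ∀ b : MulAut S, (orderOf b).Prime → orderOf b ≠ 2 → orderOf b ≠ p → ∀ x : S, orderOf x = r₀ → b x = x →
    v p (Fx b) + max c₁ cE + (out S).factorization p < v p S
  syl₁ : ∀ b : MulAut S, (orderOf b).Prime → orderOf b ≠ 2 → orderOf b ≠ p → ∀ x : S, orderOf x = r₁ → b x = x →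
    v p (Fx b) + max c₀ cE + (out S).factorization p < v p S
  cc : c₀ + c₁ + (out S).factorization p < v p S
  /-- the other primes -/
  num : ∀ t, t.Prime → t ≠ 2 → t ≠ p → t ∣ Nat.card S → t ≠ r₀ → t ≠ r₁ →
    ((out S).factorization t < v t S ∧ ∀ y : S, orderOf y = t → v p (centralizer {y}) ≤ cE) ∨
    ∀ x y : S, orderOf x = r₀ → orderOf y = r₁ →
      v t (centralizer {x}) + v t (centralizer {y}) + (out S).factorization t < v t S
  /-- subgroups of odd order containing elements of order `r_i` -/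
  odd₀ : p ≠ 2 → ∀ H : Subgroup S, Odd (Nat.card H) → r₀ ∣ Nat.card H → v p H ≤ m₀
  odd₁ : p ≠ 2 → ∀ H : Subgroup S, Odd (Nat.card H) → r₁ ∣ Nat.card H → v p H ≤ m₁
  n₀ : p ≠ 2 → m₀ + c₁ + (out S).factorization p < v p S
  n₁ : p ≠ 2 → m₁ + c₀ + (out S).factorization p < v p S
  n₀₁ : p ≠ 2 → m₀ + m₁ + (out S).factorization p < v p S

theorem TwoE.symm {p r₀ r₁ c₀ c₁ cE m₀ m₁ : ℕ} (h : TwoE S p r₀ r₁ c₀ c₁ cE m₀ m₁) :
    TwoE S p r₁ r₀ c₁ c₀ cE m₁ m₀ where
  prime := h.prime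
  good₀ := h.good₁
  good₁ := h.good₀
  cent₀ := h.cent₁
  cent₁ := h.cent₀
  noOdd := h.noOdd.symm
  exc := fun π L K L' K' hC h1 h2 => h.exc π L K L' K' hC h2 h1
  syl₀ := h.syl₁
  syl₁ := h.syl₀
  cc := by have := h.cc; omega
  num := fun t h1 h2 h3 h4 h5 h6 => by
    rcases h.num t h1 h2 h3 h4 h6 h5 with h7 | h7
    · exact Or.inl h7
    · exact Or.inr fun x y hx hy => by have := h7 y x hy hx; omega
  odd₀ := h.odd₁
  odd₁ := h.odd₀
  n₀ := h.n₁
  n₁ := h.n₀
  n₀₁ := fun hp => by have := h.n₀₁ hp; omega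

namespace TwoE

variable {p r₀ r₁ c₀ c₁ cE m₀ m₁ : ℕ} {π : Set ℕ} {L K L' K' : Subgroup (MulAut S)}

/-- `p ∉ π`, `r₀` in `L` -/
theorem caseOne (hZ : center S = ⊥) (H : TwoE S p r₀ r₁ c₀ c₁ cE m₀ m₁) (h : Cfg π L K L' K') (hp : p ∉ π)
    (h0 : r₀ ∣ Nat.card (tr L)) : False := by
  obtain ⟨x, hx, hxo⟩ := Cfg.exists_mem H.good₀.prime h0
  have h1 := (v_mono (h.trK_le_centralizer hZ hx) p).trans (H.cent₀ x hxo)
  have h2 := v_le hZ K p
  have h3 := h.numK p H.prime hp
  rcases h.cover hZ H.good₁ with (h4 | h4) | (h4 | h4)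
  · exact h.exclLL hZ H.noOdd h0 h4
  · exact h.exclLK hZ H.good₀.prime H.good₀.odd H.good₁.prime H.good₁.odd H.noOdd h0 h4
  · obtain ⟨y, hy, hyo⟩ := Cfg.exists_mem H.good₁.prime h4
    have h5 := (v_mono (h.symm.trK_le_centralizer hZ hy) p).trans (H.cent₁ y hyo)
    have h6 := H.cc
    simp only [v] at *
    omega
  · obtain ⟨y, hy, hyo⟩ := Cfg.exists_mem H.good₁.prime h4
    obtain ⟨b, hb, t, ht, htπ, ht2, hbo⟩ := h.symm.exists_prime
    have h5 := v_mono (h.symm.trK_le hZ hb) p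
    have h6 := H.syl₁ b (hbo ▸ ht) (by rw [hbo]; exact ht2) (by rw [hbo]; rintro rfl; exact hp htπ) y hyo
      (h.symm.fix hZ hb hy)
    have h7 := le_max_left c₀ cE
    simp only [v] at *
    omega

/-- `p ∉ π`, `r₀` in `K`, `r₁` in `K'` -/
theorem caseThree (hZ : center S = ⊥) (H : TwoE S p r₀ r₁ c₀ c₁ cE m₀ m₁) (h : Cfg π L K L' K') (hp : p ∉ π)
    (h0 : r₀ ∣ Nat.card (tr K)) (h1 : r₁ ∣ Nat.card (tr K')) : False := by
  obtain ⟨x, hx, hxo⟩ := Cfg.exists_mem H.good₀.prime h0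
  obtain ⟨y, hy, hyo⟩ := Cfg.exists_mem H.good₁.prime h1
  obtain ⟨t, ht, htπ, htS⟩ := h.dvd
  have ht2 : t ≠ 2 := fun h0 => h.two (h0 ▸ htπ)
  have htp : t ≠ p := fun h0 => hp (h0 ▸ htπ)
  have htr : t ≠ r₀ := fun h2 => h.not_mem_pi_of_dvd hZ H.good₀.prime h0 (h2 ▸ htπ)
  have htr' : t ≠ r₁ := fun h2 => h.symm.not_mem_pi_of_dvd hZ H.good₁.prime h1 (h2 ▸ htπ)
  rcases H.num t ht ht2 htp htS htr htr' with ⟨h2, h3⟩ | h2
  · rcases h.mem_L_or hZ ht htπ h2 with ⟨z, hz, hzo⟩ | ⟨z, hz, hzo⟩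
    · have h4 := (v_mono (h.trK_le_centralizer hZ hz) p).trans (h3 z hzo)
      have h5 := v_le hZ K p
      have h6 := h.numK p H.prime hp
      obtain ⟨b, hb, u, hu, huπ, hu2, hbo⟩ := h.symm.exists_prime
      have h7 := v_mono (h.symm.trK_le hZ hb) p
      have h8 := H.syl₁ b (hbo ▸ hu) (by rw [hbo]; exact hu2) (by rw [hbo]; rintro rfl; exact hp huπ) y hyo
        (h.symm.fix hZ hb hy)
      have h9 := le_max_right c₀ cE
      simp only [v] at *
      omega
    · have h4 := (v_mono (h.symm.trK_le_centralizer hZ hz) p).trans (h3 z hzo)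
      have h5 := v_le hZ K' p
      have h6 := h.numK' p H.prime hp
      obtain ⟨b, hb, u, hu, huπ, hu2, hbo⟩ := h.exists_prime
      have h7 := v_mono (h.trK_le hZ hb) p
      have h8 := H.syl₀ b (hbo ▸ hu) (by rw [hbo]; exact hu2) (by rw [hbo]; rintro rfl; exact hp huπ) x hxo
        (h.fix hZ hb hx)
      have h9 := le_max_right c₁ cE
      simp only [v] at *
      omega
  · have h3 := h2 x y hxo hyo
    have h4 := v_mono (h.trL_le_centralizer hZ hx) t
    have h5 := v_mono (h.symm.trL_le_centralizer hZ hy) t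
    have h6 := v_le hZ L t
    have h7 := h.numL t ht htπ
    simp only [v] at *
    omega

/-- `p ∈ π`, `r₀` in `K` -/
theorem caseFour (hZ : center S = ⊥) (H : TwoE S p r₀ r₁ c₀ c₁ cE m₀ m₁) (h : Cfg π L K L' K') (hp : p ∈ π)
    (h0 : r₀ ∣ Nat.card (tr K)) : False := by
  have hp2 : p ≠ 2 := fun h1 => h.two (h1 ▸ hp)
  obtain ⟨x, hx, hxo⟩ := Cfg.exists_mem H.good₀.prime h0
  have h1 := (v_mono (h.trL_le_centralizer hZ hx) p).trans (H.cent₀ x hxo)
  have h2 := v_le hZ L p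
  have h3 := h.numL p H.prime hp
  rcases h.cover hZ H.good₁ with (h4 | h4) | (h4 | h4)
  · exact h.exclLK hZ H.good₁.prime H.good₁.odd H.good₀.prime H.good₀.odd H.noOdd.symm h4 h0
  · exact H.exc _ _ _ _ _ h h0 h4
  · have h5 := H.odd₁ hp2 (tr L') (h.symm.odd hZ) h4
    have h6 := H.n₁ hp2
    simp only [v] at *
    omega
  · obtain ⟨y, hy, hyo⟩ := Cfg.exists_mem H.good₁.prime h4
    have h5 := (v_mono (h.symm.trL_le_centralizer hZ hy) p).trans (H.cent₁ y hyo)
    have h6 := H.cc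
    simp only [v] at *
    omega

/-- `p ∈ π`, `r₀` in `L`, `r₁` in `L'` -/
theorem caseSix (hZ : center S = ⊥) (H : TwoE S p r₀ r₁ c₀ c₁ cE m₀ m₁) (h : Cfg π L K L' K') (hp : p ∈ π)
    (h0 : r₀ ∣ Nat.card (tr L)) (h1 : r₁ ∣ Nat.card (tr L')) : False := by
  have hp2 : p ≠ 2 := fun h1 => h.two (h1 ▸ hp)
  have h2 := v_le hZ L p
  have h3 := h.numL p H.prime hp
  have h4 := H.odd₀ hp2 (tr L) (h.odd hZ) h0
  have h5 := H.odd₁ hp2 (tr L') (h.symm.odd hZ) h1
  have h6 := H.n₀₁ hp2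
  simp only [v] at *
  omega

/-- **The criterion with two primes.** -/
theorem row (hZ : center S = ⊥) (H : TwoE S p r₀ r₁ c₀ c₁ cE m₀ m₁) : Row S := by
  have key : ∀ (π : Set ℕ) (L K L' K' : Subgroup (MulAut S)), Cfg π L K L' K' → In L K r₀ → False := by
    intro π L K L' K' h hI
    have hK1 : ¬ (r₀ ∣ Nat.card (tr K) ∧ r₁ ∣ Nat.card (tr K)) := fun h0 =>
      H.exc _ _ _ _ _ h h0.1 h0.2
    have hK2 : ¬ (r₁ ∣ Nat.card (tr L) ∧ r₀ ∣ Nat.card (tr K)) := fun h0 =>
      h.exclLK hZ H.good₁.prime H.good₁.odd H.good₀.prime H.good₀.odd H.noOdd.symm h0.1 h0.2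
    have hK3 : ¬ (r₀ ∣ Nat.card (tr L) ∧ r₁ ∣ Nat.card (tr K)) := fun h0 =>
      h.exclLK hZ H.good₀.prime H.good₀.odd H.good₁.prime H.good₁.odd H.noOdd h0.1 h0.2
    have hK4 : ¬ (r₀ ∣ Nat.card (tr L) ∧ r₁ ∣ Nat.card (tr L)) := fun h0 => h.exclLL hZ H.noOdd h0.1 h0.2
    have c1 := h.cover hZ H.good₁
    by_cases hp : p ∈ π
    · have e1 := H.caseFour hZ h hp
      have e2 := H.symm.caseFour hZ h.symm hp
      have e3 := H.caseSix hZ h hp
      unfold In at *
      (clear * - hI hK3 hK4 c1 e1 e2 e3; itauto)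
    · have e1 := H.caseOne hZ h hp
      have e2 := H.symm.caseOne hZ h.symm hp
      have e3 := H.caseThree hZ h hp
      unfold In at *
      (clear * - hI hK1 hK2 c1 e1 e2 e3; itauto)
  intro π L K L' K' h
  rcases h.cover hZ H.good₀ with h0 | h0
  · exact key _ _ _ _ _ h h0
  · exact key _ _ _ _ _ h.symm h0

end TwoE

end Cfsg.Agent.H14.PD
end

-- part: H14/PD/Main
section
/-!
# S4246, row of `POmega^+_{2n}(q)`: the criterion (helper14)
-/

set_option autoImplicit false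
set_option linter.unusedSectionVars false

namespace Cfsg.Agent.H14.PD

open QuadraticMap Module Cfsg.Agent.LieClassical.OrthCore Cfsg.Agent.LieClassical.OrthTrans
open Cfsg.Agent.ClassicalGeometry.OrthSemi Cfsg.Agent.ClassicalGeometry.OrthAut1
open Cfsg.Agent.H200.LinFix Cfsg.Agent.H200.RowOrth Cfsg.Agent.H568
open Cfsg.Agent.H160.PD (v v_mono v_eq_zero v_pos Fx mem_Fx NoOdd noOdd_of Uniq odd_bound_of_uniq out Cfg tr Row)

/-! ### arithmetic -/

section arith

theorem two_mul_add_one_le (k : ℕ) : 2 * k + 1 ≤ 3 ^ k := by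
  induction k with
  | zero => norm_num
  | succ k ih => rw [pow_succ]; omega

theorem fac_bound {p m : ℕ} (hp : p.Prime) (hp2 : p ≠ 2) (hm : 1 ≤ m) : 2 * m.factorization p + 1 ≤ m := by
  have h1 := two_mul_add_one_le (m.factorization p)
  have h2 : 3 ^ m.factorization p ≤ p ^ m.factorization p :=
    Nat.pow_le_pow_left (by have := hp.two_le; omega) _
  have h3 : p ^ m.factorization p ≤ m := Nat.le_of_dvd hm (Nat.ordProj_dvd m p)
  omega

theorem fac_two_mul {p m : ℕ} (hp : p.Prime) (hp2 : p ≠ 2) (hm : 1 ≤ m) :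
    (2 * m).factorization p = m.factorization p := by
  rw [Nat.factorization_mul two_ne_zero (by omega), Finsupp.add_apply, Nat.factorization_eq_zero_of_not_dvd (n := 2)
    (fun h => hp2 ((Nat.prime_dvd_prime_iff_eq hp Nat.prime_two).1 h)), zero_add]

theorem key_arith {n d p f : ℕ} (hp : p.Prime) (hp2 : p ≠ 2) (hn : 4 ≤ n) (hf : 1 ≤ f) (hO : Odg n d)
    (hne : ¬ (p = 3 ∧ f = 1 ∧ n = 4)) {o : ℕ} (ho : o ≤ f.factorization p + (if p = 3 ∧ n = 4 then 1 else 0)) :
    (2 * (n - 1)).factorization p + (2 * d).factorization p + o + f < f * d := by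
  have hod := hO.odd
  have hor := hO.or
  rw [Nat.odd_iff] at hod
  rw [fac_two_mul hp hp2 (by omega), fac_two_mul hp hp2 (by omega)]
  have h1 := fac_bound hp hp2 (m := n - 1) (by omega)
  have h2 := fac_bound hp hp2 (m := n) (by omega)
  have h3 := fac_bound hp hp2 (m := f) hf
  rcases hor with rfl | rfl
  · have h4 : (d - 1).factorization p = 0 ∨ d.factorization p = 0 := by
      by_contra hcon
      push Not at hcon
      have h5 : p ∣ d - 1 := by
        by_contra h; exact hcon.1 (Nat.factorization_eq_zero_of_not_dvd h)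
      have h6 : p ∣ d := by
        by_contra h; exact hcon.2 (Nat.factorization_eq_zero_of_not_dvd h)
      have h7 := Nat.dvd_sub h6 h5
      rw [show d - (d - 1) = 1 by (clear * - hn; omega)] at h7
      exact hp.one_lt.ne' (Nat.dvd_one.1 h7)
    rw [if_neg (by rintro ⟨-, rfl⟩; omega), add_zero] at ho
    have h5 : (d - 1) + (f - 1) + f ≤ f * d := by
      obtain ⟨a, rfl⟩ : ∃ a, f = a + 1 := ⟨f - 1, by omega⟩
      obtain ⟨b, rfl⟩ : ∃ b, d = b + 2 := ⟨d - 2, by omega⟩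
      have : 0 ≤ a * b := Nat.zero_le _
      have e : (a + 1) * (b + 2) = a * b + 2 * a + b + 2 := by ring
      (clear * - e; omega)
    (clear * - h3 ho h1 h2 h5; omega)
  · by_cases h34 : p = 3 ∧ n = 4
    · obtain ⟨rfl, rfl⟩ := h34
      have hf2 : 2 ≤ f := by
        by_contra h
        exact hne ⟨rfl, by omega, rfl⟩
      rw [if_pos ⟨rfl, rfl⟩] at ho
      have h4 : (4 - 1).factorization 3 = 1 := by
        rw [show (4 - 1) = 3 by norm_num]
        exact Nat.Prime.factorization_self Nat.prime_three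
      rw [h4]
      rcases Nat.lt_or_ge f 3 with h5 | h5
      · have h6 : f = 2 := by omega
        subst h6
        have h7 : (2 : ℕ).factorization 3 = 0 := Nat.factorization_eq_zero_of_not_dvd (by norm_num)
        omega
      · omega
    · rw [if_neg h34, add_zero] at ho
      have h5 : (n - 2) + (f - 1) + f ≤ f * (n - 1) := by
        obtain ⟨a, rfl⟩ : ∃ a, f = a + 1 := ⟨f - 1, by omega⟩
        obtain ⟨b, rfl⟩ : ∃ b, n = b + 3 := ⟨n - 3, by omega⟩
        have e : (a + 1) * (b + 2) = a * b + 2 * a + b + 2 := by ring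
        have e2 : b + 3 - 1 = b + 2 := by (clear * -; omega)
        rw [e2, e]
        have : 0 ≤ a * b := Nat.zero_le _
        (clear * -; omega)
      -- `2 a < n - 2`
      have h6 : 2 * (n - 1).factorization p < n - 2 := by
        by_contra hcon
        have h7 : n - 1 = 2 * (n - 1).factorization p + 1 := by (clear * - h1 hcon; omega)
        have h8 : p ^ (n - 1).factorization p ≤ n - 1 := Nat.le_of_dvd (by omega) (Nat.ordProj_dvd _ p)
        have hp3 : 3 ≤ p := by have := hp.two_le; (clear * - hp2 this; omega)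
        rcases Nat.lt_or_ge ((n - 1).factorization p) 2 with h9 | h9
        · have h10 : (n - 1).factorization p = 1 := by omega
          rw [h10] at h7 h8
          rw [pow_one] at h8
          exact h34 ⟨by omega, by omega⟩
        · have h10 : ∀ k, 2 ≤ k → 2 * k + 1 < 3 ^ k := by
            intro k hk
            induction k, hk using Nat.le_induction with
            | base => norm_num
            | succ k hk ih => rw [pow_succ]; omega
          have h11 := h10 _ h9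
          have h12 : 3 ^ (n - 1).factorization p ≤ p ^ (n - 1).factorization p := Nat.pow_le_pow_left hp3 _
          omega
      omega

end arith

variable {F V : Type*} [Field F] [AddCommGroup V] [Module F V] {Q : QuadraticForm F V} [Finite V] [Finite F]

variable {n p f d : ℕ}

/-- the prime `r₀` -/
structure First (Q : QuadraticForm F V) (n p f l : ℕ) : Prop where
  prime : l.Prime
  ne : l ≠ 2
  cast : (l : F) ≠ 0
  ord : Ordd l (Nat.card F) (2 * (n - 1))
  dvd : l ∣ Nat.card F ^ (n - 1) + 1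
  sup : ∀ m, l ∣ p ^ m - 1 → f * (2 * (n - 1)) ∣ m
  le : finrank F V < 2 * l
  card : l ∣ Nat.card (P Q)

/-- the prime `r₁` -/
structure Second (Q : QuadraticForm F V) (n p f d l : ℕ) : Prop where
  prime : l.Prime
  ne : l ≠ 2
  cast : (l : F) ≠ 0
  ord : Ordd l (Nat.card F) d
  dvd : l ∣ Nat.card F ^ d - 1
  sup : (∀ m, l ∣ p ^ m - 1 → f * d ∣ m) ∨ f ≤ 2
  le : finrank F V < 2 * l
  card : l ∣ Nat.card (P Q)

theorem PlusC.dvd_card (H : PlusC Q n p f) {l i : ℕ} (hl : l.Prime) (hl2 : l ≠ 2) (hi : 1 ≤ i) (hi' : i ≤ n - 1)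
    (h : l ∣ Nat.card F ^ (2 * i) - 1) : l ∣ Nat.card (P Q) := by
  obtain ⟨c, hc, hcc⟩ := H.hcard
  have h1 : l ∣ c * Nat.card (P Q) := by
    rw [hcc]
    refine Dvd.dvd.mul_left ?_ _
    refine Dvd.dvd.trans ?_ (Finset.dvd_prod_of_mem (fun i => Nat.card F ^ (2 * (i + 1)) - 1)
      (Finset.mem_range.2 (show i - 1 < n - 1 by omega)))
    change l ∣ Nat.card F ^ (2 * (i - 1 + 1)) - 1
    rwa [Nat.sub_add_cancel hi]
  rcases hl.dvd_mul.1 h1 with h2 | h2
  · exfalso
    have h5 : l ∣ 2 ^ 2 := h2.trans hc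
    exact hl2 ((Nat.prime_dvd_prime_iff_eq hl Nat.prime_two).1 (hl.dvd_of_dvd_pow h5))
  · exact h2

theorem PlusC.dvd_card' (H : PlusC Q n p f) {l : ℕ} (hl : l.Prime) (hl2 : l ≠ 2)
    (h : l ∣ Nat.card F ^ n - 1) : l ∣ Nat.card (P Q) := by
  obtain ⟨c, hc, hcc⟩ := H.hcard
  have h1 : l ∣ c * Nat.card (P Q) := by
    rw [hcc]
    exact Dvd.dvd.mul_right (Dvd.dvd.mul_left h _) _
  rcases hl.dvd_mul.1 h1 with h2 | h2
  · exfalso
    have h5 : l ∣ 2 ^ 2 := h2.trans hc
    exact hl2 ((Nat.prime_dvd_prime_iff_eq hl Nat.prime_two).1 (hl.dvd_of_dvd_pow h5))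
  · exact h2

theorem PlusC.exists_first (H : PlusC Q n p f) (hne : ¬ (p = 2 ∧ f = 1 ∧ n = 4)) : ∃ l, First Q n p f l := by
  have hn := H.hn
  have hf := H.hf
  have hF := H.hF
  obtain ⟨l, hl, hl2, hsup, hdiv, hle, hd, hlr⟩ := exists_super (e := 2 * (n - 1)) H.prime H.hf (by omega) (by
    rintro ⟨h1, h2⟩
    apply hne
    have h3 : f * 6 ≤ f * (2 * (n - 1)) := Nat.mul_le_mul_left _ (by omega)
    have h4 : f = 1 := by omega
    subst h4
    exact ⟨h1, rfl, by omega⟩)
  rw [← hF] at hdiv hd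
  have hfe : 2 * (n - 1) ≤ f * (2 * (n - 1)) := Nat.le_mul_of_pos_left _ hf
  have := Fact.mk hl
  exact ⟨l, hl, hl2, H.cast_ne hl (by omega) hdiv, hd, dvd_add_one (by omega) hd hdiv, hsup,
    by rw [H.hV]; omega, H.dvd_card hl hl2 (i := n - 1) (by omega) le_rfl hdiv⟩

theorem PlusC.exists_second (H : PlusC Q n p f) (hO : Odg n d) : ∃ l, Second Q n p f d l := by
  have hn := H.hn
  have hf := H.hf
  have hF := H.hF
  have hod := hO.odd
  have hor := hO.or
  have hd3 : 3 ≤ d := by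
    rw [Nat.odd_iff] at hod
    omega
  obtain ⟨l, hl, hl2, hsup, hdiv, hle, hd⟩ : ∃ l : ℕ, l.Prime ∧ l ≠ 2 ∧ ((∀ m, l ∣ p ^ m - 1 → f * d ∣ m) ∨ f ≤ 2) ∧
      l ∣ Nat.card F ^ d - 1 ∧ d + 1 ≤ l ∧ Ordd l (Nat.card F) d := by
    by_cases h6 : p = 2 ∧ f * d = 6
    · obtain ⟨l, hl, hl2, hdiv, hle, hd, -⟩ := exists_prim_odd (q := Nat.card F) Finite.one_lt_card hd3 hod
      refine ⟨l, hl, hl2, Or.inr ?_, hdiv, hle, hd⟩
      by_contra hcon
      have : 3 * 3 ≤ f * d := Nat.mul_le_mul (by omega) hd3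
      omega
    · obtain ⟨l, hl, hl2, hsup, hdiv, hle, hd, hlr⟩ := exists_super (e := d) H.prime H.hf hd3 h6
      rw [← hF] at hdiv hd
      have hfe : d ≤ f * d := Nat.le_mul_of_pos_left _ hf
      exact ⟨l, hl, hl2, Or.inl hsup, hdiv, by omega, hd⟩
  have hlo := hl.odd_of_ne_two hl2
  refine ⟨l, hl, hl2, H.cast_ne hl (by omega) hdiv, hd, hdiv, hsup, ?_, ?_⟩
  · rw [H.hV]
    rw [Nat.odd_iff] at hod hlo
    (clear * - hn hod hor hle hlo; omega)
  · rcases hor with rfl | rfl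
    · exact H.dvd_card' hl hl2 hdiv
    · refine H.dvd_card hl hl2 (i := n - 1) (by omega) le_rfl (hdiv.trans ?_)
      have := Nat.sub_dvd_pow_sub_pow (Nat.card F ^ (n - 1)) 1 2
      rwa [one_pow, ← pow_mul, mul_comm (n - 1) 2] at this

/-- the `p`-part of the fixed points of an inner automorphism -/
theorem Plus.v_Fx (H : Plus Q n p f) {b : MulAut (P Q)} (hb : (orderOf b).Prime) (hb2 : orderOf b ≠ 2)
    (hbp : orderOf b ≠ p) {t : ↥(E Q)} (ht : t ^ orderOf b = 1) (ht1 : t ≠ 1)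
    (hbt : b = MulAut.conj (QuotientGroup.mk t : P Q)) : v p (Fx b) + 2 * f ≤ v p (P Q) := by
  have := Fact.mk hb
  have := Fact.mk H.prime
  have hn := H.hn
  have htF : ((orderOf b : ℕ) : F) ≠ 0 := by
    intro h
    have hc : CharP F p := (CharP.charP_iff_prime_eq_zero H.prime).2 H.hpF
    rw [CharP.cast_eq_zero_iff F p] at h
    exact hbp ((Nat.prime_dvd_prime_iff_eq H.prime hb).1 h).symm
  have h1 := v_Fx_inner H.good H.hF H.hpF H.dvd_sing (by rw [H.hV]; omega) hb2 htF ht ht1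
  rwa [← hbt] at h1

/-- **The hypotheses of the criterion.** -/
theorem PlusC.twoE [IsSimpleGroup (P Q)] (H : PlusC Q n p f) (hO : Odg n d) (hne : ¬ (p = 3 ∧ f = 1 ∧ n = 4))
    {l₀ l₁ : ℕ} (h₀ : First Q n p f l₀) (h₁ : Second Q n p f d l₁)
    (hb9 : ∀ b : MulAut (P Q), (¬ ∃ M : Gam Q, b = Psi Q M) → v p (Fx b) + 3 * f ≤ v p (P Q))
    (exc : ∀ (π : Set ℕ) (L K L' K' : Subgroup (MulAut (P Q))), Cfg π L K L' K' →
      l₀ ∣ Nat.card (tr K) → l₁ ∣ Nat.card (tr K) → False) :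
    TwoE (P Q) p l₀ l₁ 0 0 0 ((2 * (n - 1)).factorization p)
      (f * (n * (n - 1)) + f - f * d + (2 * d).factorization p) := by
  have hn := H.hn
  have hf := H.hf
  have hor := hO.or
  have hvp := H.v_p
  have hfin : Finite ↥(E Q) := finite_E
  have hout := H.houtp
  have hF0 := Fact.mk h₀.prime
  have hF1 := Fact.mk h₁.prime
  have hne0 : ∀ {l : ℕ}, l.Prime → (l : F) ≠ 0 → l ≠ p := by
    rintro l - h rfl
    exact h H.hpF
  have hfd : f * d ≤ f * (n * (n - 1)) := by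
    apply Nat.mul_le_mul_left
    have : n * 1 ≤ n * (n - 1) := Nat.mul_le_mul_left _ (by omega)
    omega
  have h12 : f * 12 ≤ f * (n * (n - 1)) := by
    apply Nat.mul_le_mul_left
    exact (by norm_num : 12 = 4 * 3) ▸ Nat.mul_le_mul hn (by omega)
  have hsyl : ∀ b : MulAut (P Q), (orderOf b).Prime → orderOf b ≠ 2 → orderOf b ≠ p →
      ((∃ M : Gam Q, b = Psi Q M) → ∃ t : ↥(E Q), t ^ orderOf b = 1 ∧ t ≠ 1 ∧ b = MulAut.conj (QuotientGroup.mk t : P Q)) →
      v p (Fx b) + 2 * f ≤ v p (P Q) := by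
    intro b hb hb2 hbp h
    by_cases hM : ∃ M : Gam Q, b = Psi Q M
    · obtain ⟨t, ht, ht1, hbt⟩ := h hM
      exact H.v_Fx hb hb2 hbp ht ht1 hbt
    · have := hb9 b hM
      omega
  have hkey : p ≠ 2 → (2 * (n - 1)).factorization p + (2 * d).factorization p + (out (P Q)).factorization p + f < f * d :=
    fun hp2 => key_arith H.prime hp2 hn hf hO hne (H.hout p H.prime hp2)
  refine
    { prime := H.prime
      good₀ := ⟨h₀.prime, h₀.ne, H.good_of h₀.prime h₀.ne (hne0 h₀.prime h₀.cast) h₀.card⟩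
      good₁ := ⟨h₁.prime, h₁.ne, H.good_of h₁.prime h₁.ne (hne0 h₁.prime h₁.cast) h₁.card⟩
      cent₀ := fun x hx => (H.cent_first h₀.prime h₀.ne h₀.cast h₀.ord hx).le
      cent₁ := fun x hx => (H.cent_second hO h₁.prime h₁.ne h₁.cast h₁.ord h₁.dvd hx).le
      noOdd := H.noOdd hO h₀.prime h₀.ne h₀.cast h₀.ord h₀.dvd h₀.le h₁.prime h₁.ne h₁.cast h₁.ord h₁.dvd h₁.le
      exc := exc
      syl₀ := fun b hb hb2 hbp x hx hbx => ?_
      syl₁ := fun b hb hb2 hbp x hx hbx => ?_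
      cc := ?_
      num := fun t ht ht2 htp htS _ _ =>
        H.num hO h₀.prime h₀.ne h₀.cast h₀.ord h₀.dvd h₁.prime h₁.ne h₁.cast h₁.ord h₁.dvd ht ht2 htp htS
      odd₀ := fun hp2 X hX hlX => H.odd_first hp2 h₀.prime h₀.ne h₀.cast h₀.ord h₀.dvd hX hlX
      odd₁ := fun hp2 X hX hlX => ?_
      n₀ := fun hp2 => ?_
      n₁ := fun hp2 => ?_
      n₀₁ := fun hp2 => ?_ }
  · have h1 := hsyl b hb hb2 hbp fun hM => by
      obtain ⟨t, y, ht, ht1, hbt, -⟩ := H.lift_first h₀.ne h₀.cast h₀.ord h₀.sup hb hb2 hM hx hbx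
      exact ⟨t, ht, ht1, hbt⟩
    simp only [max_self, add_zero]
    omega
  · have h1 := hsyl b hb hb2 hbp fun hM => by
      obtain ⟨t, y, ht, ht1, hbt, -⟩ := H.lift_second hO h₁.ne h₁.cast h₁.ord h₁.dvd h₁.sup hb hb2 hM hx hbx
      exact ⟨t, ht, ht1, hbt⟩
    simp only [max_self, add_zero]
    omega
  · rw [hvp]
    omega
  · have h1 := H.odd_second hO hp2 h₁.prime h₁.ne h₁.cast h₁.ord h₁.dvd hX hlX
    rw [hvp] at h1
    omega
  · have := hkey hp2
    rw [hvp]
    omega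
  · have := hkey hp2
    rw [hvp]
    omega
  · have := hkey hp2
    rw [hvp]
    omega

/-- `Inc` from inner automorphisms -/
theorem PlusC.inc [IsSimpleGroup (P Q)] (H : PlusC Q n p f) (hO : Odg n d)
    {l₀ l₁ : ℕ} (h₀ : First Q n p f l₀) (h₁ : Second Q n p f d l₁) {b : MulAut (P Q)} (hM : ∃ M : Gam Q, b = Psi Q M)
    (hb : (orderOf b).Prime) (hb2 : orderOf b ≠ 2) {x y : P Q} (hx : orderOf x = l₀) (hbx : b x = x)
    (hy : orderOf y = l₁) (hby : b y = y) : False := by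
  have hF0 := Fact.mk h₀.prime
  have hF1 := Fact.mk h₁.prime
  obtain ⟨t, a, ht, ht1, hbt, ha, ha1, -, hta⟩ := H.lift_first h₀.ne h₀.cast h₀.ord h₀.sup hb hb2 hM hx hbx
  obtain ⟨c, hc, hc1, rfl⟩ := H.exists_lift h₁.prime h₁.ne hy
  rw [hbt, MulAut.conj_apply, mul_inv_eq_iff_eq_mul] at hby
  have htc := (comm_of_mk H.good (h₁.prime.odd_of_ne_two h₁.ne) hc hby.symm).symm
  exact H.inc_inner hO h₀.ne h₀.cast h₀.ord h₀.dvd h₁.ne h₁.cast h₁.ord h₁.dvd ha ha1 hc hc1 hb hb2 ht ht1 hta htc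

/-- **The row, `n ≥ 5`** (all automorphisms are induced by semisimilitudes). -/
theorem PlusC.row [IsSimpleGroup (P Q)] (H : PlusC Q n p f) (hZ : Subgroup.center (P Q) = ⊥) (hn : n ≠ 4)
    (haut : ∀ a : MulAut (P Q), ∃ M : Gam Q, a = Psi Q M) : _root_.Cfsg.Agent.H160.PD.Row (P Q) := by
  have hfin : Finite ↥(E Q) := finite_E
  obtain ⟨d, hO⟩ : ∃ d, Odg n d := by
    have := H.hn
    rcases Nat.even_or_odd n with h | h
    · exact ⟨n - 1, ⟨Nat.Even.sub_odd (by omega) h odd_one, Or.inr rfl⟩⟩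
    · exact ⟨n, ⟨h, Or.inl rfl⟩⟩
  obtain ⟨l₀, h₀⟩ := H.exists_first (fun h => hn h.2.2)
  obtain ⟨l₁, h₁⟩ := H.exists_second hO
  refine (H.twoE hO (fun h => hn h.2.2) h₀ h₁ (fun b hb => absurd (haut b) hb) ?_).row hZ
  intro π L K L' K' hC h1 h2
  obtain ⟨b, hb, t, ht, -, ht2, hbo⟩ := hC.exists_prime
  obtain ⟨x, hx, hxo⟩ := Cfsg.Agent.H160.PD.Cfg.exists_mem h₀.prime h1
  obtain ⟨y, hy, hyo⟩ := Cfsg.Agent.H160.PD.Cfg.exists_mem h₁.prime h2
  exact H.inc hO h₀ h₁ (haut b) (hbo ▸ ht) (by rw [hbo]; exact ht2) hxo (hC.fix hZ hb hx) hyo (hC.fix hZ hb hy)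

end Cfsg.Agent.H14.PD
end

-- part: H14/PD/Four
section
/-!
# S4246, row of `POmega^+_8(q)`: configurations with a triality automorphism (helper14)
-/

set_option autoImplicit false
set_option linter.unusedSectionVars false

namespace Cfsg.Agent.H14.PD

open QuadraticMap Module Cfsg.Agent.LieClassical.OrthCore Cfsg.Agent.LieClassical.OrthTrans
open Cfsg.Agent.ClassicalGeometry.OrthSemi Cfsg.Agent.ClassicalGeometry.OrthAut1
open Cfsg.Agent.H200.LinFix Cfsg.Agent.H200.RowOrth Cfsg.Agent.H568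
open Cfsg.Agent.H160.PD (v v_mono v_eq_zero v_pos Fx mem_Fx NoOdd noOdd_of Uniq odd_bound_of_uniq out Cfg tr Row v_le
  v_tr_le card_tr_dvd exists_hall card_map_subtype)

variable {F V : Type*} [Field F] [AddCommGroup V] [Module F V] {Q : QuadraticForm F V} [Finite V] [Finite F]

variable {p f : ℕ}

section cfg

variable {Γ : Subgroup (MulAut (P Q))} {π : Set ℕ} {L K L' K' : Subgroup (MulAut (P Q))}

/-- a subgroup meeting trivially a subgroup of index three -/
theorem card_L (hind : Γ.index = 3) (hL : L ⊓ Γ = ⊥) (hC : Cfg π L K L' K') : Nat.card L = 3 := by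
  classical
  have hfinE : Finite ↥(E Q) := finite_E
  have hfin : Finite (MulAut (P Q) ⧸ Γ) := Nat.finite_of_card_ne_zero (by rw [← Subgroup.index_eq_card, hind]; decide)
  have h1 : Nat.card L ≤ Nat.card (MulAut (P Q) ⧸ Γ) := by
    refine Nat.card_le_card_of_injective (fun a : L => ((a : MulAut (P Q)) : MulAut (P Q) ⧸ Γ)) ?_
    rintro ⟨a, ha⟩ ⟨b, hb⟩ hab
    have h2 : a⁻¹ * b ∈ L ⊓ Γ := ⟨L.mul_mem (L.inv_mem ha) hb, QuotientGroup.eq.1 hab⟩
    rw [hL, Subgroup.mem_bot, inv_mul_eq_one] at h2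
    exact Subtype.ext h2
  rw [← Subgroup.index_eq_card, hind] at h1
  have h2 : Nat.card L ≠ 1 := fun h0 => hC.ne (Subgroup.eq_bot_of_card_eq _ h0)
  have h3 : Nat.card L ≠ 2 := fun h0 => hC.two (hC.piL 2 Nat.prime_two (by rw [h0]))
  have h4 : 0 < Nat.card L := Nat.card_pos
  omega

end cfg

/-- a prime of order four -/
structure Four (Q : QuadraticForm F V) (f l : ℕ) : Prop where
  prime : l.Prime
  ne : l ≠ 2
  cast : (l : F) ≠ 0
  ord : Ordd l (Nat.card F) 4
  dvd : l ∣ Nat.card F ^ 4 - 1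
  le : 4 * f + 1 ≤ l

theorem Plus.exists_four' (H : Plus Q 4 p f) : ∃ l, Four Q f l := by
  have hF := H.hF
  obtain ⟨l, hl, hl2, -, hdiv, hle, hd, hlr⟩ := exists_super (e := 4) H.prime H.hf (by omega) (by rintro ⟨-, h⟩; omega)
  rw [← hF] at hdiv hd
  exact ⟨l, hl, hl2, H.cast_ne hl (by omega) hdiv, hd, hdiv, by omega⟩

variable {l : ℕ}

theorem Four.not_dvd (h : Four Q f l) {m : ℕ} (hm : ¬ 4 ∣ m) : ¬ l ∣ Nat.card F ^ m - 1 := fun h1 => hm (h.ord m h1)

theorem Four.fac_eq (h : Four Q f l) : (Nat.card F ^ 4 - 1).factorization l = (Nat.card F ^ 2 + 1).factorization l := by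
  have hq : 1 < Nat.card F := Finite.one_lt_card
  have h1 : Nat.card F ^ 4 - 1 = (Nat.card F ^ 2 + 1) * (Nat.card F ^ 2 - 1) := by
    rw [show 4 = 2 * 2 by norm_num, pow_mul]
    exact Nat.sq_sub_sq (Nat.card F ^ 2) 1
  have h2 := Nat.one_lt_pow (n := 2) (by omega) hq
  rw [h1, Nat.factorization_mul (by omega) (by omega), Finsupp.add_apply,
    Nat.factorization_eq_zero_of_not_dvd (h.not_dvd (m := 2) (by omega)), add_zero]

theorem PlusC.v_four (H : PlusC Q 4 p f) (h : Four Q f l) :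
    v l (P Q) = 2 * (Nat.card F ^ 4 - 1).factorization l := by
  have hlp : l ≠ p := by
    rintro rfl
    exact h.cast H.hpF
  rw [H.v_eq h.prime (Or.inl h.ne)]
  have h1 : (Nat.card F ^ (4 * (4 - 1))).factorization l = 0 := by
    apply Nat.factorization_eq_zero_of_not_dvd
    intro h1
    rw [H.hF] at h1
    exact hlp ((Nat.prime_dvd_prime_iff_eq h.prime H.prime).1 (h.prime.dvd_of_dvd_pow (h.prime.dvd_of_dvd_pow h1)))
  have h2 := Nat.factorization_eq_zero_of_not_dvd (h.not_dvd (m := 2) (by omega))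
  have h3 := Nat.factorization_eq_zero_of_not_dvd (h.not_dvd (m := 6) (by omega))
  rw [h1]
  simp only [Finset.sum_range_succ, Finset.sum_range_zero, Nat.reduceSub, Nat.reduceAdd, Nat.reduceMul]
  omega

theorem PlusC.out_four (H : PlusC Q 4 p f) (h : Four Q f l) : (out (P Q)).factorization l = 0 := by
  have hf := H.hf
  have h1 := H.hout l h.prime h.ne
  have h2 := h.le
  rw [if_neg (by rintro ⟨h3, -⟩; omega), add_zero, Nat.factorization_eq_zero_of_not_dvd (n := f) (fun h3 => by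
    have := Nat.le_of_dvd hf h3
    omega)] at h1
  omega

/-- an element of order `l` fixing a singular vector -/
theorem PlusC.exists_fix_elt (H : PlusC Q 4 p f) (h : Four Q f l) :
    ∃ (y : ↥(E Q)) (w : V), y ^ l = 1 ∧ y ≠ 1 ∧ Q w = 0 ∧ w ≠ 0 ∧ (y : V ≃ₗ[F] V) w = w := by
  have := Fact.mk h.prime
  have hG := H.good
  have hfinE : Finite ↥(E Q) := finite_E
  obtain ⟨w, hw0, hw⟩ := hG.sing
  let S : Subgroup ↥(E Q) :=
    { carrier := {g | (g : V ≃ₗ[F] V) w = w}
      mul_mem' := fun {a b} ha hb => by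
        change (a : V ≃ₗ[F] V) ((b : V ≃ₗ[F] V) w) = w
        rw [show (b : V ≃ₗ[F] V) w = w from hb]
        exact ha
      one_mem' := rfl
      inv_mem' := fun {a} ha => by
        change (a : V ≃ₗ[F] V).symm w = w
        rw [LinearEquiv.symm_apply_eq]
        exact (show (a : V ≃ₗ[F] V) w = w from ha).symm }
  have hq : 1 < Nat.card F := Finite.one_lt_card
  have h4 := Nat.one_lt_pow (n := 4) (by omega) hq
  have h1 : l ∣ Nat.card S := by
    have h2 := card_stabilizer hG hw hw0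
    rw [H.hsing, Nat.add_sub_cancel] at h2
    change (Nat.card F ^ 4 - 1) * (Nat.card F ^ (4 - 1) + 1) * Nat.card S = _ at h2
    have h3 : v l ↥(E Q) = 2 * (Nat.card F ^ 4 - 1).factorization l := by
      rw [← v_P hG (Or.inl h.ne), H.v_four h]
    rw [v, ← h2, Nat.factorization_mul (mul_ne_zero (by omega) (by positivity)) Nat.card_pos.ne',
      Nat.factorization_mul (by omega) (by positivity), Finsupp.add_apply, Finsupp.add_apply,
      Nat.factorization_eq_zero_of_not_dvd (n := Nat.card F ^ (4 - 1) + 1) (fun h5 => by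
        apply h.not_dvd (m := 6) (by omega)
        have h6 : Nat.card F ^ 6 - 1 = (Nat.card F ^ 3 + 1) * (Nat.card F ^ 3 - 1) := by
          rw [show 6 = 3 * 2 by norm_num, pow_mul]
          exact Nat.sq_sub_sq (Nat.card F ^ 3) 1
        rw [h6]
        exact Dvd.dvd.mul_right h5 _)] at h3
    have h5 : 0 < (Nat.card F ^ 4 - 1).factorization l :=
      h.prime.factorization_pos_of_dvd (by omega) h.dvd
    by_contra h6
    rw [Nat.factorization_eq_zero_of_not_dvd h6] at h3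
    omega
  obtain ⟨⟨y, hyS⟩, hy⟩ := exists_prime_orderOf_dvd_card' l h1
  refine ⟨y, w, ?_, ?_, hw, hw0, hyS⟩
  · have h2 := congrArg Subtype.val (pow_orderOf_eq_one (⟨y, hyS⟩ : S))
    rw [hy] at h2
    exact h2
  · rintro rfl
    have h2 : (⟨1, hyS⟩ : S) = 1 := rfl
    rw [h2, orderOf_one] at hy
    exact h.prime.one_lt.ne hy

/-- a triality automorphism does not fix such an element -/
theorem Plus.not_fixed (H : Plus Q 4 p f) (h : Four Q f l) {b : MulAut (P Q)} (hb : ¬ PtA H.good b) {y : ↥(E Q)}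
    (hy : y ^ l = 1) (hy1 : y ≠ 1) {w : V} (hw : Q w = 0) (hw0 : w ≠ 0) (hyw : (y : V ≃ₗ[F] V) w = w)
    (hby : b (QuotientGroup.mk y) = QuotientGroup.mk y) : False := by
  have := Fact.mk h.prime
  have hG := H.good
  have h8 : finrank F V = 8 := H.hV
  have hfd : FiniteDimensional F V := inferInstance
  have hy' : en Q y ^ l = 1 := by rw [← map_pow, hy, map_one]
  have hlF := h.cast
  have hd := h.ord
  obtain ⟨W, hW, hW4, hyW⟩ := exists_four hG h8 hb hby hw hw0 hyw
  refine false_of_four hG h8 hy1 hlF hy hW hW4 hyW ?_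
  have h1 := finrank_add (en Q y)
  have h2 : finrank F (K (en Q y)) ≠ 0 := by
    intro h0
    have h3 : w ∈ K (en Q y) := mem_K.2 hyw
    rw [Submodule.finrank_eq_zero.1 h0] at h3
    exact hw0 h3
  obtain ⟨c, hc⟩ := dvd_finrank_R hd hlF hy'
  have hRW : ∀ w ∈ R (en Q y) ⊓ W, en Q y w ∈ R (en Q y) ⊓ W := fun w hw => ⟨R_inv rfl hw.1, hyW w hw.2⟩
  obtain ⟨c', hc'⟩ := dvd_finrank_le hd hlF hy' (W := R (en Q y) ⊓ W) inf_le_left hRW
  have h4 := finrank_ti_le (fun v hv h => nondeg_R (isom_en y) (polar_nondeg hG) hy' hlF hv h)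
    (inf_le_left (b := W)) (fun u hu v hv => hW.polar hu.2 hv.2)
  rw [← Submodule.finrank_eq_zero (R := F)]
  omega

/-- **The fixed points of a triality automorphism do not contain a Sylow `l`-subgroup.** -/
theorem PlusC.v_Fx_four (H : PlusC Q 4 p f) (h : Four Q f l) {b : MulAut (P Q)} (hb : ¬ PtA H.good b) :
    v l (Fx b) < v l (P Q) := by
  have := Fact.mk h.prime
  have hG := H.good
  have hfinE : Finite ↥(E Q) := finite_E
  by_contra hcon
  push Not at hcon
  obtain ⟨y, w, hy, hy1, hw, hw0, hyw⟩ := H.exists_fix_elt h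
  have hlo := h.prime.odd_of_ne_two h.ne
  have hyo := orderOf_mk hG hlo hy hy1
  -- Sylow subgroups
  obtain ⟨S₁, hS₁⟩ := (Cfsg.Agent.H160.PD.isPGroup_zpowers hyo).exists_le_sylow
  obtain ⟨R⟩ : Nonempty (Sylow l ↥(Fx b)) := inferInstance
  have hR : (IsPGroup l ↥((R : Subgroup ↥(Fx b)).map (Fx b).subtype) :) := R.isPGroup'.map _
  obtain ⟨S₂, hS₂⟩ := hR.exists_le_sylow
  have h1 : (R : Subgroup ↥(Fx b)).map (Fx b).subtype = (S₂ : Subgroup (P Q)) := by
    apply Subgroup.eq_of_le_of_card_ge hS₂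
    rw [card_map_subtype, R.card_eq_multiplicity, S₂.card_eq_multiplicity]
    exact Nat.pow_le_pow_right h.prime.pos hcon
  obtain ⟨g, hg⟩ := MulAction.exists_smul_eq (P Q) S₁ S₂
  obtain ⟨k, rfl⟩ := QuotientGroup.mk_surjective g
  have h2 : (QuotientGroup.mk (k * y * k⁻¹) : P Q) ∈ (S₂ : Subgroup (P Q)) := by
    rw [← hg]
    exact ⟨QuotientGroup.mk y, hS₁ (Subgroup.mem_zpowers _), rfl⟩
  rw [← h1] at h2
  obtain ⟨z, -, hz⟩ := h2
  have h3 : b (QuotientGroup.mk (k * y * k⁻¹)) = QuotientGroup.mk (k * y * k⁻¹) := by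
    rw [← hz]
    exact z.2
  refine H.not_fixed h hb (y := k * y * k⁻¹) (w := (k : V ≃ₗ[F] V) w) ?_ ?_ ?_ ?_ ?_ h3
  · rw [conj_pow, hy, mul_one, mul_inv_cancel]
  · intro h4
    apply hy1
    have h5 : y = k⁻¹ * (k * y * k⁻¹) * k := by group
    rw [h5, h4]
    group
  · rw [E_le_O k.2, hw]
  · exact fun h4 => hw0 ((k : V ≃ₗ[F] V).map_eq_zero_iff.1 h4)
  · change (k : V ≃ₗ[F] V) ((y : V ≃ₗ[F] V) ((k⁻¹ : ↥(E Q)) |>.1 ((k : V ≃ₗ[F] V) w))) = (k : V ≃ₗ[F] V) w
    have h4 : ((k⁻¹ : ↥(E Q)) : V ≃ₗ[F] V) ((k : V ≃ₗ[F] V) w) = w := by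
      change (k : V ≃ₗ[F] V).symm ((k : V ≃ₗ[F] V) w) = w
      exact LinearEquiv.symm_apply_apply _ _
    rw [h4, hyw]

/-- the `p`-part of the centraliser of an element of order `l` -/
theorem PlusC.v_cent_four (H : PlusC Q 4 p f) (h : Four Q f l) {x : P Q} (hx : orderOf x = l) :
    v p (Subgroup.centralizer ({x} : Set (P Q))) ≤ 7 * f := by
  have := Fact.mk h.prime
  have := Fact.mk H.prime
  have hG := H.good
  have h2 := two_or_of_char (F := F) H.hpF
  obtain ⟨y, hy, hy1, rfl⟩ := H.exists_lift h.prime h.ne hx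
  obtain ⟨X, hX, hXv, hXm⟩ := exists_lift_pgroup hG h2 (Subgroup.centralizer ({(QuotientGroup.mk y : P Q)} : Set (P Q)))
  have h1 := pbound_big hG H.hF H.hpF h.cast h.ord (by omega) hy hy1 hX fun g hg =>
    (comm_of_mk hG (h.prime.odd_of_ne_two h.ne) hy (Subgroup.mem_centralizer_singleton_iff.1 (hXm g hg)).symm).symm
  rw [hXv, H.hV, ← v_P hG h2, H.v_p] at h1
  omega

/-- the hypotheses of the triality lemma, proved elsewhere -/
structure TriHyp (Q : QuadraticForm F V) (hG : Good Q) (p f : ℕ) : Prop where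
  h9 : ∀ b : MulAut (P Q), ¬ PtA hG b → v p (Fx b) + 3 * f ≤ v p (P Q)
  norm : ∀ l, Four Q f l → ∀ T X : Subgroup ↥(E Q), IsPGroup l T → v l T = v l ↥(E Q) → IsPGroup p X →
    (∀ g ∈ T, ∀ x ∈ X, g * x * g⁻¹ ∈ X) → X = ⊥
  three : p ≠ 3 → ∀ l, Four Q f l → ∀ y : ↥(E Q), y ^ l = 1 → y ≠ 1 →
    v 3 (Subgroup.centralizer ({y} : Set ↥(E Q))) ≤ 2 * (Nat.card F ^ 4 - 1).factorization 3

/-- no `p`-subgroup of `P Q` is normalised by a Sylow `l`-subgroup -/
theorem TriHyp.norm' (H : PlusC Q 4 p f) (hT : TriHyp Q H.good p f) (h : Four Q f l) {T X : Subgroup (P Q)}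
    (hTl : v l T = v l (P Q)) (hX : IsPGroup p X) (hTX : T ≤ Subgroup.normalizer (X : Set (P Q))) : X = ⊥ := by
  have hfinE : Finite ↥(E Q) := finite_E
  have := Fact.mk h.prime
  have := Fact.mk H.prime
  have hG := H.good
  have h2 := two_or_of_char (F := F) H.hpF
  obtain ⟨T₁, hT₁, hT₁v, hT₁m⟩ := exists_lift_pgroup hG (p := l) (Or.inl h.ne) T
  obtain ⟨X₁, hX₁, hmap, hnorm⟩ := Cfsg.Agent.SigZeroU5.exists_lift (Subgroup.center ↥(E Q)) le_rfl
    (not_dvd_center' hG h2) hX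
  have h1 := hT.norm l h T₁ X₁ hT₁ (by rw [hT₁v, hTl, v_P hG (Or.inl h.ne)]) hX₁ fun g hg x hx =>
    (hnorm g (hTX (hT₁m g hg)) x).1 hx
  rw [← hmap, h1, Subgroup.map_bot]

/-- the `3`-parts -/
theorem PlusC.three_lt (H : PlusC Q 4 p f) (hT : TriHyp Q H.good p f) (h : Four Q f l) {x : P Q} (hx : orderOf x = l) :
    v 3 (Subgroup.centralizer ({x} : Set (P Q))) + 1 < v 3 (P Q) := by
  have hf := H.hf
  have hq : 1 < Nat.card F := Finite.one_lt_card
  by_cases hp3 : p = 3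
  · subst hp3
    have h1 := H.v_cent_four h hx
    have h2 := H.v_p
    omega
  · obtain ⟨y, hy, hy1, rfl⟩ := H.exists_lift h.prime h.ne hx
    have h1 := hT.three hp3 l h y hy hy1
    have h2 := Cfsg.Agent.H311.PD.v_centralizer_mk H.good (h.prime.odd_of_ne_two h.ne) hy 3
    have h3q : ¬ 3 ∣ Nat.card F := by
      rw [H.hF]
      intro h4
      exact hp3 ((Nat.prime_dvd_prime_iff_eq Nat.prime_three H.prime).1 (Nat.prime_three.dvd_of_dvd_pow h4)).symm
    have h3 := H.lte Nat.prime_three (by norm_num) (three_dvd h3q (e := 2) (by decide))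
    have h4 := H.lte Nat.prime_three (by norm_num) (three_dvd h3q (e := 6) (by decide))
    have h5 := H.v_eq Nat.prime_three (Or.inl (by norm_num))
    simp only [Finset.sum_range_succ, Finset.sum_range_zero, Nat.reduceSub, Nat.reduceAdd, Nat.reduceMul] at h5
    omega

variable {Γ : Subgroup (MulAut (P Q))} {π : Set ℕ} {L K L' K' : Subgroup (MulAut (P Q))}

seal _root_.MulAction.orbitRel _root_.Quotient _root_.Quotient.map₂ _root_.LinearEquiv.trans in
/-- a subgroup of odd order containing a Sylow `l`-subgroup -/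
theorem PlusC.odd_four (H : PlusC Q 4 p f) (hT : TriHyp Q H.good p f) (h : Four Q f l) (hp2 : p ≠ 2) {X : Subgroup (P Q)}
    (hX : Odd (Nat.card X)) (hXl : v l (P Q) ≤ v l X) : v p X < 11 * f := by
  have hFl := Fact.mk h.prime
  have hFp := Fact.mk H.prime
  have hG := H.good
  have hfinE : Finite ↥(E Q) := finite_E
  have hlp : p ≠ l := by
    rintro rfl
    exact h.cast H.hpF
  have hq : 1 < Nat.card F := Finite.one_lt_card
  have hvl : 0 < v l (P Q) := by
    rw [H.v_four h]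
    have h4 := Nat.one_lt_pow (n := 4) (by omega) hq
    have h5 : 0 < (Nat.card F ^ 4 - 1).factorization l := h.prime.factorization_pos_of_dvd (by omega) h.dvd
    omega
  obtain ⟨M, hMX, hM⟩ := exists_hall hX H.prime h.prime hlp
  have hMo : Odd (Nat.card M) := hX.of_dvd_nat (Subgroup.card_dvd_of_le hMX)
  have hsol : Group.IsSolvable ↥M := Cfsg.Agent.S0205.result hMo
  have hlX : v l X = v l (P Q) := le_antisymm (v_le_group X l) hXl
  have hvM : v l M = v l (P Q) := by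
    rw [v, hM, Nat.factorization_mul (pow_ne_zero _ H.prime.ne_zero) (pow_ne_zero _ h.prime.ne_zero), Finsupp.add_apply,
      H.prime.factorization_pow, h.prime.factorization_pow, Finsupp.single_eq_of_ne hlp.symm, Finsupp.single_eq_same, zero_add,
      hlX]
  have hvM' : v p M = v p X := by
    rw [v, hM, Nat.factorization_mul (pow_ne_zero _ H.prime.ne_zero) (pow_ne_zero _ h.prime.ne_zero), Finsupp.add_apply,
      H.prime.factorization_pow, h.prime.factorization_pow, Finsupp.single_eq_of_ne hlp, Finsupp.single_eq_same, add_zero]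
  have hM1 : (⊤ : Subgroup ↥M) ≠ ⊥ := by
    intro h0
    have h3 : Nat.card M = 1 := by
      rw [← Subgroup.card_top, h0, Subgroup.card_bot]
    rw [v, h3, Nat.factorization_one] at hvM
    simp at hvM
    omega
  have hts : Group.IsSolvable ↥(⊤ : Subgroup ↥M) :=
    Group.isSolvable_of_isSolvable_injective (Subgroup.subtype_injective _)
  obtain ⟨r, Y, hr, hYn, hY1, -, hYp⟩ := H470.SolvPi.exists_normal_pgroup (G := ↥M) inferInstance hM1 hts
  have hrF := Fact.mk hr
  have hY' : IsPGroup r ↥(Y.map M.subtype) := hYp.map _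
  have hY1' : Y.map M.subtype ≠ ⊥ := fun h0 => hY1 ((Subgroup.map_eq_bot_iff_of_injective Y M.subtype_injective).1 h0)
  have hnorm := Cfsg.Agent.H160.PD.le_normalizer_map M Y
  have hrd : r ∣ Nat.card M := by
    obtain ⟨k, hk⟩ := IsPGroup.iff_card.1 hYp
    have h3 : k ≠ 0 := by
      rintro rfl
      rw [pow_zero, Subgroup.card_eq_one] at hk
      exact hY1 hk
    exact ((hk ▸ dvd_pow_self r h3 : r ∣ Nat.card Y)).trans (Subgroup.card_subgroup_dvd_card Y)
  rw [hM, hr.dvd_mul] at hrd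
  rcases hrd with hrd | hrd
  · -- `Y` is a `p`-group
    have h3 : r = p := (Nat.prime_dvd_prime_iff_eq hr H.prime).1 (hr.dvd_of_dvd_pow hrd)
    subst h3
    exact absurd (hT.norm' H h hvM hY' hnorm) hY1'
  · have h3 : r = l := (Nat.prime_dvd_prime_iff_eq hr h.prime).1 (hr.dvd_of_dvd_pow hrd)
    subst h3
    -- an element of order `l` in `Y`
    have : Nontrivial Y := (Subgroup.nontrivial_iff_ne_bot Y).2 hY1
    obtain ⟨k, hk⟩ := IsPGroup.iff_card.1 hYp
    have hrd' : r ∣ Nat.card Y := by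
      have h1 : 1 < Nat.card Y := Finite.one_lt_card_iff_nontrivial.2 this
      rw [hk] at h1 ⊢
      apply dvd_pow_self
      rintro rfl
      simp at h1
    obtain ⟨⟨y, hyY⟩, hyo⟩ := exists_prime_orderOf_dvd_card' r hrd'
    rw [Subgroup.orderOf_mk] at hyo
    -- the conjugation of a Sylow `p`-subgroup on `Y`
    obtain ⟨S⟩ : Nonempty (Sylow p ↥M) := inferInstance
    let act : (MulAction ↥(S : Subgroup ↥M) Y :) :=
      { smul := fun g z => ⟨g.1 * z.1 * (g.1)⁻¹, hYn.conj_mem z.1 z.2 g.1⟩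
        one_smul := fun z => Subtype.ext (by
          change (1 : ↥M) * z.1 * (1 : ↥M)⁻¹ = z.1
          group)
        mul_smul := fun g h z => Subtype.ext (by
          change (g.1 * h.1) * z.1 * (g.1 * h.1)⁻¹ = g.1 * (h.1 * z.1 * (h.1)⁻¹) * (g.1)⁻¹
          group) }
    have h4 := ((MulAction.stabilizer ↥(S : Subgroup ↥M) (⟨y, hyY⟩ : Y)).index_mul_card :)
    rw [MulAction.index_stabilizer] at h4
    have h5 : (MulAction.orbit ↥(S : Subgroup ↥M) (⟨y, hyY⟩ : Y)).ncard ≤ Nat.card Y := by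
      rw [← Set.ncard_univ]
      exact Set.ncard_le_ncard (Set.subset_univ _) (Set.toFinite _)
    have h6 : Nat.card (MulAction.stabilizer ↥(S : Subgroup ↥M) (⟨y, hyY⟩ : Y)) ≤ p ^ (7 * f) := by
      -- embed in the centraliser
      let φ : ↥(MulAction.stabilizer ↥(S : Subgroup ↥M) (⟨y, hyY⟩ : Y)) →* P Q :=
        M.subtype.comp ((S : Subgroup ↥M).subtype.comp (Subgroup.subtype _))
      have hφ : Function.Injective φ :=
        M.subtype_injective.comp ((Subgroup.subtype_injective _).comp (Subgroup.subtype_injective _))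
      have h7 : IsPGroup p ↥φ.range := by
        have h8 : IsPGroup p ↥(MulAction.stabilizer ↥(S : Subgroup ↥M) (⟨y, hyY⟩ : Y)) := S.isPGroup'.to_subgroup _
        exact h8.of_surjective φ.rangeRestrict φ.rangeRestrict_surjective
      have h8 : φ.range ≤ Subgroup.centralizer ({(y : P Q)} : Set (P Q)) := by
        rintro _ ⟨g, rfl⟩
        rw [Subgroup.mem_centralizer_singleton_iff]
        have h9 := congrArg Subtype.val (MulAction.mem_stabilizer_iff.1 g.2)
        have h10 : g.1.1 * y * (g.1.1)⁻¹ = y := h9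
        rw [mul_inv_eq_iff_eq_mul] at h10
        exact congrArg Subtype.val h10
      have h9 : Nat.card ↥(MulAction.stabilizer ↥(S : Subgroup ↥M) (⟨y, hyY⟩ : Y)) = Nat.card φ.range :=
        Nat.card_congr (MonoidHom.ofInjective hφ).toEquiv
      rw [h9, card_pgroup h7]
      apply Nat.pow_le_pow_right H.prime.pos
      have h10 : orderOf (y : P Q) = r := by rw [← hyo]; exact Subgroup.orderOf_coe y
      exact (v_mono h8 p).trans (H.v_cent_four h h10)
    -- the order of `Y`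
    have h7 : Nat.card Y < p ^ (4 * f) := by
      have h8 : Nat.card Y ∣ Nat.card (P Q) := (Subgroup.card_subgroup_dvd_card Y).trans (Subgroup.card_subgroup_dvd_card M)
      have h9 : k ≤ v r (P Q) := by
        rw [hk] at h8
        exact (hr.pow_dvd_iff_le_factorization Nat.card_pos.ne').1 h8
      rw [H.v_four h, h.fac_eq] at h9
      have h10 : 2 * r ^ (Nat.card F ^ 2 + 1).factorization r ≤ Nat.card F ^ 2 + 1 := by
        apply Nat.le_of_dvd (Nat.succ_pos _)
        apply Nat.Coprime.mul_dvd_of_dvd_of_dvd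
        · exact Nat.Coprime.pow_right _ ((Nat.coprime_primes Nat.prime_two hr).2 h.ne.symm)
        · have h11 : Odd (Nat.card F ^ 2) := by
            rw [H.hF]
            exact (H.prime.odd_of_ne_two hp2).pow.pow
          rw [← even_iff_two_dvd]
          exact h11.add_one
        · exact Nat.ordProj_dvd _ _
      have h11 : Nat.card Y ≤ (r ^ (Nat.card F ^ 2 + 1).factorization r) ^ 2 := by
        rw [hk, ← pow_mul]
        exact Nat.pow_le_pow_right hr.pos (by omega)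
      have h12 : p ^ (4 * f) = Nat.card F ^ 4 := by rw [H.hF, ← pow_mul, mul_comm]
      rw [h12]
      refine lt_of_le_of_lt h11 ?_
      have h13 : (2 * r ^ (Nat.card F ^ 2 + 1).factorization r) ^ 2 ≤ (Nat.card F ^ 2 + 1) ^ 2 := Nat.pow_le_pow_left h10 2
      have h14 : 4 * (r ^ (Nat.card F ^ 2 + 1).factorization r) ^ 2 ≤ (Nat.card F ^ 2 + 1) ^ 2 := by
        calc 4 * (r ^ (Nat.card F ^ 2 + 1).factorization r) ^ 2 = (2 * r ^ (Nat.card F ^ 2 + 1).factorization r) ^ 2 := by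
              ring
          _ ≤ _ := h13
      have h15 : (Nat.card F ^ 2 + 1) ^ 2 < 4 * Nat.card F ^ 4 := by
        have h16 : 1 < Nat.card F ^ 2 := Nat.one_lt_pow (by omega) hq
        have h17 : Nat.card F ^ 4 = Nat.card F ^ 2 * Nat.card F ^ 2 := by ring
        rw [h17]
        nlinarith only [h16]
      omega
    have h8 : Nat.card ↥(S : Subgroup ↥M) < p ^ (11 * f) := by
      rw [← h4]
      calc _ ≤ Nat.card Y * p ^ (7 * f) := Nat.mul_le_mul h5 h6
        _ < p ^ (4 * f) * p ^ (7 * f) := Nat.mul_lt_mul_of_pos_right h7 (pow_pos H.prime.pos _)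
        _ = p ^ (11 * f) := by rw [← pow_add]; congr 1; omega
    rw [S.card_eq_multiplicity] at h8
    have h9 := (Nat.pow_lt_pow_iff_right H.prime.one_lt).1 h8
    have h10 : v p M = v p X := hvM'
    simp only [v] at h10 ⊢
    omega

/-- **There is no configuration with `L ⊓ Γ = 1`.** -/
theorem PlusC.triality_false (H : PlusC Q 4 p f) (hZ : Subgroup.center (P Q) = ⊥) (hT : TriHyp Q H.good p f)
    (hΓ : ∀ α, α ∈ Γ ↔ PtA H.good α) (hind : Γ.index = 3) (hC : Cfg π L K L' K') (hL : L ⊓ Γ = ⊥) : False := by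
  have hfinE : Finite ↥(E Q) := finite_E
  have hf := H.hf
  have hFp := Fact.mk H.prime
  obtain ⟨l, h⟩ := H.exists_four'
  have hFl := Fact.mk h.prime
  have hL3 := card_L hind hL hC
  have hπ3 : 3 ∈ π := hC.piL 3 Nat.prime_three (by rw [hL3])
  have hvL : ∀ r : ℕ, r.Prime → r ≠ 3 → v r L = 0 := by
    intro r hr hr3
    rw [v, hL3]
    apply Nat.factorization_eq_zero_of_not_dvd
    intro h1
    exact hr3 ((Nat.prime_dvd_prime_iff_eq hr Nat.prime_three).1 h1)
  have hvL3 : v 3 L = 1 := by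
    rw [v, hL3]
    exact Nat.Prime.factorization_self Nat.prime_three
  have hle := h.le
  have hl3 : l ≠ 3 := by omega
  -- a triality automorphism
  obtain ⟨b, hb, t, ht, -, -, hbo⟩ := hC.exists_prime
  have hbΓ : b ∉ Γ := by
    intro hbΓ
    have h1 : b ∈ L ⊓ Γ := ⟨hb, hbΓ⟩
    rw [hL, Subgroup.mem_bot] at h1
    rw [h1, orderOf_one] at hbo
    exact ht.one_lt.ne hbo
  have hbA : ¬ PtA H.good b := fun h1 => hbΓ ((hΓ b).2 h1)
  have hKb := hC.trK_le hZ hb
  have hout := H.houtp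
  have hvp := H.v_p
  by_cases hlπ : l ∈ π
  · -- `tr L'` contains a Sylow `l`-subgroup
    have h1 := hC.numL l h.prime hlπ
    have h2 := hvL l h.prime hl3
    have h3 : v l (P Q) ≤ v l (tr L') := by
      simp only [v] at *
      omega
    have h3' : v l (tr L') = v l (P Q) := le_antisymm (v_le_group _ _) h3
    by_cases hpπ : p ∈ π
    · have hp2 : p ≠ 2 := fun h0 => hC.two (h0 ▸ hpπ)
      have h4 := H.odd_four hT h hp2 (hC.symm.odd hZ) h3
      have h5 := hC.numL p H.prime hpπ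
      have h6 : v p L ≤ 1 := by
        by_cases hp3 : p = 3
        · rw [hp3, hvL3]
        · rw [hvL p H.prime hp3]
          omega
      simp only [v] at *
      omega
    · -- `tr K'` is a `p'`-group
      have h4 : v p (tr K') = 0 := by
        apply v_eq_zero
        intro hd
        obtain ⟨x, hx, hxo⟩ := Cfsg.Agent.H160.PD.Cfg.exists_mem H.prime hd
        have h5 := hT.norm' H h (T := tr L') (X := Subgroup.zpowers x) h3'
          (Cfsg.Agent.H160.PD.isPGroup_zpowers hxo) (by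
            intro g hg
            apply Subgroup.centralizer_le_normalizer
            rw [Subgroup.mem_centralizer_iff]
            rintro _ ⟨i, rfl⟩
            have h6 := hC.symm.tr_comm hZ hg hx
            exact ((Commute.zpow_right (show Commute g x from h6) i).symm).eq)
        rw [Subgroup.zpowers_eq_bot] at h5
        rw [h5, orderOf_one] at hxo
        exact H.prime.one_lt.ne hxo
      have h5 := hC.numK p H.prime hpπ
      have h6 := v_le hZ K p
      have h7 := v_mono hKb p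
      have h8 := hT.h9 b hbA
      simp only [v] at *
      omega
  · -- an element of order `l` in `tr K'`
    have h1 := hC.numK l h.prime hlπ
    have h2 := v_le hZ K l
    have h3 := v_mono hKb l
    have h4 := H.v_Fx_four h hbA
    have h5 := H.out_four h
    have h6 : l ∣ Nat.card (tr K') := by
      by_contra h7
      have h8 := v_eq_zero h7
      simp only [v] at *
      omega
    obtain ⟨x, hx, hxo⟩ := Cfsg.Agent.H160.PD.Cfg.exists_mem h.prime h6
    have h7 := H.three_lt hT h hxo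
    have h8 := v_mono (hC.symm.trL_le_centralizer hZ hx) 3
    have h9 := hC.numL 3 Nat.prime_three hπ3
    simp only [v] at *
    omega

end Cfsg.Agent.H14.PD
end

private theorem dce_9cd10f27fee5 : _root_.True := by
  try have : _root_.True := by simp only [_root_.Cfsg.Agent.H200.RowOrth.PtA.congr_simp]
  try have : _root_.True := by simp only [_root_.Cfsg.Agent.H14.PD.TriHyp.congr_simp]
  exact _root_.True.intro
end

-- part: H14/PD/RowPlus
section
prune_inst 0x11303104448210000004001240201e83e20004200008000008a509060c886c2000822060b83000055a22008540390068100000300000000000000400011d018008800404a1480008820096000800000000000000000000000000000000000000000000002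
set_option linter.all false
open scoped Cfsg.Agent.FastGrp

-- part: H14/PD/Inst
section
/-!
# S4246, row of `POmega^+_{2n}(q)`: the data of `plusForm` (helper14)
-/

set_option autoImplicit false
set_option linter.unusedSectionVars false

namespace Cfsg.Agent.H14.PD

open QuadraticMap Module Cfsg Cfsg.Agent.LieClassical.OrthCore Cfsg.Agent.LieClassical.OrthTrans
open Cfsg.Agent.ClassicalGeometry.OrthSemi Cfsg.Agent.ClassicalGeometry.OrthAut1 Cfsg.Agent.AutOrth.Main
open Cfsg.Agent.H200.LinFix Cfsg.Agent.H568 Cfsg.Agent.LieClassical.QuadForms Cfsg.Agent.H208.Dict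
open Cfsg.Agent.H200.RowOrth
open Cfsg.Agent.H160.PD (v v_mono v_eq_zero v_pos Fx mem_Fx out)

variable {F : Type} [Field F] [Fintype F] {m : ℕ} (hm : 4 ≤ m)

theorem finrank_plus : finrank F (Fin m ⊕ Fin m → F) = 2 * m := by
  rw [Module.finrank_fintype_fun_eq_card]
  simp only [_root_.Fintype.card_sum, _root_.Fintype.card_fin]
  omega

include hm in
theorem out_mul_plus [IsSimpleGroup (P (plusForm m F))] {p f : ℕ} (hp : p.Prime) (hf : 1 ≤ f)
    (hF : Fintype.card F = p ^ f) : ∃ c, (c = 2 ∧ p = 2 ∨ c = 8 ∨ c = 4) ∧ (p = 2 → c = 2) ∧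
      out (P (plusForm m F)) = (if m = 4 then 3 else 1) * c * f := by
  have := Fact.mk hp
  have hG : Good (plusForm m F) := good_plus (by omega)
  have hfinE : Finite ↥(E (plusForm m F)) := finite_E
  have hZ : Subgroup.center (P (plusForm m F)) = ⊥ := Cfsg.Agent.H160.PD.center_eq_bot (not_comm_P hG)
  have h1 := Cfsg.Agent.H311.PD.out_mul hZ
  have h2 := S0817.result p f hf hF m hm
  have h3 : Nat.card (MulAut (P (plusForm m F))) = Nat.card (MulAut (POmega F ⇑(plusForm m F))) :=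
    (Nat.card_congr (MulAut.congr (pe hG)).toEquiv).symm
  rw [h3, card_P hG, coe_plusForm, h2] at h1
  have h4 : 0 < Nat.card (POmega F (quadFormPlus m F)) := by
    rw [← coe_plusForm, ← card_P hG]
    exact Nat.card_pos
  have h5 := Nat.eq_of_mul_eq_mul_right h4 h1
  refine ⟨(if p = 2 then 2 else (if Even (m * (p ^ f - 1) / 2) then 8 else 4)), ?_, ?_, h5⟩
  · split_ifs with h
    · exact Or.inl ⟨rfl, h⟩
    · exact Or.inr (Or.inl rfl)
    · exact Or.inr (Or.inr rfl)
  · intro h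
    rw [if_pos h]

include hm in
theorem plusC [IsSimpleGroup (P (plusForm m F))] {p f : ℕ} (hp : p.Prime) (hf : 1 ≤ f)
    (hF : Fintype.card F = p ^ f) (hpF : (p : F) = 0) : PlusC (plusForm m F) m p f := by
  have := Fact.mk hp
  have hG : Good (plusForm m F) := good_plus (by omega)
  have hF' : Nat.card F = p ^ f := by rw [Nat.card_eq_fintype_card]; exact hF
  obtain ⟨c, hc, hc2, hout⟩ := out_mul_plus hm hp hf hF
  have hc8 : c ∣ 2 ^ 3 := by
    rcases hc with ⟨rfl, -⟩ | rfl | rfl <;> norm_num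
  have hc0 : c ≠ 0 := by
    rintro rfl
    omega
  have h30 : (if m = 4 then 3 else 1) ≠ 0 := by split_ifs <;> norm_num
  have hfac : ∀ t, (out (P (plusForm m F))).factorization t = (if m = 4 then 3 else 1 : ℕ).factorization t +
      c.factorization t + f.factorization t := by
    intro t
    rw [hout, Nat.factorization_mul (mul_ne_zero h30 hc0) (by omega), Nat.factorization_mul h30 hc0, Finsupp.add_apply,
      Finsupp.add_apply]
  have hcodd : ∀ t : ℕ, t.Prime → t ≠ 2 → c.factorization t = 0 := by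
    intro t ht ht2
    apply Nat.factorization_eq_zero_of_not_dvd
    intro h
    exact ht2 ((Nat.prime_dvd_prime_iff_eq ht Nat.prime_two).1 (ht.dvd_of_dvd_pow (h.trans hc8)))
  have h3fac : ∀ t : ℕ, t.Prime → (if m = 4 then 3 else 1 : ℕ).factorization t = if t = 3 ∧ m = 4 then 1 else 0 := by
    intro t ht
    by_cases h4 : m = 4
    · rw [if_pos h4]
      by_cases h3 : t = 3
      · rw [if_pos ⟨h3, h4⟩, h3]
        exact Nat.Prime.factorization_self Nat.prime_three
      · rw [if_neg (fun h => h3 h.1)]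
        apply Nat.factorization_eq_zero_of_not_dvd
        intro h
        exact h3 ((Nat.prime_dvd_prime_iff_eq ht Nat.prime_three).1 h)
    · rw [if_neg h4, if_neg (fun h => h4 h.2), Nat.factorization_one]
      rfl
  refine
    { good := hG
      hn := hm
      hV := finrank_plus
      hsing := card_sing (by omega)
      hpar := fun g => even_finrank_R hG (by simp only [_root_.Fintype.card_sum, _root_.Fintype.card_fin, _root_.ne_eq]; omega) g
      prime := hp
      hf := hf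
      hF := hF'
      hpF := hpF
      hcard := ⟨Nat.gcd 4 (Fintype.card F ^ m - 1), Nat.gcd_dvd_left _ _, card_mul hm⟩
      hc2 := ?_
      hout := fun t ht ht2 => ?_
      houtp := ?_ }
  · rintro rfl
    have h1 := card_mul (F := F) hm
    have h2 : Nat.gcd 4 (Fintype.card F ^ m - 1) = 1 := by
      rw [hF, ← pow_mul]
      have h3 : Odd (2 ^ (f * m) - 1) := by
        have h4 : Even (2 ^ (f * m)) := (Nat.even_pow.2 ⟨even_two, by positivity⟩)
        exact Nat.Even.sub_odd (Nat.one_le_pow _ _ (by norm_num)) h4 odd_one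
      have h5 : Nat.Coprime (2 ^ 2) (2 ^ (f * m) - 1) := Nat.Coprime.pow_left _ (Nat.coprime_two_left.2 h3)
      exact h5
    rw [h2, one_mul] at h1
    exact h1
  · rw [hfac, hcodd t ht ht2, h3fac t ht]
    omega
  · rw [hfac, h3fac p hp]
    by_cases hp2 : p = 2
    · subst hp2
      rw [if_neg (by rintro ⟨h, -⟩; omega), hc2 rfl, Nat.Prime.factorization_self Nat.prime_two]
      have h1 : 2 ^ f.factorization 2 ≤ f := Nat.le_of_dvd hf (Nat.ordProj_dvd f 2)
      have h2 := Nat.lt_two_pow_self (n := f.factorization 2)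
      omega
    · rw [hcodd p hp hp2]
      have h1 := fac_bound hp hp2 hf
      split_ifs <;> omega

end Cfsg.Agent.H14.PD
end

-- part: H14/PD/FourRow
section
/-!
# S4246, row of `POmega^+_8(q)` (helper14)
-/

set_option autoImplicit false
set_option linter.unusedSectionVars false

namespace Cfsg.Agent.H14.PD

open QuadraticMap Module Cfsg.Agent.LieClassical.OrthCore Cfsg.Agent.LieClassical.OrthTrans
open Cfsg.Agent.ClassicalGeometry.OrthSemi Cfsg.Agent.ClassicalGeometry.OrthAut1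
open Cfsg.Agent.H200.LinFix Cfsg.Agent.H200.RowOrth Cfsg.Agent.H568
open Cfsg.Agent.H160.PD (v v_mono v_eq_zero v_pos Fx mem_Fx NoOdd noOdd_of Uniq odd_bound_of_uniq out Cfg tr Row v_le
  v_tr_le card_tr_dvd exists_hall card_map_subtype In)

variable {F V : Type*} [Field F] [AddCommGroup V] [Module F V] {Q : QuadraticForm F V} [Finite V] [Finite F]

variable {p f : ℕ} {Γ : Subgroup (MulAut (P Q))} {π : Set ℕ} {L K L' K' : Subgroup (MulAut (P Q))}

theorem odg_four : Odg 4 3 := ⟨by decide, Or.inr rfl⟩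

/-- an element of prime order in `L ⊓ Γ` -/
theorem exists_prime_Γ (hC : Cfg π L K L' K') (h : L ⊓ Γ ≠ ⊥) :
    ∃ b ∈ L, b ∈ Γ ∧ (orderOf b).Prime ∧ orderOf b ≠ 2 ∧ orderOf b ∈ π := by
  have hfinE : Finite ↥(E Q) := finite_E
  have h1 : Nat.card ↥(L ⊓ Γ) ≠ 1 := fun h0 => h (Subgroup.eq_bot_of_card_eq _ h0)
  obtain ⟨t, ht, htd⟩ := Nat.exists_prime_and_dvd h1
  have := Fact.mk ht
  obtain ⟨⟨b, hbm⟩, hbo⟩ := exists_prime_orderOf_dvd_card' t htd
  rw [Subgroup.orderOf_mk] at hbo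
  obtain ⟨hb, hbΓ⟩ := hbm
  have htπ := hC.piL t ht (htd.trans (Subgroup.card_dvd_of_le inf_le_left))
  exact ⟨b, hb, hbΓ, hbo ▸ ht, by rw [hbo]; exact fun h2 => hC.two (h2 ▸ htπ), hbo ▸ htπ⟩

/-- elements of order `l` (of degree four) commute with no element of order `r` or `s` -/
theorem Plus.four_first (H : Plus Q 4 p f) {l r : ℕ} (hl : Four Q f l) [hr : Fact r.Prime] (hr2 : r ≠ 2)
    (hrF : (r : F) ≠ 0) (hd : Ordd r (Nat.card F) (2 * (4 - 1))) {y z : ↥(E Q)} (hy : y ^ r = 1) (hy1 : y ≠ 1)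
    (hz : z ^ l = 1) (hz1 : z ≠ 1) (hzy : z * y = y * z) : False := by
  have hlF := Fact.mk hl.prime
  have hfd : FiniteDimensional F V := inferInstance
  have hz' : en Q z ^ l = 1 := by rw [← map_pow, hz, map_one]
  rcases plus_first H.good hl.ne hl.cast (n := 4) le_rfl H.hV hr2 hrF hd hy hy1 hz hz1 hzy with ⟨-, h1⟩ | ⟨-, h1⟩
  · have h2 := dvd_finrank_R hl.ord hl.cast hz'
    rw [h1] at h2
    omega
  · apply hl.not_dvd (m := 6) (by omega)
    have h6 : Nat.card F ^ 6 - 1 = (Nat.card F ^ 3 + 1) * (Nat.card F ^ 3 - 1) := by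
      rw [show 6 = 3 * 2 by norm_num, pow_mul]
      exact Nat.sq_sub_sq (Nat.card F ^ 3) 1
    rw [h6]
    exact Dvd.dvd.mul_right h1 _

theorem Plus.four_second (H : Plus Q 4 p f) {l r : ℕ} (hl : Four Q f l) [hr : Fact r.Prime] (hr2 : r ≠ 2)
    (hrF : (r : F) ≠ 0) (hd : Ordd r (Nat.card F) 3) (hrd : r ∣ Nat.card F ^ 3 - 1) {y z : ↥(E Q)} (hy : y ^ r = 1)
    (hy1 : y ≠ 1) (hz : z ^ l = 1) (hz1 : z ≠ 1) (hzy : z * y = y * z) : False := by
  have hlF := Fact.mk hl.prime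
  have hfd : FiniteDimensional F V := inferInstance
  have hz' : en Q z ^ l = 1 := by rw [← map_pow, hz, map_one]
  rcases plus_second H.good hl.ne hl.cast (n := 4) (d := 3) le_rfl H.hV odg_four.odd (Or.inr rfl) hr2 hrF hd hrd hy hy1 hz hz1
    hzy with ⟨-, h1, -⟩ | ⟨-, h1⟩
  · have h2 := dvd_finrank_R hl.ord hl.cast hz'
    rw [h1] at h2
    omega
  · exact hl.not_dvd (m := 3) (by omega) h1

/-- an element of prime order with a two-dimensional commutator space -/
theorem dvd_of_plane {t : ℕ} [ht : Fact t.Prime] (htF : (t : F) ≠ 0) {s : ↥(E Q)} (hs : s ^ t = 1)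
    (h2 : finrank F (R (en Q s)) = 2) : t ∣ Nat.card F ^ 2 - 1 := by
  have hs' : en Q s ^ t = 1 := by rw [← map_pow, hs, map_one]
  have h1 : Nat.card (R (en Q s)) ≡ 1 [MOD t] := card_modEq (g := en Q s) (W := R (en Q s)) (fun w hw => R_inv rfl hw)
    (fun w _ => by rw [hs']; rfl) (fun w hw h => eq_zero_of_mem hs' htF h hw)
  rw [Module.natCard_eq_pow_finrank (K := F), h2] at h1
  exact (Nat.modEq_iff_dvd' (Nat.one_le_pow _ _ Nat.card_pos)).1 h1.symm

/-- elements commuting with elements of order `l₀` and of order four, `q = 3` -/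
theorem Plus.no_comm_first (H : Plus Q 4 3 1) {l₀ l₄ : ℕ} (h₀ : First Q 4 3 1 l₀) (h₄ : Four Q 1 l₄) {t a c : ↥(E Q)}
    {r : ℕ} (hr : r.Prime) (hr2 : r ≠ 2) (ht : t ^ r = 1) (ht1 : t ≠ 1) (ha : a ^ l₀ = 1) (ha1 : a ≠ 1)
    (hta : t * a = a * t) (hc : c ^ l₄ = 1) (hc1 : c ≠ 1) (htc : t * c = c * t) : False := by
  have hF3 : Nat.card F = 3 := by rw [H.hF]; rfl
  have := Fact.mk hr
  have := Fact.mk h₀.prime
  have hG := H.good
  by_cases hbc : (r : F) = 0
  · have hch : CharP F 3 := (CharP.charP_iff_prime_eq_zero Nat.prime_three).2 H.hpF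
    have h3 : r = 3 := by
      rw [CharP.cast_eq_zero_iff F 3] at hbc
      exact ((Nat.prime_dvd_prime_iff_eq Nat.prime_three hr).1 hbc).symm
    rw [h3] at ht
    exact ht1 (H.comm_first h₀.cast h₀.ord ha ha1 (k := 1) (by rwa [pow_one]) hta)
  · rcases plus_first hG hr2 hbc (n := 4) le_rfl H.hV h₀.ne h₀.cast h₀.ord ha ha1 ht ht1 hta with ⟨-, e⟩ | ⟨-, e⟩
    · have h1 := dvd_of_plane hbc ht e
      rw [hF3] at h1
      norm_num at h1
      have h2 : r ∣ 2 ^ 3 := h1
      exact hr2 ((Nat.prime_dvd_prime_iff_eq hr Nat.prime_two).1 (hr.dvd_of_dvd_pow h2))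
    · have h28 : r ∣ 28 := by rw [hF3] at e; norm_num at e; exact e
      have h028 : l₀ ∣ 28 := by have := h₀.dvd; rw [hF3] at this; norm_num at this; exact this
      have h7 : ∀ r : ℕ, r.Prime → r ≠ 2 → r ∣ 28 → r = 7 := by
        intro r hr hr2 h
        have h1 : r ∣ 2 ^ 2 * 7 := h
        rcases hr.dvd_mul.1 h1 with h2 | h2
        · exact absurd ((Nat.prime_dvd_prime_iff_eq hr Nat.prime_two).1 (hr.dvd_of_dvd_pow h2)) hr2
        · exact (Nat.prime_dvd_prime_iff_eq hr (by norm_num)).1 h2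
      have h1 : r = l₀ := (h7 _ hr hr2 h28).trans (h7 _ h₀.prime h₀.ne h028).symm
      rw [h1] at ht
      exact H.four_first h₄ h₀.ne h₀.cast h₀.ord ht ht1 hc hc1 htc.symm

/-- elements commuting with elements of order `l₁` and of order four, `q = 3` -/
theorem Plus.no_comm_second (H : Plus Q 4 3 1) {l₁ l₄ : ℕ} (h₁ : Second Q 4 3 1 3 l₁) (h₄ : Four Q 1 l₄) {t a c : ↥(E Q)}
    {r : ℕ} (hr : r.Prime) (hr2 : r ≠ 2) (ht : t ^ r = 1) (ht1 : t ≠ 1) (ha : a ^ l₁ = 1) (ha1 : a ≠ 1)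
    (hta : t * a = a * t) (hc : c ^ l₄ = 1) (hc1 : c ≠ 1) (htc : t * c = c * t) : False := by
  have hF3 : Nat.card F = 3 := by rw [H.hF]; rfl
  have := Fact.mk hr
  have := Fact.mk h₁.prime
  have hG := H.good
  by_cases hbc : (r : F) = 0
  · have hch : CharP F 3 := (CharP.charP_iff_prime_eq_zero Nat.prime_three).2 H.hpF
    have h3 : r = 3 := by
      rw [CharP.cast_eq_zero_iff F 3] at hbc
      exact ((Nat.prime_dvd_prime_iff_eq Nat.prime_three hr).1 hbc).symm
    rw [h3] at ht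
    exact ht1 (H.comm_second odg_four h₁.ne h₁.cast h₁.ord h₁.dvd ha ha1 (k := 1) (by rwa [pow_one]) hta)
  · rcases plus_second hG hr2 hbc (n := 4) (d := 3) le_rfl H.hV odg_four.odd (Or.inr rfl) h₁.ne h₁.cast h₁.ord h₁.dvd
      ha ha1 ht ht1 hta with ⟨-, e, -⟩ | ⟨-, e⟩
    · have h1 := dvd_of_plane hbc ht e
      rw [hF3] at h1
      norm_num at h1
      have h2 : r ∣ 2 ^ 3 := h1
      exact hr2 ((Nat.prime_dvd_prime_iff_eq hr Nat.prime_two).1 (hr.dvd_of_dvd_pow h2))
    · have h26 : r ∣ 26 := by rw [hF3] at e; norm_num at e; exact e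
      have h126 : l₁ ∣ 26 := by have := h₁.dvd; rw [hF3] at this; norm_num at this; exact this
      have h13 : ∀ r : ℕ, r.Prime → r ≠ 2 → r ∣ 26 → r = 13 := by
        intro r hr hr2 h
        have h1 : r ∣ 2 * 13 := h
        rcases hr.dvd_mul.1 h1 with h2 | h2
        · exact absurd ((Nat.prime_dvd_prime_iff_eq hr Nat.prime_two).1 h2) hr2
        · exact (Nat.prime_dvd_prime_iff_eq hr (by norm_num)).1 h2
      have h1 : r = l₁ := (h13 _ hr hr2 h26).trans (h13 _ h₁.prime h₁.ne h126).symm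
      rw [h1] at ht
      exact H.four_second h₄ h₁.ne h₁.cast h₁.ord h₁.dvd ht ht1 hc hc1 htc.symm

/-- lifting -/
theorem Plus.exists_comm (H : Plus Q 4 p f) {t : ↥(E Q)} {b : MulAut (P Q)} {l : ℕ} {y : P Q}
    (hbt : b = MulAut.conj (QuotientGroup.mk t : P Q)) (hl : l.Prime) (hl2 : l ≠ 2) (hyo : orderOf y = l)
    (hby : b y = y) : ∃ c : ↥(E Q), c ^ l = 1 ∧ c ≠ 1 ∧ t * c = c * t := by
  obtain ⟨c, hc, hc1, rfl⟩ := H.exists_lift hl hl2 hyo
  rw [hbt, MulAut.conj_apply, mul_inv_eq_iff_eq_mul] at hby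
  exact ⟨c, hc, hc1, (comm_of_mk H.good (hl.odd_of_ne_two hl2) hc hby.symm).symm⟩

/-- **The row of `POmega^+_8(q)`, `q > 3`.** -/
theorem PlusC.row_four_gen [IsSimpleGroup (P Q)] (H : PlusC Q 4 p f) (hZ : Subgroup.center (P Q) = ⊥)
    (hT : TriHyp Q H.good p f) (hΓ : ∀ α, α ∈ Γ ↔ PtA H.good α) (hind : Γ.index = 3)
    (hΓM : ∀ b ∈ Γ, ∃ M : Gam Q, b = Psi Q M) (hne2 : ¬ (p = 2 ∧ f = 1)) (hne3 : ¬ (p = 3 ∧ f = 1)) : _root_.Cfsg.Agent.H160.PD.Row (P Q) := by
  have hfinE : Finite ↥(E Q) := finite_E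
  obtain ⟨l₀, h₀⟩ := H.exists_first (fun h => hne2 ⟨h.1, h.2.1⟩)
  obtain ⟨l₁, h₁⟩ := H.exists_second odg_four
  refine (H.twoE odg_four (fun h => hne3 ⟨h.1, h.2.1⟩) h₀ h₁ (fun b hb => hT.h9 b fun h => hb (hΓM b ((hΓ b).2 h))) ?_).row hZ
  intro π L K L' K' hC h1 h2
  by_cases hL : L ⊓ Γ = ⊥
  · exact H.triality_false hZ hT hΓ hind hC hL
  · obtain ⟨b, hb, hbΓ, hbp, hb2, -⟩ := exists_prime_Γ hC hL
    obtain ⟨x, hx, hxo⟩ := Cfsg.Agent.H160.PD.Cfg.exists_mem h₀.prime h1
    obtain ⟨y, hy, hyo⟩ := Cfsg.Agent.H160.PD.Cfg.exists_mem h₁.prime h2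
    exact H.inc odg_four h₀ h₁ (hΓM b hbΓ) hbp hb2 hxo (hC.fix hZ hb hx) hyo (hC.fix hZ hb hy)

/-- **The row of `POmega^+_8(3)`.** -/
theorem PlusC.row_four_three [IsSimpleGroup (P Q)] (H : PlusC Q 4 p f) (hZ : Subgroup.center (P Q) = ⊥)
    (hT : TriHyp Q H.good p f) (hΓ : ∀ α, α ∈ Γ ↔ PtA H.good α) (hind : Γ.index = 3)
    (hΓM : ∀ b ∈ Γ, ∃ M : Gam Q, b = Psi Q M) (hp3 : p = 3) (hf1 : f = 1) : _root_.Cfsg.Agent.H160.PD.Row (P Q) := by
  subst hp3
  subst hf1
  have hG := H.good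
  have hF3 : Nat.card F = 3 := by rw [H.hF]; rfl
  have hfinE : Finite ↥(E Q) := finite_E
  obtain ⟨l₀, h₀⟩ := H.exists_first (by omega)
  obtain ⟨l₁, h₁⟩ := H.exists_second odg_four
  obtain ⟨l₄, h₄⟩ := H.exists_four'
  have hF0 := Fact.mk h₀.prime
  have hF1 := Fact.mk h₁.prime
  have hF4 := Fact.mk h₄.prime
  have hne : ∀ {l : ℕ}, (l : F) ≠ 0 → l ≠ 3 := by
    rintro l h rfl
    exact h H.hpF
  have hcast : ∀ {t : ℕ}, t.Prime → (t : F) = 0 → t = 3 := by
    intro t ht h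
    have hc : CharP F 3 := (CharP.charP_iff_prime_eq_zero Nat.prime_three).2 H.hpF
    rw [CharP.cast_eq_zero_iff F 3] at h
    exact ((Nat.prime_dvd_prime_iff_eq Nat.prime_three ht).1 h).symm
  have hl₄5 : 5 ≤ l₄ := h₄.le
  have h₄card : l₄ ∣ Nat.card (P Q) := H.dvd_card' h₄.prime h₄.ne h₄.dvd
  have hg₀ : Cfsg.Agent.H160.PD.Good (P Q) l₀ := ⟨h₀.prime, h₀.ne, H.good_of h₀.prime h₀.ne (hne h₀.cast) h₀.card⟩
  have hg₁ : Cfsg.Agent.H160.PD.Good (P Q) l₁ := ⟨h₁.prime, h₁.ne, H.good_of h₁.prime h₁.ne (hne h₁.cast) h₁.card⟩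
  have hg₄ : Cfsg.Agent.H160.PD.Good (P Q) l₄ := ⟨h₄.prime, h₄.ne, H.good_of h₄.prime h₄.ne (hne h₄.cast) h₄card⟩
  -- `NoOdd`
  have n01 := H.noOdd odg_four h₀.prime h₀.ne h₀.cast h₀.ord h₀.dvd h₀.le h₁.prime h₁.ne h₁.cast h₁.ord h₁.dvd h₁.le
  have hne04 : l₀ ≠ l₄ := by
    rintro rfl
    obtain ⟨y, hy, hy1⟩ := exists_elt hG h₀.ne h₀.card
    exact H.four_first h₄ h₀.ne h₀.cast h₀.ord hy hy1 hy hy1 rfl
  have hne14 : l₁ ≠ l₄ := by
    rintro rfl
    obtain ⟨y, hy, hy1⟩ := exists_elt hG h₁.ne h₁.card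
    exact H.four_second h₄ h₁.ne h₁.cast h₁.ord h₁.dvd hy hy1 hy hy1 rfl
  have h8 : finrank F V = 8 := H.hV
  have n04 : NoOdd (P Q) l₀ l₄ := noOdd_of_comm hG h₀.ne h₄.ne hne04 h₀.cast h₄.cast h₀.le (by omega)
    fun y z hy hy1 hz hz1 hzy => H.four_first h₄ h₀.ne h₀.cast h₀.ord hy hy1 hz hz1 hzy
  have n14 : NoOdd (P Q) l₁ l₄ := noOdd_of_comm hG h₁.ne h₄.ne hne14 h₁.cast h₄.cast h₁.le (by omega)
    fun y z hy hy1 hz hz1 hzy => H.four_second h₄ h₁.ne h₁.cast h₁.ord h₁.dvd hy hy1 hz hz1 hzy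
  have i04 : ∀ b ∈ Γ, (orderOf b).Prime → orderOf b ≠ 2 → ∀ x : P Q, orderOf x = l₀ → b x = x → ∀ y : P Q,
      orderOf y = l₄ → b y = y → False := by
    intro b hbΓ hb hb2 x hx hbx y hyo hby
    obtain ⟨t, a, ht, ht1, hbt, ha, ha1, -, hta⟩ := H.lift_first h₀.ne h₀.cast h₀.ord h₀.sup hb hb2 (hΓM b hbΓ) hx hbx
    obtain ⟨c, hc, hc1, htc⟩ := H.exists_comm hbt h₄.prime h₄.ne hyo hby
    exact H.no_comm_first h₀ h₄ hb hb2 ht ht1 ha ha1 hta hc hc1 htc
  have i14 : ∀ b ∈ Γ, (orderOf b).Prime → orderOf b ≠ 2 → ∀ x : P Q, orderOf x = l₁ → b x = x → ∀ y : P Q,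
      orderOf y = l₄ → b y = y → False := by
    intro b hbΓ hb hb2 x hx hbx y hyo hby
    obtain ⟨t, a, ht, ht1, hbt, ha, ha1, -, hta⟩ :=
      H.lift_second odg_four h₁.ne h₁.cast h₁.ord h₁.dvd h₁.sup hb hb2 (hΓM b hbΓ) hx hbx
    obtain ⟨c, hc, hc1, htc⟩ := H.exists_comm hbt h₄.prime h₄.ne hyo hby
    exact H.no_comm_second h₁ h₄ hb hb2 ht ht1 ha ha1 hta hc hc1 htc
  -- the exclusions
  have key : ∀ {π : Set ℕ} {L K L' K' : Subgroup (MulAut (P Q))}, Cfg π L K L' K' →
      ¬ (In L K l₀ ∧ In L K l₁) ∧ ¬ (In L K l₀ ∧ In L K l₄) ∧ ¬ (In L K l₁ ∧ In L K l₄) := by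
    intro π L K L' K' hC
    have hL : L ⊓ Γ ≠ ⊥ := fun hL => H.triality_false hZ hT hΓ hind hC hL
    obtain ⟨b, hb, hbΓ, hbp, hb2, -⟩ := exists_prime_Γ hC hL
    have kk : ∀ {r s : ℕ}, r.Prime → s.Prime →
        (∀ x : P Q, orderOf x = r → b x = x → ∀ y : P Q, orderOf y = s → b y = y → False) →
        r ∣ Nat.card (tr K) → s ∣ Nat.card (tr K) → False := by
      intro r s hr hs hI h1 h2
      obtain ⟨x, hx, hxo⟩ := Cfsg.Agent.H160.PD.Cfg.exists_mem hr h1
      obtain ⟨y, hy, hyo⟩ := Cfsg.Agent.H160.PD.Cfg.exists_mem hs h2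
      exact hI x hxo (hC.fix hZ hb hx) y hyo (hC.fix hZ hb hy)
    have ex : ∀ {r s : ℕ}, r.Prime → r ≠ 2 → s.Prime → s ≠ 2 → NoOdd (P Q) r s →
        (∀ x : P Q, orderOf x = r → b x = x → ∀ y : P Q, orderOf y = s → b y = y → False) →
        ¬ (In L K r ∧ In L K s) := by
      rintro r s hr hr2 hs hs2 hN hI ⟨h1 | h1, h2 | h2⟩
      · exact hC.exclLL hZ hN h1 h2
      · exact hC.exclLK hZ hr hr2 hs hs2 hN h1 h2
      · exact hC.exclLK hZ hs hs2 hr hr2 hN.symm h2 h1
      · exact kk hr hs hI h1 h2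
    refine ⟨ex h₀.prime h₀.ne h₁.prime h₁.ne n01 fun x hx hbx y hy hby =>
        H.inc odg_four h₀ h₁ (hΓM b hbΓ) hbp hb2 hx hbx hy hby,
      ex h₀.prime h₀.ne h₄.prime h₄.ne n04 (i04 b hbΓ hbp hb2), ex h₁.prime h₁.ne h₄.prime h₄.ne n14 (i14 b hbΓ hbp hb2)⟩
  intro π L K L' K' hC
  obtain ⟨e1, e2, e3⟩ := key hC
  obtain ⟨e4, e5, e6⟩ := key hC.symm
  have c1 := hC.cover hZ hg₀
  have c2 := hC.cover hZ hg₁
  have c3 := hC.cover hZ hg₄
  rcases c1 with a1 | a1
  · have b2 : In L' K' l₁ := c2.resolve_left fun a2 => e1 ⟨a1, a2⟩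
    have b3 : In L' K' l₄ := c3.resolve_left fun a3 => e2 ⟨a1, a3⟩
    exact e6 ⟨b2, b3⟩
  · have b2 : In L K l₁ := c2.resolve_right fun a2 => e4 ⟨a1, a2⟩
    have b3 : In L K l₄ := c3.resolve_right fun a3 => e5 ⟨a1, a3⟩
    exact e3 ⟨b2, b3⟩

/-- **The row of `POmega^+_8(2)`.** -/
theorem PlusC.row_four_two [IsSimpleGroup (P Q)] (H : PlusC Q 4 p f) (hZ : Subgroup.center (P Q) = ⊥)
    (hT : TriHyp Q H.good p f) (hΓ : ∀ α, α ∈ Γ ↔ PtA H.good α) (hind : Γ.index = 3)
    (hΓM : ∀ b ∈ Γ, ∃ M : Gam Q, b = Psi Q M) (hp2 : p = 2) (hf1 : f = 1) : _root_.Cfsg.Agent.H160.PD.Row (P Q) := by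
  subst hp2
  subst hf1
  have hG := H.good
  have hF2 : Nat.card F = 2 := by rw [H.hF]; rfl
  have hfinE : Finite ↥(E Q) := finite_E
  obtain ⟨l₁, h₁⟩ := H.exists_second odg_four
  have hF1 := Fact.mk h₁.prime
  have hne : l₁ ≠ 2 := h₁.ne
  have hg₁ : Cfsg.Agent.H160.PD.Good (P Q) l₁ := ⟨h₁.prime, h₁.ne, H.good_of h₁.prime h₁.ne hne h₁.card⟩
  have h7 : ∀ r : ℕ, r.Prime → r ∣ Nat.card F ^ 3 - 1 → r = 7 := by
    intro r hr h
    rw [hF2] at h
    exact (Nat.prime_dvd_prime_iff_eq hr (by norm_num)).1 h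
  have hcast : ∀ t : ℕ, t.Prime → t ≠ 2 → (t : F) ≠ 0 := by
    intro t ht ht2 h
    have hc : CharP F 2 := (CharP.charP_iff_prime_eq_zero Nat.prime_two).2 H.hpF
    rw [CharP.cast_eq_zero_iff F 2] at h
    exact ht2 ((Nat.prime_dvd_prime_iff_eq Nat.prime_two ht).1 h).symm
  have hvp := H.v_p
  have hout := H.houtp
  -- the `2`-part of the fixed points
  have hFx : ∀ b : MulAut (P Q), (orderOf b).Prime → orderOf b ≠ 2 → v 2 (Fx b) ≤ 10 := by
    intro b hb hb2
    have hbF := Fact.mk hb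
    by_cases hbA : PtA hG b
    · obtain ⟨M, hM⟩ := hΓM b ((hΓ b).2 hbA)
      rcases inner_or_field hG hb hb2 (M := M) (by rw [← hM]) with ⟨g, hg⟩ | ⟨σ, c, hMs, hσ⟩
      · obtain ⟨t, ht, ht1, hat⟩ := exists_lift_elt hG hb2 (a := b) rfl (s := g) (by rw [hM, hg]) (not_comm_P hG)
        have := H.v_Fx hb hb2 hb2 ht ht1 hat
        omega
      · have h1 := field_dvd hG hb hMs hσ (by rw [← hM]) H.prime H.hF
        exact absurd (Nat.dvd_one.1 h1) hb.one_lt.ne'
    · have := hT.h9 b hbA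
      omega
  have key : ∀ {π : Set ℕ} {L K L' K' : Subgroup (MulAut (P Q))}, Cfg π L K L' K' → In L K l₁ → False := by
    intro π L K L' K' hC hI
    rcases hI with h1 | h1
    · obtain ⟨x, hx, hxo⟩ := Cfsg.Agent.H160.PD.Cfg.exists_mem h₁.prime h1
      have h2 := v_mono (hC.trK_le_centralizer hZ hx) 2
      have h3 := H.cent_second odg_four h₁.prime h₁.ne h₁.cast h₁.ord h₁.dvd hxo
      have h4 := hC.numK 2 Nat.prime_two hC.two
      have h5 := v_le hZ K 2
      obtain ⟨b, hb, t, ht, -, ht2, hbo⟩ := hC.symm.exists_prime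
      have h6 := v_mono (hC.symm.trK_le hZ hb) 2
      have h7 := hFx b (hbo ▸ ht) (by rw [hbo]; exact ht2)
      simp only [v] at *
      omega
    · -- `L ⊓ Γ = 1`
      refine H.triality_false hZ hT hΓ hind hC ?_
      by_contra hL
      obtain ⟨b, hb, hbΓ, hbp, hb2, hbπ⟩ := exists_prime_Γ hC hL
      have hbF := Fact.mk hbp
      obtain ⟨x, hx, hxo⟩ := Cfsg.Agent.H160.PD.Cfg.exists_mem h₁.prime h1
      obtain ⟨t, a, ht, ht1, hbt, ha, ha1, -, hta⟩ :=
        H.lift_second odg_four h₁.ne h₁.cast h₁.ord h₁.dvd h₁.sup hbp hb2 (hΓM b hbΓ) hxo (hC.fix hZ hb hx)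
      have hbc := hcast _ hbp hb2
      rcases plus_second hG hb2 hbc (n := 4) (d := 3) le_rfl H.hV odg_four.odd (Or.inr rfl) h₁.ne h₁.cast h₁.ord h₁.dvd
        ha ha1 ht ht1 hta with ⟨e1, e, -⟩ | ⟨-, e⟩
      · obtain ⟨w, hw, hw0, hQw⟩ := sing_K (n := 4) (by norm_num) H.hsing h₁.ne h₁.ord h₁.dvd ha
        rw [← e1] at hw
        have h2 := dvd_of_sing_R hG hbc ht e hw hw0 hQw
        rw [hF2] at h2
        exact hb2 ((Nat.prime_dvd_prime_iff_eq hbp Nat.prime_two).1 h2)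
      · have h2 : orderOf b = l₁ := (h7 _ hbp e).trans (h7 _ h₁.prime h₁.dvd).symm
        rw [h2] at hbπ
        exact hC.not_mem_pi_of_dvd hZ h₁.prime h1 hbπ
  intro π L K L' K' hC
  rcases hC.cover hZ hg₁ with h | h
  · exact key hC h
  · exact key hC.symm h

/-- **The row of `POmega^+_8(q)`.** -/
theorem PlusC.row_four [IsSimpleGroup (P Q)] (H : PlusC Q 4 p f) (hZ : Subgroup.center (P Q) = ⊥)
    (hT : TriHyp Q H.good p f) (hΓ : ∀ α, α ∈ Γ ↔ PtA H.good α) (hind : Γ.index = 3)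
    (hΓM : ∀ b ∈ Γ, ∃ M : Gam Q, b = Psi Q M) : _root_.Cfsg.Agent.H160.PD.Row (P Q) := by
  by_cases h2 : p = 2 ∧ f = 1
  · exact H.row_four_two hZ hT hΓ hind hΓM h2.1 h2.2
  by_cases h3 : p = 3 ∧ f = 1
  · exact H.row_four_three hZ hT hΓ hind hΓM h3.1 h3.2
  exact H.row_four_gen hZ hT hΓ hind hΓM h2 h3

end Cfsg.Agent.H14.PD
end

-- part: H14/PD/Trial
section
/-!
# S4246, row of `POmega^+_8(q)`: the image of the unipotent radical under a triality automorphism (helper14)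
-/

set_option autoImplicit false
set_option linter.unusedSectionVars false

namespace Cfsg.Agent.H14.PD.Trial

open QuadraticMap Cfsg.Agent.LieClassical.OrthCore Cfsg.Agent.LieClassical.OrthTrans
  Cfsg.Agent.LieClassical.OrthSimple Cfsg.Agent.LieClassical.OrthFinite
  Cfsg.Agent.ClassicalGeometry.OrthAut1 Cfsg.Agent.ClassicalGeometry.OrthAut2
  Cfsg.Agent.ClassicalGeometry.OrthAut2b Cfsg.Agent.ClassicalGeometry.OrthAut3 Cfsg.Agent.ClassicalGeometry.OrthAutCard

variable {F V : Type*} [Field F] [AddCommGroup V] [Module F V] {Q : QuadraticForm F V}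

theorem card_ge [Finite F] [FiniteDimensional F V] (hQ : Nondeg Q) (W : Submodule F V)
    (hW : ∀ w ∈ W, Q w = 0) {k : ℕ} (hk : Module.finrank F W = k) (hk5 : 3 ≤ k) :
    Nat.card F ^ ((k - 1) + ((k - 2) + (k - 3))) ≤ Nat.card (Subgroup.closure {g : V ≃ₗ[F] V |
      ∃ (u w : V) (hu : Q u = 0) (hw : polar Q u w = 0), u ∈ W ∧ w ∈ W ∧
        g = siegel Q u w hu hw}) := by
  have hpos : ∀ U : Submodule F V, 1 ≤ Module.finrank F U → ∃ e ∈ U, e ≠ 0 := fun U hU => by
    have : Nontrivial U := Module.nontrivial_of_finrank_pos (R := F) (by omega)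
    obtain ⟨x, hx⟩ := exists_ne (0 : U)
    exact ⟨x, x.2, fun h => hx (Subtype.ext h)⟩
  -- the vectors
  obtain ⟨e₁, he₁, he₁0⟩ := hpos W (by omega)
  obtain ⟨f₁, h11⟩ := hQ.exists_polar_eq he₁0 1
  have d1 := finrank_cut (Q := Q) W f₁
  obtain ⟨e₂, he₂, he₂0⟩ := hpos (cut Q W f₁) (by omega)
  obtain ⟨f₂', h22'⟩ := hQ.exists_polar_eq he₂0 1
  have he₂' := mem_cut.1 he₂
  have h21 : polar Q e₂ f₁ = 0 := by rw [polar_comm]; exact he₂'.2
  obtain ⟨f₂, hf₂⟩ : ∃ f₂, f₂ = f₂' - polar Q e₁ f₂' • f₁ := ⟨_, rfl⟩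
  have h12 : polar Q e₁ f₂ = 0 := by
    rw [hf₂, polar_sub_right, polar_smul_right, h11]; simp
  have h22 : polar Q e₂ f₂ = 1 := by
    rw [hf₂, polar_sub_right, polar_smul_right, h21, h22']; simp
  have d2 := finrank_cut (Q := Q) (cut Q W f₁) f₂
  obtain ⟨e₃, he₃, he₃0⟩ := hpos (cut Q (cut Q W f₁) f₂) (by omega)
  obtain ⟨f₃', h33'⟩ := hQ.exists_polar_eq he₃0 1
  have he₃' := mem_cut.1 he₃
  have he₃'' := mem_cut.1 he₃'.1
  have h31 : polar Q e₃ f₁ = 0 := by rw [polar_comm]; exact he₃''.2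
  have h32 : polar Q e₃ f₂ = 0 := by rw [polar_comm]; exact he₃'.2
  obtain ⟨f₃, hf₃⟩ : ∃ f₃, f₃ = f₃' - polar Q e₁ f₃' • f₁ - polar Q e₂ f₃' • f₂ := ⟨_, rfl⟩
  have h13 : polar Q e₁ f₃ = 0 := by
    simp only [hf₃, polar_sub_right, polar_sub_right, polar_smul_right, polar_smul_right, h11, h12]; simp
  have h23 : polar Q e₂ f₃ = 0 := by
    simp only [hf₃, polar_sub_right, polar_sub_right, polar_smul_right, polar_smul_right, h21, h22]; simp
  have h33 : polar Q e₃ f₃ = 1 := by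
    simp only [hf₃, polar_sub_right, polar_sub_right, polar_smul_right, polar_smul_right, h31, h32, h33']
    simp
  have d3 := finrank_cut (Q := Q) (cut Q (cut Q W f₁) f₂) f₃
  set W₁ := cut Q W f₁ with hW₁
  set W₂ := cut Q W₁ f₂ with hW₂
  set W₃ := cut Q W₂ f₃ with hW₃
  have m1 : ∀ w ∈ W₁, w ∈ W ∧ polar Q w f₁ = 0 := fun w hw => by
    rw [polar_comm]; exact mem_cut.1 hw
  have m2 : ∀ w ∈ W₂, w ∈ W ∧ polar Q w f₁ = 0 ∧ polar Q w f₂ = 0 := fun w hw => by
    have h := mem_cut.1 hw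
    have h' := m1 w h.1
    refine ⟨h'.1, h'.2, ?_⟩
    rw [polar_comm]; exact h.2
  have m3 : ∀ w ∈ W₃, w ∈ W ∧ polar Q w f₁ = 0 ∧ polar Q w f₂ = 0 ∧ polar Q w f₃ = 0 :=
    fun w hw => by
    have h := mem_cut.1 hw
    have h' := m2 w h.1
    refine ⟨h'.1, h'.2.1, h'.2.2, ?_⟩
    rw [polar_comm]; exact h.2
  have z : ∀ {u w : V}, u ∈ W → w ∈ W → polar Q u w = 0 := fun hu hw =>
    polar_eq_zero_of_sing hW hu hw
  -- the map
  let g : W₁ × W₂ × W₃ → (V ≃ₗ[F] V) := fun x =>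
    siegel Q e₁ x.1 (hW _ he₁) (z he₁ (m1 _ x.1.2).1) *
      (siegel Q e₂ x.2.1 (hW _ he₂'.1) (z he₂'.1 (m2 _ x.2.1.2).1) *
        siegel Q e₃ x.2.2 (hW _ he₃''.1) (z he₃''.1 (m3 _ x.2.2.2).1))
  have hg : ∀ x, g x ∈ Subgroup.closure {g : V ≃ₗ[F] V |
      ∃ (u w : V) (hu : Q u = 0) (hw : polar Q u w = 0), u ∈ W ∧ w ∈ W ∧
        g = siegel Q u w hu hw} := fun x => by
    refine mul_mem (Subgroup.subset_closure ⟨_, _, _, _, he₁, (m1 _ x.1.2).1, rfl⟩)
      (mul_mem (Subgroup.subset_closure ⟨_, _, _, _, he₂'.1, (m2 _ x.2.1.2).1, rfl⟩)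
        (Subgroup.subset_closure ⟨_, _, _, _, he₃''.1, (m3 _ x.2.2.2).1, rfl⟩))
  have happ : ∀ x v, g x v = v + (polar Q e₃ v • (x.2.2 : V) - polar Q x.2.2 v • e₃) +
      (polar Q e₂ v • (x.2.1 : V) - polar Q x.2.1 v • e₂) +
      (polar Q e₁ v • (x.1 : V) - polar Q x.1 v • e₁) := fun x v => by
    have a1 := (m1 _ x.1.2).1
    have a2 := (m2 _ x.2.1.2).1
    have a3 := (m3 _ x.2.2.2).1
    show siegel Q e₁ x.1 (hW _ he₁) (z he₁ (m1 _ x.1.2).1)
      (siegel Q e₂ x.2.1 (hW _ he₂'.1) (z he₂'.1 (m2 _ x.2.1.2).1)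
        (siegel Q e₃ x.2.2 (hW _ he₃''.1) (z he₃''.1 (m3 _ x.2.2.2).1) v)) = _
    rw [siegel_apply_of_mem hW _ _ a1, siegel_apply_of_mem hW _ _ a2,
      siegel_apply_of_mem hW _ _ a3]
    simp only [polar_add_right, polar_sub_right, polar_smul_right, z he₁ a2, z he₁ a3,
      z he₁ he₂'.1, z he₁ he₃''.1, z he₂'.1 a3, z he₂'.1 he₃''.1, z a1 a2, z a1 a3, z a1 he₂'.1,
      z a1 he₃''.1, z a2 a3, z a2 he₃''.1, smul_eq_mul, mul_zero, sub_zero, add_zero]
  have hinj : Function.Injective g := by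
    intro x y hxy
    have e1 := DFunLike.congr_fun hxy f₁
    rw [happ, happ, h11, h21, h31, (m1 _ x.1.2).2, (m2 _ x.2.1.2).2.1, (m3 _ x.2.2.2).2.1,
      (m1 _ y.1.2).2, (m2 _ y.2.1.2).2.1, (m3 _ y.2.2.2).2.1] at e1
    simp only [zero_smul, sub_zero, add_zero, one_smul, add_right_inj] at e1
    have e2 := DFunLike.congr_fun hxy f₂
    rw [happ, happ, h12, h22, h32, (m2 _ x.2.1.2).2.2, (m3 _ x.2.2.2).2.2.1,
      (m2 _ y.2.1.2).2.2, (m3 _ y.2.2.2).2.2.1, e1] at e2
    simp only [zero_smul, sub_zero, add_zero, one_smul, add_left_inj, add_right_inj] at e2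
    have e3 := DFunLike.congr_fun hxy f₃
    rw [happ, happ, h13, h23, h33, (m3 _ x.2.2.2).2.2.2, (m3 _ y.2.2.2).2.2.2, e1, e2] at e3
    simp only [zero_smul, sub_zero, one_smul, add_left_inj, add_right_inj] at e3
    exact Prod.ext (Subtype.ext e1) (Prod.ext (Subtype.ext e2) (Subtype.ext e3))
  have : Finite V := Module.finite_of_finite F
  have hfin : Finite (V ≃ₗ[F] V) := Finite.of_injective (fun f : V ≃ₗ[F] V => (f : V → V))
    DFunLike.coe_injective
  have hle : Nat.card (W₁ × W₂ × W₃) ≤ Nat.card (Subgroup.closure {g : V ≃ₗ[F] V |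
      ∃ (u w : V) (hu : Q u = 0) (hw : polar Q u w = 0), u ∈ W ∧ w ∈ W ∧
        g = siegel Q u w hu hw}) :=
    Nat.card_le_card_of_injective (fun x => ⟨g x, hg x⟩)
      (fun x y h => hinj (congrArg Subtype.val h))
  refine le_trans ?_ hle
  rw [Nat.card_prod, Nat.card_prod]
  have c1 : Nat.card F ^ (k - 1) ≤ Nat.card W₁ := pow_le_card_cut (by omega)
  have c2 : Nat.card F ^ (k - 2) ≤ Nat.card W₂ := pow_le_card_cut (by omega)
  have c3 : Nat.card F ^ (k - 3) ≤ Nat.card W₃ := pow_le_card_cut (by omega)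
  rw [pow_add, pow_add]
  exact Nat.mul_le_mul c1 (Nat.mul_le_mul c2 c3)

/-- Lower bound for `UP W`, `W` totally singular of dimension at least three. -/
theorem ge_card_UP [Finite F] [FiniteDimensional F V] (hG : Good Q) {W : Submodule F V}
    (hW : TS Q W) (hk5 : 3 ≤ Module.finrank F W) :
    Nat.card F ^ ((Module.finrank F W - 1) + ((Module.finrank F W - 2) + (Module.finrank F W - 3))) ≤ Nat.card (UP Q W) := by
  have h1 := card_ge hG.nondeg W hW rfl hk5
  refine le_trans h1 ?_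
  set C := Subgroup.closure {g : V ≃ₗ[F] V | ∃ (u w : V) (hu : Q u = 0) (hw : polar Q u w = 0),
    u ∈ W ∧ w ∈ W ∧ g = siegel Q u w hu hw} with hC
  have hCE : C ≤ E Q := by
    rw [hC, Subgroup.closure_le]
    rintro _ ⟨u, w, hu, hw, -, -, rfl⟩
    exact siegel_mem_E hu hw
  have hCU : ∀ g (hg : g ∈ C), (⟨g, hCE hg⟩ : ↥(E Q)) ∈ U Q W := by
    have h2 : C ≤ (U Q W).map (E Q).subtype := by
      rw [hC, Subgroup.closure_le]
      rintro _ ⟨u, w, hu, hw, huW, hwW, rfl⟩
      exact ⟨Cfsg.Agent.ClassicalGeometry.OrthAut2.sg u w hu hw, sg_mem_U hW huW (fun v hv => hW.polar hwW hv) hu hw, rfl⟩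
    intro g hg
    obtain ⟨g', hg', e⟩ := h2 hg
    have : g' = ⟨g, hCE hg⟩ := Subtype.ext e
    rw [← this]; exact hg'
  have hfinP : Finite (P Q) := finite_P
  have hW0 : ∃ w ∈ W, w ≠ 0 := by
    have : Nontrivial W := Module.nontrivial_of_finrank_pos (R := F) (by omega)
    obtain ⟨x, hx⟩ := exists_ne (0 : W)
    exact ⟨x, x.2, fun h => hx (Subtype.ext h)⟩
  obtain ⟨w0, hw0, hw00⟩ := hW0
  let φ : C → UP Q W := fun g => ⟨((⟨g, hCE g.2⟩ : ↥(E Q)) : P Q), ⟨_, hCU g g.2, rfl⟩⟩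
  have hφ : Function.Injective φ := by
    rintro ⟨g, hg⟩ ⟨g', hg'⟩ h
    have h2 : ((⟨g, hCE hg⟩ : ↥(E Q)) : P Q) = ((⟨g', hCE hg'⟩ : ↥(E Q)) : P Q) :=
      congrArg Subtype.val h
    rw [QuotientGroup.eq] at h2
    obtain ⟨c, hc⟩ := center_scalar hG h2
    have h3 : g.symm (g' w0) = c • w0 := hc w0
    have h4 : g' w0 = w0 := (hCU g' hg').1 w0 hw0
    have h5 : g w0 = w0 := (hCU g hg).1 w0 hw0
    rw [h4, LinearEquiv.symm_apply_eq, map_smul, h5] at h3
    have h6 : c = 1 := by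
      have h7 : (1 - c) • w0 = 0 := by rw [sub_smul, one_smul, ← h3, sub_self]
      rcases smul_eq_zero.1 h7 with h8 | h8
      · exact (sub_eq_zero.1 h8).symm
      · exact absurd h8 hw00
    apply Subtype.ext
    ext v
    have h7 : g.symm (g' v) = c • v := hc v
    rw [h6, one_smul, LinearEquiv.symm_apply_eq] at h7
    exact h7.symm
  exact Nat.card_le_card_of_injective φ hφ


/-- **The image of the unipotent radical fixes `W` pointwise.** -/
theorem map_UP_le [Finite F] [FiniteDimensional F V] (hG : Good Q) (h8 : Module.finrank F V = 8) (α : MulAut (P Q))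
    {x : V} (hx : Q x = 0) (hx0 : x ≠ 0) {W : Submodule F V} (hTS : TS Q W) (hW4 : Module.finrank F W = 4)
    (hW : (stab hG (Submodule.span F {x})).map α.toMonoidHom = stab hG W) :
    (UP Q (Submodule.span F {x})).map α.toMonoidHom ≤ UP Q W := by
  have hfinP : Finite (P Q) := finite_P
  have h1 := map_symm_UP_le hG (by omega) α hx hx0 hW
  have h2 := ge_card_UP hG hTS (by omega)
  have h3 := card_UP_span_le hG hx hx0
  rw [hW4] at h2
  rw [h8] at h3
  have h4 : (UP Q W).map α.symm.toMonoidHom = UP Q (Submodule.span F {x}) := by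
    apply Subgroup.eq_of_le_of_card_ge h1
    have e : Nat.card ((UP Q W).map α.symm.toMonoidHom) = Nat.card (UP Q W) :=
      Subgroup.card_map_of_injective α.symm.injective
    rw [e]
    exact h3.trans h2
  rw [← h4, Subgroup.map_map]
  rintro _ ⟨s, hs, rfl⟩
  have h5 : (α.toMonoidHom.comp α.symm.toMonoidHom) s = s := α.apply_symm_apply s
  rw [h5]
  exact hs

end Cfsg.Agent.H14.PD.Trial

namespace Cfsg.Agent.H14.PD

open QuadraticMap Module Cfsg.Agent.LieClassical.OrthCore Cfsg.Agent.LieClassical.OrthTrans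
open Cfsg.Agent.ClassicalGeometry.OrthSemi Cfsg.Agent.ClassicalGeometry.OrthAut1
open Cfsg.Agent.H200.LinFix Cfsg.Agent.H200.RowOrth Cfsg.Agent.H568
open Cfsg.Agent.H160.PD (v v_mono v_eq_zero v_pos Fx mem_Fx)
open Cfsg.Agent.ClassicalGeometry.OrthAut2 (UP mem_UP_span_iff)

variable {F V : Type*} [Field F] [AddCommGroup V] [Module F V] {Q : QuadraticForm F V} [Finite V] [Finite F]

variable {p f : ℕ}

/-- elements of `UP W` of `p`-power order fix `W` pointwise -/
theorem fix_of_mem_UP (hG : Good Q) {p : ℕ} [hp : Fact p.Prime] (hpF : (p : F) = 0) {g : ↥(E Q)} {k : ℕ}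
    (hg : g ^ p ^ k = 1) {W : Submodule F V} (h : (QuotientGroup.mk g : P Q) ∈ UP Q W) :
    ∀ t ∈ W, (g : V ≃ₗ[F] V) t = t := by
  obtain ⟨a, ha, hag⟩ := h
  have h1 : a⁻¹ * g ∈ Subgroup.center ↥(E Q) := QuotientGroup.eq.1 hag
  obtain ⟨c, hc⟩ := center_scalar hG h1
  intro t ht
  by_cases ht0 : t = 0
  · rw [ht0, map_zero]
  have h2 : (g : V ≃ₗ[F] V) t = c • t := by
    have h3 : g = a * (a⁻¹ * g) := by group
    have h4 : (g : V ≃ₗ[F] V) t = (a : V ≃ₗ[F] V) (((a⁻¹ * g : ↥(E Q)) : V ≃ₗ[F] V) t) := by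
      conv_lhs => rw [h3]
      rfl
    rw [h4, hc, map_smul, ha.1 t ht]
  have h9 : ∀ i : ℕ, ((g ^ i : ↥(E Q)) : V ≃ₗ[F] V) t = c ^ i • t := by
    intro i
    induction i with
    | zero => rw [pow_zero, pow_zero, one_smul]; rfl
    | succ i ih =>
      rw [pow_succ, pow_succ]
      change ((g ^ i : ↥(E Q)) : V ≃ₗ[F] V) ((g : V ≃ₗ[F] V) t) = _
      rw [h2, map_smul, ih, smul_smul, mul_comm]
  have h10 := h9 (p ^ k)
  rw [hg] at h10
  have h11 : (c ^ p ^ k - 1) • t = 0 := by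
    rw [sub_smul, ← h10, one_smul]
    exact sub_self t
  have h12 : c ^ p ^ k = 1 := sub_eq_zero.1 ((smul_eq_zero.1 h11).resolve_right ht0)
  rw [h2, Cfsg.Agent.H311.PD.scalar_one hpF h12, one_smul]

/-- **The `p`-part of the fixed points of a triality automorphism.** -/
theorem Plus.v_Fx_triality (H : Plus Q 4 p f) {b : MulAut (P Q)} (hb : ¬ PtA H.good b) :
    v p (Fx b) + 3 * f ≤ v p (P Q) := by
  have hG := H.good
  have := Fact.mk H.prime
  have h8 : finrank F V = 8 := H.hV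
  have hfd : FiniteDimensional F V := inferInstance
  have h2 := two_or_of_char (F := F) H.hpF
  obtain ⟨X, hX, hXv, hXm⟩ := exists_lift_pgroup hG h2 (Fx b)
  rw [← hXv, v_P hG h2]
  obtain ⟨u, hu0, hu, hfix⟩ := exists_fix_sing H.dvd_sing hX
  rcases Cfsg.Agent.ClassicalGeometry.OrthAut3.dichotomy hG (by omega) b hu hu0 with ⟨x, hx, hx0, h⟩ | ⟨-, W, hW, hW4, h⟩
  · exact absurd (ptA_of_one hG hu hu0 hx hx0 h) hb
  have hUP := Trial.map_UP_le hG h8 b hu hu0 hW hW4 h
  -- `W^⊥ = W`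
  have hperp : ∀ w : V, (∀ t ∈ W, polar Q w t = 0) → w ∈ W := by
    have h3 := finrank_perp hG W
    have h4 : W = LinearMap.BilinForm.orthogonal (polarBilin Q) W := by
      apply Submodule.eq_of_le_of_finrank_le
      · intro a ha t ht
        exact hW.polar ht ha
      · omega
    intro w hw
    rw [h4]
    intro t ht
    change polar Q t w = 0
    rw [polar_comm]
    exact hw t ht
  have key : ∀ (w : V) (hw : w ∈ pp Q u), sg hu (Multiplicative.ofAdd ⟨w, hw⟩) ∈ X →
      ∀ t ∈ W, polar Q u t • w - polar Q w t • u - (Q w * polar Q u t) • u = 0 := by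
    intro w hw hwX t ht
    obtain ⟨k, hk⟩ := hX ⟨_, hwX⟩
    have h3 : (QuotientGroup.mk (sg hu (Multiplicative.ofAdd ⟨w, hw⟩)) : P Q) ∈ UP Q W := by
      apply hUP
      refine ⟨QuotientGroup.mk (sg hu (Multiplicative.ofAdd ⟨w, hw⟩)), ?_, hXm _ hwX⟩
      exact (mem_UP_span_iff hG.nondeg hu hu0).2 ⟨w, hw, rfl⟩
    have h4 := fix_of_mem_UP hG H.hpF (congrArg Subtype.val hk) h3 t ht
    rw [sg_apply] at h4
    have h5 : t + polar Q u t • w - polar Q w t • u - (Q w * polar Q u t) • u =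
      t + (polar Q u t • w - polar Q w t • u - (Q w * polar Q u t) • u) := by abel
    rw [h5] at h4
    exact left_eq_add.1 h4.symm
  by_cases huW : u ∈ W
  · have h3 := enlarge hG H.hF H.hpF hX hu hu0 hfix (C := W) fun w hw hwX => by
      apply hperp
      intro t ht
      have h4 := key w hw hwX t ht
      rw [hW.polar huW ht, zero_smul, mul_zero, zero_smul, sub_zero, zero_sub, neg_eq_zero] at h4
      exact (smul_eq_zero.1 h4).resolve_right hu0
    rw [h8, hW4] at h3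
    omega
  · obtain ⟨t, ht, hut⟩ : ∃ t ∈ W, polar Q u t ≠ 0 := by
      by_contra hcon
      push Not at hcon
      exact huW (hperp u hcon)
    have h3 := enlarge hG H.hF H.hpF hX hu hu0 hfix (C := Submodule.span F {u}) fun w hw hwX => by
      have h4 := key w hw hwX t ht
      rw [Submodule.mem_span_singleton]
      refine ⟨(polar Q u t)⁻¹ * (polar Q w t + Q w * polar Q u t), ?_⟩
      have h5 : polar Q u t • w = (polar Q w t + Q w * polar Q u t) • u := by
        rw [add_smul, ← sub_eq_zero]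
        rw [← h4]
        abel
      rw [mul_smul, ← h5, smul_smul, inv_mul_cancel₀ hut, one_smul]
    rw [h8, finrank_span_singleton hu0] at h3
    omega

end Cfsg.Agent.H14.PD
end

-- part: H898/PDThree
section
/-!
# S4246, row of `POmega^+_8(q)`: the `3`-part of the centralisers of the elements of order dividing `q^2 + 1` (helper898)

`v_three_cent` : `y` of prime order `l`, `q` of order `4` modulo `l`, `p ≠ 3`: `v_3 |C(y)| ≤ 2 v_3(q^4 - 1)`.
-/

set_option autoImplicit false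
set_option linter.unusedSectionVars false

namespace Cfsg.Agent.H898.PDThree

open QuadraticMap Module Cfsg.Agent.LieClassical.OrthCore Cfsg.Agent.LieClassical.OrthTrans
open Cfsg.Agent.ClassicalGeometry.OrthSemi Cfsg.Agent.ClassicalGeometry.OrthAut1
open Cfsg.Agent.H200.LinFix Cfsg.Agent.H200.RowOrth Cfsg.Agent.H14.PD
open Cfsg.Agent.H160.PD (v v_mono v_eq_zero v_pos)
open Cfsg.Agent.Classification.InvCentU.FiveLib (card_dvd_of_free)

variable {F V : Type*} [Field F] [AddCommGroup V] [Module F V] {Q : QuadraticForm F V}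

variable {p f : ℕ} [Finite V] [Finite F]

theorem en_inj_zero (g : ↥(E Q)) {w : V} (h : en Q g w = 0) : w = 0 := by
  have h1 : en Q g⁻¹ (en Q g w) = w := by
    rw [← Module.End.mul_apply, ← map_mul, inv_mul_cancel, map_one, Module.End.one_apply]
  rw [← h1, h, map_zero]

/-- the action on the nonzero vectors of an invariant subspace -/
@[reducible] noncomputable def actW (G : Subgroup ↥(E Q)) (W : Submodule F V) (hW : ∀ g ∈ G, ∀ w ∈ W, en Q g w ∈ W) :
    MulAction ↥G {v : V // v ∈ W ∧ v ≠ 0} where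
  smul g v := ⟨en Q g v, hW g g.2 v v.2.1, fun h => v.2.2 (en_inj_zero _ h)⟩
  one_smul v := Subtype.ext (by
    change en Q ((1 : ↥G) : ↥(E Q)) v = v
    rw [OneMemClass.coe_one, map_one]; rfl)
  mul_smul g h v := Subtype.ext (by
    change en Q ((g * h : ↥G) : ↥(E Q)) v = en Q g (en Q h v)
    rw [Subgroup.coe_mul, map_mul]; rfl)

/-- **Free action on `R z`.** -/
theorem card_dvd_R {G : Subgroup ↥(E Q)} {z : ↥(E Q)} {k : ℕ} (hkF : (k : F) ≠ 0) (hz : z ^ k = 1)
    (hcomm : ∀ s ∈ G, s * z = z * s) (hK : ∀ s ∈ G, s ≠ 1 → K (en Q s) ≤ K (en Q z)) :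
    Nat.card G ∣ Nat.card F ^ finrank F (R (en Q z)) - 1 := by
  have hfinE : Finite ↥(E Q) := finite_E
  have hR : ∀ g ∈ G, ∀ w ∈ R (en Q z), en Q g w ∈ R (en Q z) := fun g hg w hw =>
    R_inv (by rw [← map_mul, ← map_mul, hcomm g hg]) hw
  have hz' : en Q z ^ k = 1 := by rw [← map_pow, hz, map_one]
  let _ : MulAction ↥G {v : V // v ∈ R (en Q z) ∧ v ≠ 0} := actW G _ hR
  rw [← card_ne_zero]
  refine card_dvd_of_free fun g w hg => ?_
  by_contra hg1
  have h1 : en Q g (w : V) = w := congrArg Subtype.val hg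
  have h2 : (w : V) ∈ K (en Q z) := hK g g.2 (fun h => hg1 (Subtype.ext h)) (mem_K.2 h1)
  exact w.2.2 (eq_zero_of_mem hz' hkF (mem_K.1 h2) w.2.1)

/-- **A small orbit.** -/
theorem exists_small {G : Subgroup ↥(E Q)} {t : ℕ} (ht : t.Prime) (hG : IsPGroup t G) {W : Submodule F V}
    (hW : ∀ g ∈ G, ∀ w ∈ W, en Q g w ∈ W) (hW0 : 1 ≤ finrank F W) {m : ℕ}
    (hm : (Nat.card F ^ finrank F W - 1).factorization t ≤ m) :
    ∃ w ∈ W, w ≠ 0 ∧ ∃ G' : Subgroup ↥(E Q), (∀ g, g ∈ G' ↔ g ∈ G ∧ en Q g w = w) ∧ v t G ≤ v t G' + m := by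
  have hfinE : Finite ↥(E Q) := finite_E
  have htF := Fact.mk ht
  let _ : MulAction ↥G {v : V // v ∈ W ∧ v ≠ 0} := actW G W hW
  have hq : 1 < Nat.card F := Finite.one_lt_card
  have hne : Nat.card F ^ finrank F W - 1 ≠ 0 := by
    have := Nat.one_lt_pow (n := finrank F W) (by omega) hq
    omega
  obtain ⟨x, hx⟩ : ∃ x : {v : V // v ∈ W ∧ v ≠ 0}, ¬ t ^ (m + 1) ∣ (MulAction.stabilizer ↥G x).index := by
    by_contra hcon
    push Not at hcon
    have h1 : t ^ (m + 1) ∣ Nat.card {v : V // v ∈ W ∧ v ≠ 0} := by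
      classical
      have := Fintype.ofFinite (Quotient (MulAction.orbitRel ↥G {v : V // v ∈ W ∧ v ≠ 0}))
      rw [Nat.card_congr (MulAction.selfEquivSigmaOrbits ↥G {v : V // v ∈ W ∧ v ≠ 0}), Nat.card_sigma]
      refine Finset.dvd_sum fun ω _ => ?_
      have h1 := hcon ω.out
      rwa [MulAction.index_stabilizer, ← Nat.card_coe_set_eq] at h1
    rw [card_ne_zero, ht.pow_dvd_iff_le_factorization hne] at h1
    omega
  refine ⟨x, x.2.1, x.2.2, (MulAction.stabilizer ↥G x).map G.subtype, fun g => ?_, ?_⟩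
  · constructor
    · rintro ⟨g, hg, rfl⟩
      exact ⟨g.2, congrArg Subtype.val hg⟩
    · rintro ⟨hg, hgx⟩
      exact ⟨⟨g, hg⟩, Subtype.ext hgx, rfl⟩
  · set L := MulAction.stabilizer ↥G x with hL
    have h1 : Nat.card (L.map G.subtype) = Nat.card L :=
      (Nat.card_congr (L.equivMapOfInjective _ G.subtype_injective).toEquiv).symm
    obtain ⟨a, ha⟩ := IsPGroup.iff_card.1 hG
    have h2 : L.index ∣ t ^ a := ha ▸ L.index_dvd_card
    obtain ⟨b, -, hb⟩ := (Nat.dvd_prime_pow ht).1 h2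
    have h3 : b ≤ m := by
      by_contra h4
      apply hx
      rw [hb]
      exact Nat.pow_dvd_pow t (by omega)
    simp only [v]
    simp only [h1, ← L.card_mul_index, hb, Nat.factorization_mul Nat.card_pos.ne' (pow_ne_zero _ ht.ne_zero),
      Finsupp.add_apply, ht.factorization_pow, Finsupp.single_eq_same]
    omega

/-- a central element of order `t` -/
theorem exists_central {G : Subgroup ↥(E Q)} {t : ℕ} (ht : t.Prime) (hG : IsPGroup t G) (h1 : G ≠ ⊥) :
    ∃ z ∈ G, z ^ t = 1 ∧ z ≠ 1 ∧ ∀ s ∈ G, s * z = z * s := by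
  have hfinE : Finite ↥(E Q) := finite_E
  have htF := Fact.mk ht
  have hn : Nontrivial G := (Subgroup.nontrivial_iff_ne_bot G).2 h1
  have hc := hG.center_nontrivial
  have hcp : IsPGroup t ↥(Subgroup.center G) := hG.to_subgroup _
  have hd : t ∣ Nat.card ↥(Subgroup.center G) := by
    obtain ⟨k, hk⟩ := IsPGroup.iff_card.1 hcp
    have h1 : 1 < Nat.card ↥(Subgroup.center G) := Finite.one_lt_card_iff_nontrivial.2 hc
    rw [hk] at h1 ⊢
    apply dvd_pow_self
    rintro rfl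
    simp at h1
  obtain ⟨⟨⟨z, hzG⟩, hz⟩, hzo⟩ := exists_prime_orderOf_dvd_card' t hd
  rw [Subgroup.orderOf_mk, Subgroup.orderOf_mk] at hzo
  refine ⟨z, hzG, by rw [← hzo, pow_orderOf_eq_one], ?_, fun s hs => ?_⟩
  · rintro rfl
    rw [orderOf_one] at hzo
    exact ht.one_lt.ne hzo
  · exact congrArg Subtype.val (Subgroup.mem_center_iff.1 hz ⟨s, hs⟩)

theorem v_le_of_dvd {G : Subgroup ↥(E Q)} {t N M : ℕ} (hM : M ≠ 0) (h : Nat.card G ∣ N) (hNM : N ∣ M) :
    v t G ≤ M.factorization t := by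
  have hfinE : Finite ↥(E Q) := finite_E
  exact (Nat.factorization_le_iff_dvd Nat.card_pos.ne' hM).2 (h.trans hNM) t

/-- the stabiliser of a vector, `R y = V` -/
theorem stab_eight {l : ℕ} [hl : Fact l.Prime] (hlF : (l : F) ≠ 0) (hd : Ordd l (Nat.card F) 4)
    (hV : finrank F V = 8) {y : ↥(E Q)} (hy : y ^ l = 1) (hRy : finrank F (R (en Q y)) = 8)
    {t : ℕ} (ht : t.Prime) (htF : (t : F) ≠ 0) {G : Subgroup ↥(E Q)} (hG : IsPGroup t G)
    (hGy : ∀ g ∈ G, g * y = y * g) {w : V} (hw : w ≠ 0) (hGw : ∀ g ∈ G, en Q g w = w) :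
    v t G ≤ (Nat.card F ^ 4 - 1).factorization t := by
  have hfinE : Finite ↥(E Q) := finite_E
  have hfd : FiniteDimensional F V := inferInstance
  by_cases h1 : G = ⊥
  · subst h1
    rw [v, Subgroup.card_bot, Nat.factorization_one]
    exact Nat.zero_le _
  obtain ⟨z, hzG, hz, hz1, hcomm⟩ := exists_central ht hG h1
  have hy' : en Q y ^ l = 1 := by rw [← map_pow, hy, map_one]
  have hRtop : R (en Q y) = ⊤ := Submodule.eq_top_of_finrank_eq (by rw [hRy, hV])
  have hdim : ∀ U : Submodule F V, (∀ u ∈ U, en Q y u ∈ U) → 4 ∣ finrank F U := fun U hU =>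
    dvd_finrank_le hd hlF hy' (by rw [hRtop]; exact le_top) hU
  have hKinv : ∀ s ∈ G, ∀ u ∈ K (en Q s), en Q y u ∈ K (en Q s) := fun s hs u hu =>
    K_inv (by rw [← map_mul, ← map_mul, hGy s hs]) hu
  have hK4 : ∀ s ∈ G, s ≠ 1 → finrank F (K (en Q s)) = 4 := by
    intro s hs hs1
    obtain ⟨c, hc⟩ := hdim _ (hKinv s hs)
    have h2 : finrank F (K (en Q s)) ≠ 0 := by
      intro h0
      rw [Submodule.finrank_eq_zero] at h0
      have h3 : w ∈ K (en Q s) := mem_K.2 (hGw s hs)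
      rw [h0] at h3
      exact hw h3
    have h3 := finrank_add (en Q s)
    have h4 : finrank F (R (en Q s)) ≠ 0 := by
      intro h0
      rw [Submodule.finrank_eq_zero, R_eq_bot] at h0
      exact hs1 (en_injective (h0.trans (map_one _).symm))
    omega
  have hKz := hK4 z hzG hz1
  have hKs : ∀ s ∈ G, s ≠ 1 → K (en Q s) ≤ K (en Q z) := by
    intro s hs hs1
    obtain ⟨c, hc⟩ := hdim (K (en Q s) ⊓ K (en Q z)) fun u hu => ⟨hKinv s hs u hu.1, hKinv z hzG u hu.2⟩
    have h2 : finrank F ↥(K (en Q s) ⊓ K (en Q z)) ≠ 0 := by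
      intro h0
      rw [Submodule.finrank_eq_zero] at h0
      have h3 : w ∈ K (en Q s) ⊓ K (en Q z) := ⟨mem_K.2 (hGw s hs), mem_K.2 (hGw z hzG)⟩
      rw [h0] at h3
      exact hw h3
    have h3 : K (en Q s) ⊓ K (en Q z) = K (en Q s) := by
      apply Submodule.eq_of_le_of_finrank_le inf_le_left
      rw [hK4 s hs hs1]
      omega
    rw [← h3]
    exact inf_le_right
  have h5 := card_dvd_R htF hz hcomm hKs
  have h6 := finrank_add (en Q z)
  rw [show finrank F (R (en Q z)) = 4 by omega] at h5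
  have hq : 1 < Nat.card F := Finite.one_lt_card
  have h7 : Nat.card F ^ 4 - 1 ≠ 0 := by
    have := Nat.one_lt_pow (n := 4) (by omega) hq
    omega
  exact v_le_of_dvd h7 h5 dvd_rfl

/-- the stabiliser of a vector of `K y`, trivial on `R y`, `dim K y = 4` -/
theorem stab_four (hG' : Good Q) (hpar : ∀ g : ↥(E Q), Even (finrank F (R (en Q g)))) {l : ℕ} (hlF : (l : F) ≠ 0)
    (hV : finrank F V = 8) {y : ↥(E Q)} (hy : y ^ l = 1) (hRy : finrank F (R (en Q y)) = 4)
    {t : ℕ} (ht : t.Prime) (ht2 : t ≠ 2) (htF : (t : F) ≠ 0) {G : Subgroup ↥(E Q)} (hG : IsPGroup t G)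
    (hGy : ∀ g ∈ G, g * y = y * g) (hGR : ∀ g ∈ G, ∀ u ∈ R (en Q y), en Q g u = u) {w : V} (hw : w ≠ 0)
    (hwK : w ∈ K (en Q y)) (hGw : ∀ g ∈ G, en Q g w = w) :
    v t G ≤ (Nat.card F ^ 4 - 1).factorization t := by
  have hfinE : Finite ↥(E Q) := finite_E
  have hfd : FiniteDimensional F V := inferInstance
  by_cases h1 : G = ⊥
  · subst h1
    rw [v, Subgroup.card_bot, Nat.factorization_one]
    exact Nat.zero_le _
  obtain ⟨z, hzG, hz, hz1, hcomm⟩ := exists_central ht hG h1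
  have hy' : en Q y ^ l = 1 := by rw [← map_pow, hy, map_one]
  have hz' : en Q z ^ t = 1 := by rw [← map_pow, hz, map_one]
  have hKy : finrank F (K (en Q y)) = 4 := by
    have := finrank_add (en Q y)
    omega
  -- orders of the elements of `G`
  have hord : ∀ s ∈ G, ∃ k, s ^ t ^ k = 1 := fun s hs => by
    obtain ⟨k, hk⟩ := hG ⟨s, hs⟩
    exact ⟨k, congrArg Subtype.val hk⟩
  have hcast : ∀ k : ℕ, ((t ^ k : ℕ) : F) ≠ 0 := fun k => by
    rw [Nat.cast_pow]
    exact pow_ne_zero _ htF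
  -- dimensions
  have hdim : ∀ s ∈ G, s ≠ 1 → finrank F (R (en Q s)) = 2 := by
    intro s hs hs1
    obtain ⟨k, hk⟩ := hord s hs
    have hk' : en Q s ^ t ^ k = 1 := by rw [← map_pow, hk, map_one]
    have h2 : R (en Q s) ≤ K (en Q y) := R_le_K hlF hy (hGy s hs) (hGR s hs)
    have h3 : finrank F (R (en Q s)) ≠ 0 := by
      intro h0
      rw [Submodule.finrank_eq_zero, R_eq_bot] at h0
      exact hs1 (en_injective (h0.trans (map_one _).symm))
    have h4 : finrank F (R (en Q s)) ≤ 4 := by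
      rw [← hKy]
      exact Submodule.finrank_mono h2
    have h5 : finrank F (R (en Q s)) ≠ 4 := by
      intro h6
      have h7 : R (en Q s) = K (en Q y) := Submodule.eq_of_le_of_finrank_le h2 (by rw [h6, hKy])
      rw [← h7] at hwK
      exact hw (eq_zero_of_mem hk' (hcast k) (hGw s hs) hwK)
    obtain ⟨c, hc⟩ := hpar s
    omega
  have hRz := hdim z hzG hz1
  have hRzK : R (en Q z) ≤ K (en Q y) := R_le_K hlF hy (hGy z hzG) (hGR z hzG)
  -- `X = K z ∩ K y`
  set X := K (en Q z) ⊓ K (en Q y) with hX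
  have hXR : ∀ u ∈ K (en Q y), ∃ a ∈ X, ∃ b ∈ R (en Q z), u = a + b := by
    intro u hu
    obtain ⟨a, ha, b, hb, rfl⟩ := decomp hz' htF u
    refine ⟨a, ⟨ha, ?_⟩, b, hb, rfl⟩
    have h2 := Submodule.sub_mem _ hu (hRzK hb)
    rwa [add_sub_cancel_right] at h2
  have hXdim : finrank F X ≤ 2 := by
    have h2 : X ⊓ R (en Q z) = ⊥ := by
      rw [eq_bot_iff]
      intro u hu
      exact eq_zero_of_mem hz' htF (mem_K.1 hu.1.1) hu.2
    have h3 := Submodule.finrank_sup_add_finrank_inf_eq X (R (en Q z))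
    ((conv at h3 => enter [@2, @6]; rw [h2]); simp only [finrank_bot] at h3; rewrite [add_zero, hRz] at h3)
    have h4 : finrank F ↥(X ⊔ R (en Q z)) ≤ finrank F (K (en Q y)) :=
      Submodule.finrank_mono (sup_le inf_le_right hRzK)
    omega
  have hsX : ∀ s ∈ G, ∀ u ∈ X, en Q s u ∈ X := fun s hs u hu =>
    ⟨K_inv (by rw [← map_mul, ← map_mul, hcomm s hs]) hu.1, K_inv (by rw [← map_mul, ← map_mul, hGy s hs]) hu.2⟩
  have hwX : w ∈ X := ⟨mem_K.2 (hGw z hzG), hwK⟩
  -- the elements of `G` are trivial on `X`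
  have htriv : ∀ s ∈ G, ∀ u ∈ X, en Q s u = u := by
    intro s hs u hu
    by_contra hne
    obtain ⟨k, hk⟩ := hord s hs
    have hk' : en Q s ^ t ^ k = 1 := by rw [← map_pow, hk, map_one]
    set r := en Q s u - u with hr
    have hr0 : r ≠ 0 := sub_ne_zero.2 hne
    have hrR : r ∈ R (en Q s) := sub_mem_R _ _
    have hrX : r ∈ X := Submodule.sub_mem _ (hsX s hs u hu) hu
    have hwR : ∀ a : F, a • w ∈ R (en Q s) → a = 0 := fun a ha => by
      by_contra ha0
      have h2 : w ∈ R (en Q s) := by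
        have h3 := (R (en Q s)).smul_mem a⁻¹ ha
        rwa [smul_smul, inv_mul_cancel₀ ha0, one_smul] at h3
      exact hw (eq_zero_of_mem hk' (hcast k) (hGw s hs) h2)
    -- `X = ⟨w, r⟩`
    have hspan : ∀ x ∈ X, ∃ a b : F, x = a • w + b • r := by
      have hli : LinearIndependent F ![w, r] := by
        rw [LinearIndependent.pair_iff]
        intro a b hab
        have h2 : a • w ∈ R (en Q s) := by
          rw [eq_neg_of_add_eq_zero_left hab, ← neg_smul]
          exact Submodule.smul_mem _ _ hrR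
        have h3 := hwR a h2
        rw [h3, zero_smul, zero_add] at hab
        exact ⟨h3, (smul_eq_zero.1 hab).resolve_right hr0⟩
      have h4 : Submodule.span F (Set.range ![w, r]) = X := by
        apply Submodule.eq_of_le_of_finrank_le
        · rw [Submodule.span_le]
          rintro _ ⟨i, rfl⟩
          fin_cases i
          · exact hwX
          · exact hrX
        · rw [finrank_span_eq_card hli, Fintype.card_fin]
          exact hXdim
      intro x hx
      rw [← h4, Matrix.range_cons, Matrix.range_cons, Matrix.range_empty, Set.union_empty,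
        Set.singleton_union, Submodule.mem_span_pair] at hx
      obtain ⟨a, b, hab⟩ := hx
      exact ⟨a, b, hab.symm⟩
    obtain ⟨a, c, hac⟩ := hspan _ (hsX s hs r hrX)
    have ha : a = 0 := by
      apply hwR
      have h2 : a • w = en Q s r - c • r := by rw [hac, add_sub_cancel_right]
      rw [h2]
      exact Submodule.sub_mem _ (R_inv rfl hrR) (Submodule.smul_mem _ _ hrR)
    rw [ha, zero_smul, zero_add] at hac
    have hc1 : c ≠ 1 := by
      rintro rfl
      rw [one_smul] at hac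
      exact hr0 (eq_zero_of_mem hk' (hcast k) hac hrR)
    have hQr : Q r = 0 := by
      by_contra hQr
      exact hc1 (smul_eq_one (g := s) hr0 hQr hac ht ht2 hk)
    have hrw : polarBilin Q w r = 0 := by
      have h2 := isom_en s w r
      rw [hGw s hs, hac, map_smul, smul_eq_mul] at h2
      have h3 : (c - 1) * polarBilin Q w r = 0 := by rw [sub_mul, h2, one_mul, sub_self]
      exact (mul_eq_zero.1 h3).resolve_left (sub_ne_zero.2 hc1)
    have hrr : polarBilin Q r r = 0 := by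
      rw [polarBilin_apply_apply]
      exact polar_self_of_sing hQr
    apply hr0
    apply polar_nondeg hG'
    intro x
    obtain ⟨a, ha, b, hb, rfl⟩ := decomp hy' hlF x
    obtain ⟨a1, ha1, a2, ha2, rfl⟩ := hXR a ha
    obtain ⟨e1, e2, rfl⟩ := hspan a1 ha1
    have g1 : polarBilin Q b r = 0 := perp_RK (isom_en y) hb hrX.2
    have g2 : polarBilin Q a2 r = 0 := perp_RK (isom_en z) ha2 hrX.1
    simp only [map_add, map_smul, LinearMap.add_apply, LinearMap.smul_apply, g1, g2, hrw, hrr, smul_zero, add_zero]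
  have hKs : ∀ s ∈ G, s ≠ 1 → K (en Q s) ≤ K (en Q z) := by
    intro s hs hs1
    have h2 : K (en Q z) ≤ K (en Q s) := by
      intro x hx
      obtain ⟨a, ha, b, hb, rfl⟩ := decomp hy' hlF x
      have h3 : a ∈ K (en Q z) := by
        have h4 := Submodule.sub_mem _ hx (mem_K.2 (hGR z hzG b hb))
        rwa [add_sub_cancel_right] at h4
      rw [mem_K, map_add, hGR s hs b hb, htriv s hs a ⟨h3, ha⟩]
    have h5 : K (en Q z) = K (en Q s) := by
      apply Submodule.eq_of_le_of_finrank_le h2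
      have h3 := finrank_add (en Q s)
      have h4 := finrank_add (en Q z)
      rw [hdim s hs hs1] at h3
      omega
    rw [h5]
  have h5 := card_dvd_R htF hz hcomm hKs
  rw [hRz] at h5
  have hq : 1 < Nat.card F := Finite.one_lt_card
  have h7 : Nat.card F ^ 4 - 1 ≠ 0 := by
    have := Nat.one_lt_pow (n := 4) (by omega) hq
    omega
  refine v_le_of_dvd h7 h5 ?_
  have h8 := Nat.sub_dvd_pow_sub_pow (Nat.card F ^ 2) 1 2
  rwa [one_pow, ← pow_mul] at h8

theorem not_three_dvd_add {q : ℕ} (k : ℕ) : ¬ 3 ∣ q ^ (2 * k) + 1 := by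
  intro h
  have h1 : q % 3 = 0 ∨ q % 3 = 1 ∨ q % 3 = 2 := by omega
  rw [pow_mul] at h
  have h2 : q ^ 2 % 3 = 0 ∨ q ^ 2 % 3 = 1 := by
    rcases h1 with h1 | h1 | h1 <;> simp [Nat.pow_mod, h1]
  rw [Nat.dvd_iff_mod_eq_zero, Nat.add_mod, Nat.pow_mod] at h
  rcases h2 with h2 | h2
  · rw [h2] at h
    rcases k with _ | k
    · simp at h
    · simp at h
  · rw [h2] at h
    simp at h

/-- **The `3`-part of `C(y)`.** -/
theorem v_three_cent_aux (H : Plus Q 4 p f) (hp3 : p ≠ 3) {l : ℕ} (hl : l.Prime) (hl2 : l ≠ 2) (hlp : (l : F) ≠ 0)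
    (hd : Ordd l (Nat.card F) 4) {y : ↥(E Q)} (hy : y ^ l = 1)
    (hy1 : y ≠ 1) : v 3 (Subgroup.centralizer ({y} : Set ↥(E Q))) ≤ 2 * (Nat.card F ^ 4 - 1).factorization 3 := by
  have hfinE : Finite ↥(E Q) := finite_E
  have hfd : FiniteDimensional F V := inferInstance
  have hlF := Fact.mk hl
  have h3F := Fact.mk Nat.prime_three
  have hV : finrank F V = 8 := by rw [H.hV]
  have hy' : en Q y ^ l = 1 := by rw [← map_pow, hy, map_one]
  have h3c : ((3 : ℕ) : F) ≠ 0 := by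
    have hc : CharP F p := (CharP.charP_iff_prime_eq_zero H.prime).2 H.hpF
    exact natCast_ne_of_not_dvd H.prime fun h => hp3 ((Nat.prime_dvd_prime_iff_eq Nat.prime_three H.prime).1 h).symm
  have hq : 1 < Nat.card F := Finite.one_lt_card
  have h7 : Nat.card F ^ 4 - 1 ≠ 0 := by
    have := Nat.one_lt_pow (n := 4) (by omega) hq
    omega
  obtain ⟨c, hc⟩ := dvd_finrank_R hd hlp hy'
  have h1 : finrank F (R (en Q y)) ≠ 0 := by
    intro h0
    rw [Submodule.finrank_eq_zero, R_eq_bot] at h0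
    exact hy1 (en_injective (h0.trans (map_one _).symm))
  have h2 := finrank_add (en Q y)
  have h3 : finrank F (R (en Q y)) = 4 ∨ finrank F (R (en Q y)) = 8 := by omega
  rcases h3 with h3 | h3
  · have hirr : Irr (en Q y) (R (en Q y)) :=
      irr_of_lt hd hlp hy' le_rfl (fun w hw => R_inv rfl hw) (by rw [h3]; norm_num)
    obtain ⟨L, hL, hLi⟩ := Cfsg.Agent.H311.PD.exists_kernel H.good hl2 hlp hy hy1 hirr (m := 2) h3
    have h4 := v_le_of_index (show Nat.card F ^ 2 + 1 ≠ 0 from Nat.succ_ne_zero _) hLi 3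
    have h5 : (Nat.card F ^ 2 + 1).factorization 3 = 0 :=
      Nat.factorization_eq_zero_of_not_dvd (not_three_dvd_add 1)
    obtain ⟨T, hTL, hTp, hTv⟩ := Cfsg.Agent.H311.PD.exists_psub (p := 3) L
    set G := T.map (Subgroup.centralizer ({y} : Set ↥(E Q))).subtype with hGdef
    have hG : IsPGroup 3 G := hTp.map _
    have hGv : v 3 G = v 3 T := by
      simp only [v]
      rw [(Nat.card_congr (T.equivMapOfInjective _ (Subgroup.subtype_injective _)).toEquiv).symm]
    have hGy : ∀ g ∈ G, g * y = y * g := by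
      rintro _ ⟨g, -, rfl⟩
      exact Subgroup.mem_centralizer_singleton_iff.1 g.2
    have hGR : ∀ g ∈ G, ∀ u ∈ R (en Q y), en Q g u = u := by
      rintro _ ⟨g, hg, rfl⟩ u hu
      exact (hL g).1 (hTL hg) u hu
    obtain ⟨w, hwK, hw0, G', hG', hv⟩ := exists_small Nat.prime_three hG (W := K (en Q y))
      (fun g hg w hw => K_inv (by rw [← map_mul, ← map_mul, hGy g hg]) hw) (by omega)
      (show (Nat.card F ^ finrank F (K (en Q y)) - 1).factorization 3 ≤ (Nat.card F ^ 4 - 1).factorization 3 by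
        rw [show finrank F (K (en Q y)) = 4 by omega])
    have hG'G : G' ≤ G := fun g hg => ((hG' g).1 hg).1
    have h6 := stab_four H.good H.hpar hlp hV hy h3 Nat.prime_three (by norm_num) h3c (hG.to_le hG'G)
      (fun g hg => hGy g (hG'G hg)) (fun g hg => hGR g (hG'G hg)) hw0 hwK (fun g hg => ((hG' g).1 hg).2)
    omega
  · obtain ⟨T, hTC, hTp, hTv⟩ := Cfsg.Agent.H311.PD.exists_psub (p := 3) (Subgroup.centralizer ({y} : Set ↥(E Q)))
    have hGy : ∀ g ∈ T, g * y = y * g := fun g hg => Subgroup.mem_centralizer_singleton_iff.1 (hTC hg)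
    have h8 : (Nat.card F ^ 8 - 1).factorization 3 = (Nat.card F ^ 4 - 1).factorization 3 := by
      have h9 : Nat.card F ^ 8 - 1 = (Nat.card F ^ 4 + 1) * (Nat.card F ^ 4 - 1) := by
        rw [show 8 = 4 * 2 from rfl, pow_mul]
        exact Nat.sq_sub_sq (Nat.card F ^ 4) 1
      rw [h9, Nat.factorization_mul (Nat.succ_ne_zero _) h7, Finsupp.add_apply,
        Nat.factorization_eq_zero_of_not_dvd (not_three_dvd_add 2), zero_add]
    obtain ⟨w, -, hw0, G', hG', hv⟩ := exists_small Nat.prime_three hTp (W := ⊤)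
      (fun _ _ _ _ => Submodule.mem_top) (by rw [finrank_top]; omega)
      (show (Nat.card F ^ finrank F (⊤ : Submodule F V) - 1).factorization 3 ≤ (Nat.card F ^ 4 - 1).factorization 3 by
        rw [finrank_top, hV, h8])
    have hG'G : G' ≤ T := fun g hg => ((hG' g).1 hg).1
    have h6 := stab_eight hlp hd hV hy h3 Nat.prime_three h3c (hTp.to_le hG'G)
      (fun g hg => hGy g (hG'G hg)) hw0 (fun g hg => ((hG' g).1 hg).2)
    omega

/-- **The `3`-part of `C(y)`.** -/
theorem v_three_cent (H : Plus Q 4 p f) (hp3 : p ≠ 3) {l : ℕ} (hl : l.Prime) (hl2 : l ≠ 2)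
    (hd : Ordd l (Nat.card F) 4) (hld : l ∣ Nat.card F ^ 4 - 1) {y : ↥(E Q)} (hy : y ^ l = 1) (hy1 : y ≠ 1) :
    v 3 (Subgroup.centralizer ({y} : Set ↥(E Q))) ≤ 2 * (Nat.card F ^ 4 - 1).factorization 3 := by
  refine v_three_cent_aux H hp3 hl hl2 ?_ hd hy hy1
  have := Fact.mk hl
  have hc : CharP F p := (CharP.charP_iff_prime_eq_zero H.prime).2 H.hpF
  refine natCast_ne_of_not_dvd H.prime fun h => ?_
  have h1 := (Nat.prime_dvd_prime_iff_eq hl H.prime).1 h
  subst h1
  rw [H.hF] at hld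
  exact Cfsg.Agent.H311.PD.not_dvd_pow_sub_one H.prime H.hf (by norm_num) hld

end Cfsg.Agent.H898.PDThree
end

-- part: H311/PD/Four
section
/-!
# S4246, row of `POmega^+_8(q)`: Sylow `l`-subgroups, `l ∣ q² + 1`, normalise no `p`-subgroup (helper311)
-/

set_option autoImplicit false
set_option linter.unusedSectionVars false

namespace Cfsg.Agent.H311.PD

open QuadraticMap Module Cfsg.Agent.LieClassical.OrthCore Cfsg.Agent.LieClassical.OrthTrans
open Cfsg.Agent.ClassicalGeometry.OrthSemi Cfsg.Agent.ClassicalGeometry.OrthAut1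
open Cfsg.Agent.H200.LinFix Cfsg.Agent.H200.RowOrth Cfsg.Agent.H568
open Cfsg.Agent.H160.PD (v v_mono v_eq_zero v_pos Fx mem_Fx NoOdd noOdd_of)
open Cfsg.Agent.H14.PD

/-- an orbit whose length is not divisible by `m` -/
theorem exists_orbit {T : Type*} [Group T] {S : Type*} [Finite S] [MulAction T S] {m : ℕ} (h : ¬ m ∣ Nat.card S) :
    ∃ w : S, ¬ m ∣ Nat.card (MulAction.orbit T w) := by
  classical
  by_contra hcon
  push Not at hcon
  apply h
  have := Fintype.ofFinite (Quotient (MulAction.orbitRel T S))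
  rw [Nat.card_congr (MulAction.selfEquivSigmaOrbits T S), Nat.card_sigma]
  exact Finset.dvd_sum fun ω _ => hcon _

variable {F V : Type*} [Field F] [AddCommGroup V] [Module F V] {Q : QuadraticForm F V}

/-- the action on an invariant subspace -/
@[instance_reducible]
noncomputable def actOn {T : Subgroup ↥(E Q)} {W : Submodule F V} (hW : ∀ g ∈ T, ∀ w ∈ W, en Q g w ∈ W) : MulAction T W where
  smul g w := ⟨en Q (g : ↥(E Q)) w, hW g g.2 w w.2⟩
  one_smul _ := Subtype.ext rfl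
  mul_smul _ _ _ := Subtype.ext rfl

section

variable [Finite V] {l : ℕ} [hl : Fact l.Prime]

theorem card_modEq_fixS {T : Subgroup ↥(E Q)} (hT : IsPGroup l T) {W : Submodule F V}
    (hW : ∀ g ∈ T, ∀ w ∈ W, en Q g w ∈ W) : Nat.card W ≡ Nat.card ↥(W ⊓ fixS T) [MOD l] := by
  let act : MulAction T W := actOn hW
  have h1 := hT.card_modEq_card_fixedPoints W
  have h2 : Nat.card (MulAction.fixedPoints T W) = Nat.card ↥(W ⊓ fixS T) := by
    refine Nat.card_congr
      { toFun := fun w => ⟨(w : W), (w : W).2, fun g hg => congrArg Subtype.val (w.2 ⟨g, hg⟩)⟩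
        invFun := fun w => ⟨⟨w, w.2.1⟩, fun g => Subtype.ext (w.2.2 g g.2)⟩
        left_inv := fun w => rfl
        right_inv := fun w => rfl }
  rwa [h2] at h1

theorem pow_modEq_fixS [Finite F] {T : Subgroup ↥(E Q)} (hT : IsPGroup l T) {W : Submodule F V}
    (hW : ∀ g ∈ T, ∀ w ∈ W, en Q g w ∈ W) :
    Nat.card F ^ finrank F W ≡ Nat.card F ^ finrank F ↥(W ⊓ fixS T) [MOD l] := by
  have hfd : FiniteDimensional F V := inferInstance
  rw [← Module.natCard_eq_pow_finrank (K := F) (V := W), ← Module.natCard_eq_pow_finrank (K := F) (V := ↥(W ⊓ fixS T))]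
  exact card_modEq_fixS hT hW

theorem pow_mod [Finite F] (hld : l ∣ Nat.card F ^ 4 - 1) {k : ℕ} (hk : 4 ∣ k) : Nat.card F ^ k ≡ 1 [MOD l] := by
  obtain ⟨c, rfl⟩ := hk
  have h1 : 1 ≤ Nat.card F ^ 4 := Nat.one_le_pow _ _ Nat.card_pos
  have h2 : Nat.card F ^ 4 ≡ 1 [MOD l] := ((Nat.modEq_iff_dvd' h1).2 hld).symm
  rw [pow_mul]
  simpa using h2.pow c

theorem dvd_of_mod [Finite F] (hd : Ordd l (Nat.card F) 4) {k : ℕ} (hk : Nat.card F ^ k ≡ 1 [MOD l]) : 4 ∣ k :=
  hd k ((Nat.modEq_iff_dvd' (Nat.one_le_pow _ _ Nat.card_pos)).1 hk.symm)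

/-- **No fixed vectors.** -/
theorem no_fix_four [Finite F] {p f : ℕ} (H : Plus Q 4 p f) (hd : Ordd l (Nat.card F) 4) (hld : l ∣ Nat.card F ^ 4 - 1)
    {T : Subgroup ↥(E Q)} (hT : IsPGroup l T) (hTv : v l T = v l ↥(E Q)) : fixS T = ⊥ := by
  classical
  have hfd : FiniteDimensional F V := inferInstance
  have hfinE : Finite ↥(E Q) := finite_E
  have hq2 : 2 ≤ Nat.card F := Finite.one_lt_card
  by_contra hne
  have h1 := pow_modEq_fixS hT (W := ⊤) (fun _ _ _ _ => trivial)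
  rw [top_inf_eq, finrank_top, H.hV] at h1
  have h2 := dvd_of_mod hd (h1.symm.trans (pow_mod hld (by norm_num)))
  have h3 : finrank F (fixS T) ≠ 0 := fun h => hne (Submodule.finrank_eq_zero.1 h)
  obtain ⟨u, hu, hu0, hQu⟩ := Cfsg.Agent.LieClassical.OrthFinite.exists_sing_mem (Q := Q) (fixS T) (by omega)
  have h4 := card_stabilizer H.good hQu hu0
  rw [H.hsing, Nat.add_sub_cancel] at h4
  let S : Subgroup ↥(E Q) :=
    { carrier := {g | (g : V ≃ₗ[F] V) u = u}
      mul_mem' := fun {a b} ha hb => by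
        change (a : V ≃ₗ[F] V) ((b : V ≃ₗ[F] V) u) = u
        rw [show (b : V ≃ₗ[F] V) u = u from hb]
        exact ha
      one_mem' := rfl
      inv_mem' := fun {a} ha => by
        change (a : V ≃ₗ[F] V).symm u = u
        rw [LinearEquiv.symm_apply_eq]
        exact (show (a : V ≃ₗ[F] V) u = u from ha).symm }
  have hTS : T ≤ S := fun g hg => hu g hg
  change (Nat.card F ^ 4 - 1) * (Nat.card F ^ (4 - 1) + 1) * Nat.card S = _ at h4
  have h5 : v l T ≤ v l S := v_mono hTS l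
  have h6 : Nat.card F ^ 4 - 1 ≠ 0 := by
    have := Nat.one_lt_pow (n := 4) (by norm_num) (show 1 < Nat.card F by omega)
    omega
  have h7 : v l ↥(E Q) = (Nat.card F ^ 4 - 1).factorization l + (Nat.card F ^ (4 - 1) + 1).factorization l +
      v l S := by
    rw [v, ← h4, Nat.factorization_mul (Nat.mul_ne_zero h6 (Nat.succ_ne_zero _)) Nat.card_pos.ne',
      Nat.factorization_mul h6 (Nat.succ_ne_zero _)]
    rfl
  have h8 := hl.out.factorization_pos_of_dvd h6 hld
  omega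

/-- **The radical of the fixed space is zero.** -/
theorem no_rad_four [Finite F] {p f : ℕ} (H : Plus Q 4 p f) (hlF : (l : F) ≠ 0)
    (hd : Ordd l (Nat.card F) 4) (hld : l ∣ Nat.card F ^ 4 - 1)
    (hv : 2 * (Nat.card F ^ 4 - 1).factorization l ≤ v l ↥(E Q))
    {T : Subgroup ↥(E Q)} (hT : IsPGroup l T) (hTv : v l T = v l ↥(E Q)) {Z : Submodule F V}
    (hTZ : ∀ g ∈ T, ∀ w ∈ Z, en Q g w ∈ Z) (hti : ∀ u ∈ Z, ∀ w ∈ Z, polarBilin Q u w = 0) : Z = ⊥ := by
  classical
  have hfd : FiniteDimensional F V := inferInstance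
  have hfinE : Finite ↥(E Q) := finite_E
  have hq2 : 2 ≤ Nat.card F := Finite.one_lt_card
  by_contra hne
  have h0 := no_fix_four H hd hld hT hTv
  have hZ0 : finrank F Z ≠ 0 := fun h => hne (Submodule.finrank_eq_zero.1 h)
  have h1 := pow_modEq_fixS hT hTZ
  rw [h0, inf_bot_eq, finrank_bot, pow_zero] at h1
  have h2 := dvd_of_mod hd h1
  have h3 := finrank_ti_le (Q := Q) (U := ⊤) (W := Z) (fun w _ h => polar_nondeg H.good w fun u => h u trivial)
    le_top hti
  rw [finrank_top, H.hV] at h3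
  have hZ4 : finrank F Z = 4 := by omega
  have h6 : Nat.card F ^ 4 - 1 ≠ 0 := by
    have := Nat.one_lt_pow (n := 4) (by norm_num) (show 1 < Nat.card F by omega)
    omega
  set a := (Nat.card F ^ 4 - 1).factorization l with ha
  have ha1 : 1 ≤ a := hl.out.factorization_pos_of_dvd h6 hld
  -- the action on the nonzero vectors
  let act : MulAction T {w : Z // w ≠ 0} :=
    { smul := fun g w => ⟨⟨en Q (g : ↥(E Q)) (w : Z), hTZ g g.2 _ (w : Z).2⟩, fun h => w.2 (Subtype.ext (by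
        have h1 : en Q (g : ↥(E Q)) ((w : Z) : V) = 0 := congrArg Subtype.val h
        rw [en_apply] at h1
        exact (LinearEquiv.map_eq_zero_iff _).1 h1))⟩
      one_smul := fun w => rfl
      mul_smul := fun g h w => rfl }
  have hcard : Nat.card {w : Z // w ≠ 0} = Nat.card F ^ 4 - 1 := by
    have e1 : Nat.card {w : Z // w ≠ 0} = (({0}ᶜ : Set Z)).ncard := rfl
    rw [e1, Set.ncard_compl, Set.ncard_singleton, Module.natCard_eq_pow_finrank (K := F), hZ4]
  have hnd : ¬ l ^ (a + 1) ∣ Nat.card {w : Z // w ≠ 0} := by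
    rw [hcard]
    intro h
    have := (hl.out.pow_dvd_iff_le_factorization h6).1 h
    omega
  obtain ⟨w, hw⟩ := exists_orbit (T := T) hnd
  -- the stabiliser is not trivial
  have h7 : Nat.card (MulAction.orbit T w) * Nat.card (MulAction.stabilizer T w) = Nat.card T := by
    have h8 := (MulAction.stabilizer T w).index_mul_card
    rwa [MulAction.index_stabilizer] at h8
  obtain ⟨m, hm⟩ := IsPGroup.iff_card.1 hT
  have hvm : v l T = m := by rw [v, hm, hl.out.factorization_pow, Finsupp.single_eq_same]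
  have h9 : l ∣ Nat.card (MulAction.stabilizer T w) := by
    by_contra hcop
    apply hw
    have h10 : l ^ (a + 1) ∣ Nat.card T := by
      rw [hm]
      exact pow_dvd_pow l (by omega)
    rw [← h7] at h10
    exact (Nat.Coprime.pow_left _ ((Nat.Prime.coprime_iff_not_dvd hl.out).2 hcop)).dvd_of_dvd_mul_right h10
  obtain ⟨⟨⟨s, hsT⟩, hsw⟩, hs⟩ := exists_prime_orderOf_dvd_card' l h9
  rw [Subgroup.orderOf_mk, Subgroup.orderOf_mk] at hs
  have hsl : s ^ l = 1 := by rw [← hs]; exact pow_orderOf_eq_one s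
  have hs1 : s ≠ 1 := by
    rintro rfl
    rw [orderOf_one] at hs
    exact hl.out.one_lt.ne hs
  have hsw' : en Q s ((w : Z) : V) = ((w : Z) : V) :=
    congrArg (fun x : {w : Z // w ≠ 0} => ((x : Z) : V)) hsw
  have hs' : en Q s ^ l = 1 := by rw [← map_pow, hsl, map_one]
  have hw0 : ((w : Z) : V) ≠ 0 := fun h => w.2 (Subtype.ext h)
  -- `Z ≤ K s`
  have hZs : ∀ u ∈ Z, en Q s u ∈ Z := fun u hu => hTZ s hsT u hu
  have hRZ : R (en Q s) ⊓ Z = ⊥ := by
    have h10 := dvd_finrank_le hd hlF hs' (W := R (en Q s) ⊓ Z) inf_le_left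
      (fun u hu => ⟨R_inv rfl hu.1, hZs u hu.2⟩)
    have h11 : finrank F ↥(R (en Q s) ⊓ Z) < finrank F Z := by
      refine Submodule.finrank_lt_finrank_of_lt (lt_of_le_of_ne inf_le_right fun h => hw0 ?_)
      have h12 : ((w : Z) : V) ∈ R (en Q s) ⊓ Z := by rw [h]; exact (w : Z).2
      exact eq_zero_of_mem hs' hlF hsw' h12.1
    exact Submodule.finrank_eq_zero.1 (by omega)
  have hZK : Z ≤ K (en Q s) := by
    intro u hu
    obtain ⟨k, hk, r, hr, rfl⟩ := decomp_mem hs' hlF hZs hu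
    rw [hRZ, Submodule.mem_bot] at hr
    rw [hr, add_zero]
    exact hk.1
  have h12 := finrank_ti_le (Q := Q) (U := K (en Q s)) (W := Z)
    (fun u hu h => nondeg_K (isom_en s) (polar_nondeg H.good) hs' hlF hu h) hZK hti
  have h13 := finrank_add (en Q s)
  have h14 := dvd_finrank_R hd hlF hs'
  have h15 : finrank F (R (en Q s)) ≠ 0 := by
    intro h
    rw [Submodule.finrank_eq_zero, R_eq_bot] at h
    exact hs1 (en_injective (h.trans (map_one _).symm))
  rw [H.hV] at h13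
  omega

end

/-- **Sylow `l`-subgroups, `l ∣ q² + 1`, normalise no nontrivial `p`-subgroup.** -/
theorem no_norm_four [Finite V] [Finite F] {p f : ℕ} (H : Plus Q 4 p f) {l : ℕ} (hl : l.Prime) (_hl2 : l ≠ 2)
    (hd : Ordd l (Nat.card F) 4) (hld : l ∣ Nat.card F ^ 4 - 1)
    (hv : 2 * (Nat.card F ^ 4 - 1).factorization l ≤ v l ↥(E Q)) {T X : Subgroup ↥(E Q)} (hT : IsPGroup l T)
    (hTv : v l T = v l ↥(E Q)) (hX : IsPGroup p X) (hTX : ∀ g ∈ T, ∀ x ∈ X, g * x * g⁻¹ ∈ X) : X = ⊥ := by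
  classical
  have hfd : FiniteDimensional F V := inferInstance
  have := Fact.mk hl
  have := Fact.mk H.prime
  have hlF := H.cast_ne hl (e := 4) (by norm_num) hld
  set Z := fixS X with hZ
  set Z' := LinearMap.BilinForm.orthogonal (polarBilin Q) Z with hZ'
  have hmem : ∀ w, w ∈ Z' ↔ ∀ u ∈ Z, polarBilin Q u w = 0 := fun w => LinearMap.BilinForm.mem_orthogonal_iff
  have hTZ : ∀ g ∈ T, ∀ w ∈ Z, en Q g w ∈ Z := by
    intro g hg w hw
    refine fixS_inv (fun x hx => ?_) hw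
    have h1 := hTX g⁻¹ (inv_mem hg) x hx
    rwa [inv_inv] at h1
  have hTZ' : ∀ g ∈ T, ∀ w ∈ Z', en Q g w ∈ Z' := by
    intro g hg w hw
    rw [hmem] at hw ⊢
    intro u hu
    have h1 := isom_en g (en Q g⁻¹ u) w
    simp only [← Module.End.mul_apply, ← map_mul, mul_inv_cancel, map_one, Module.End.one_apply] at h1
    rw [h1]
    exact hw _ (hTZ _ (inv_mem hg) u hu)
  have hXZ' : ∀ g ∈ X, ∀ w ∈ Z', en Q g w ∈ Z' := by
    intro g hg w hw
    rw [hmem] at hw ⊢
    intro u hu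
    have h1 := isom_en g u w
    rw [hu g hg] at h1
    rw [h1]
    exact hw u hu
  have hrad := no_rad_four H hlF hd hld hv hT hTv (Z := Z ⊓ Z') (fun g hg w hw => ⟨hTZ g hg w hw.1, hTZ' g hg w hw.2⟩)
    (fun u hu w hw => (hmem w).1 hw.2 u hu.1)
  have hZbot : Z' = ⊥ := by
    by_contra hne
    obtain ⟨w, hw, hw0, hwX⟩ := exists_fix H.hpF hX hne hXZ'
    apply hw0
    have : w ∈ Z ⊓ Z' := ⟨hwX, hw⟩
    rwa [hrad, Submodule.mem_bot] at this
  have h1 := finrank_perp H.good Z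
  rw [← hZ', hZbot, finrank_bot, zero_add] at h1
  have h2 : Z = ⊤ := Submodule.eq_top_of_finrank_eq h1
  rw [Subgroup.eq_bot_iff_forall]
  intro x hx
  apply en_injective (Q := Q)
  rw [map_one]
  refine LinearMap.ext fun w => ?_
  have h3 : w ∈ Z := h2 ▸ trivial
  exact h3 x hx

end Cfsg.Agent.H311.PD
end

-- part: H14/PD/RowPlus
section
/-!
# S4246, row of `POmega^+_{2n}(q)` (helper14, with helper311 and helper898)
-/

set_option autoImplicit false
set_option linter.unusedSectionVars false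

namespace Cfsg.Agent.H14.PD

open QuadraticMap Module Cfsg Cfsg.Agent.LieClassical.OrthCore Cfsg.Agent.LieClassical.OrthTrans
open Cfsg.Agent.ClassicalGeometry.OrthSemi Cfsg.Agent.ClassicalGeometry.OrthAut1 Cfsg.Agent.AutOrth.Main
open Cfsg.Agent.H200.LinFix Cfsg.Agent.H568 Cfsg.Agent.LieClassical.QuadForms Cfsg.Agent.H208.Dict
open Cfsg.Agent.H200.RowOrth hiding row_oplus
open Cfsg.Agent.H160.PD (v v_mono v_eq_zero v_pos Fx mem_Fx out Row)

section

variable {F V : Type*} [Field F] [AddCommGroup V] [Module F V] {Q : QuadraticForm F V} [Finite V] [Finite F] {p f : ℕ}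

theorem PlusC.triHyp (H : PlusC Q 4 p f) : TriHyp Q H.good p f where
  h9 := fun _ hb => H.toPlus.v_Fx_triality hb
  norm := fun l h4 T X hT hTv hX hTX => by
    have hl := Fact.mk h4.prime
    refine Cfsg.Agent.H311.PD.no_norm_four H.toPlus h4.prime h4.ne h4.ord h4.dvd ?_ hT hTv hX hTX
    rw [← v_P H.good (Or.inl h4.ne), H.v_four h4]
  three := fun hp3 l h4 y hy hy1 =>
    Cfsg.Agent.H898.PDThree.v_three_cent H.toPlus hp3 h4.prime h4.ne h4.ord h4.dvd hy hy1

end

universe u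

variable {K : Type u} [Group K] [Finite K] [IsSimpleGroup K]

/-- **Row of `POmega^+_{2n}(q)`.** -/
theorem row_oplus (h : IsPOmegaPlus K) : _root_.Cfsg.Agent.H160.PD.Row K := by
  obtain ⟨F, _, _, m, hm, ⟨e⟩⟩ := h
  have hs : IsSimpleGroup (POmega F (quadFormPlus m F)) := (e.isSimpleGroup_congr).1 inferInstance
  refine Cfsg.Agent.H160.PD.Row.congr e ?_
  rw [← coe_plusForm] at hs ⊢
  have hG : Good (plusForm m F) := good_plus (by omega)
  have hsP := isSimple_P hG hs
  refine Cfsg.Agent.H160.PD.Row.congr (pe hG) ?_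
  have hfinE : Finite ↥(E (plusForm m F)) := finite_E
  have hfinP : Finite (P (plusForm m F)) := inferInstance
  have hZ : Subgroup.center (P (plusForm m F)) = ⊥ := Cfsg.Agent.H160.PD.center_eq_bot (not_comm_P hG)
  obtain ⟨p, hp⟩ := CharP.exists F
  obtain ⟨⟨f, hf⟩, hprime, hcard⟩ := FiniteField.card F p
  have H : PlusC (plusForm m F) m p f := plusC hm hprime hf hcard (CharP.cast_eq_zero F p)
  rcases Nat.lt_or_ge 4 m with hm5 | hm4
  · have hall := all_plus (F := F) (m := m) (by omega)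
    rw [← coe_plusForm] at hall
    exact H.row hZ (by omega) (exists_gam' hG hall)
  obtain rfl : m = 4 := le_antisymm hm4 hm
  obtain ⟨Γ, hΓ, hind⟩ := Cfsg.Agent.ClassicalGeometry.TrialityFinal.exists_index_three hG
    fun α x hx hx0 => by
      rcases Cfsg.Agent.ClassicalGeometry.OrthAut3.dichotomy hG (by simp) α hx hx0 with h | h
      · exact Or.inl h
      · exact Or.inr h.2
  refine H.row_four hZ H.triHyp hΓ hind fun b hb => exists_gam_one hG ?_
  rw [ind_iff_pt hG (by simp)]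
  have h1 : tr hG ((trE hG).symm b) = b := by rw [← trE_apply, MulEquiv.apply_symm_apply]
  rw [h1]
  exact (hΓ b).1 hb

end Cfsg.Agent.H14.PD
end
end

-- part: H160/PD/AsmCl
section
prune_inst 0x700031045402100000040590410002812000000000000000008402040a09000200020000020000001000008000000028110000200000000000000400000001208880000000000000060001000000000000000000000000000000000000000000000000000
set_option linter.all false
open scoped Cfsg.Agent.FastGrp

-- part: H889/PDL/Aut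
section
/-!
# S4246, row `PSL_n(q)` (helper889): automorphisms of odd prime order
-/

set_option autoImplicit false
set_option linter.unusedSectionVars false

namespace Cfsg.Agent.H889.PDL

open Matrix Module Subgroup Cfsg.Agent.H160.PD
open Cfsg.Agent.ClassicalGeometry.AutPSL.Root
open Cfsg.Agent.ClassicalGeometry.AutPSL.Auto
open Cfsg.Agent.ClassicalGeometry.AutPSL.Main
open Cfsg.Agent.CpAut.Psl
open Cfsg.Agent.H999.RowPSL (ker_pr Prim finrank_fixed irred cj_eq_iff)

section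

variable {F : Type*} [Field F] [Fintype F] {n : ℕ} {r m : ℕ}

/-- An automorphism of odd prime order fixing an element of order `r` is linear. -/
theorem lin_of_fix {p f k : ℕ} (hn : 2 ≤ n) (hp : p.Prime) (hF : Nat.card F = p ^ f) (hR : RP p f n k r)
    (hrz : ¬ r ∣ zz n F) {b : MulAut (PS n F)} (hb : (orderOf b).Prime) (hb2 : orderOf b ≠ 2) {x : PS n F}
    (hx : orderOf x = r) (hbx : b x = x) :
    ∃ A : GL (Fin n) F, b = lift (cj A) ∧ ∃ g : Matrix.SpecialLinearGroup (Fin n) F, pr g = x ∧ orderOf g = r ∧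
      (A : Matrix (Fin n) (Fin n) F) * g.1 = g.1 * (A : Matrix (Fin n) (Fin n) F) := by
  have : Nontrivial (Fin n) := Fin.nontrivial_iff_two_le.2 hn
  obtain ⟨A, σ, rfl⟩ := exists_of_odd (α := b) hn (hb.odd_of_ne_two hb2) (pow_orderOf_eq_one b)
  obtain ⟨g, hgx, hg, hfix⟩ := exists_cent hR.pr hrz hx
  have hgr : g ^ r = 1 := orderOf_dvd_iff_pow_eq_one.1 (dvd_of_eq hg)
  have h1 := hfix _ hbx
  have h2 : (A : Matrix (Fin n) (Fin n) F) * g.1.map σ = g.1 * (A : Matrix (Fin n) (Fin n) F) := by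
    have h3 : cj A (fld σ g) = g := h1
    have h4 := congrArg Subtype.val h3
    rw [coe_cj] at h4
    have h5 : ((fld σ g : Matrix.SpecialLinearGroup (Fin n) F) : Matrix (Fin n) (Fin n) F) = g.1.map σ := rfl
    rw [h5] at h4
    calc (A : Matrix (Fin n) (Fin n) F) * g.1.map σ
        = ((A : Matrix (Fin n) (Fin n) F) * g.1.map σ * ((A⁻¹ : GL (Fin n) F) : Matrix (Fin n) (Fin n) F)) *
            (A : Matrix (Fin n) (Fin n) F) := by
          rw [Matrix.mul_assoc _ _ (A : Matrix (Fin n) (Fin n) F), ← Units.val_mul, inv_mul_cancel, Units.val_one,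
            Matrix.mul_one]
      _ = _ := by rw [h4]
  have hσ : σ = 1 := by
    by_contra hσ1
    obtain ⟨ho, -⟩ := exists_conj hb (pow_orderOf_eq_one _) hσ1
    obtain ⟨E, hE, hfE⟩ := hR.low
    have h3 : 3 ≤ orderOf (lift (cj A * fld σ)) := by
      have := hb.two_le
      omega
    apply hσ1
    refine H568.FieldFix.sigma_eq_one (l := r) (r := p) (f := f) (E := E) hR.pr ?_ hb ?_ hp hF hE ?_ h2 ?_ ?_
    · rw [hF]
      intro hd
      exact hR.ndp (hR.pr.dvd_of_dvd_pow hd)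
    · exact orderOf_dvd_iff_pow_eq_one.1 (dvd_of_eq ho)
    · rw [Fintype.card_fin]
      exact lt_of_lt_of_le hfE (Nat.mul_le_mul_right _ h3)
    · have h4 := congrArg Subtype.val hgr
      rwa [Matrix.SpecialLinearGroup.coe_pow] at h4
    · intro h4
      have h5 : g = 1 := Subtype.ext h4
      rw [h5, orderOf_one] at hg
      exact hR.pr.one_lt.ne hg
  subst hσ
  refine ⟨A, by rw [map_one, mul_one], g, hgx, hg, ?_⟩
  have h3 : g.1.map (1 : F ≃+* F) = g.1 := by
    ext i j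
    rfl
  rwa [h3] at h2

/-- the fixed points of a linear automorphism -/
theorem mem_fx_cj {A : GL (Fin n) F} {y : Matrix.SpecialLinearGroup (Fin n) F} (hy : y ∈ Fx (cj A)) :
    (A : Matrix (Fin n) (Fin n) F) * y.1 = y.1 * (A : Matrix (Fin n) (Fin n) F) := cj_eq_iff hy

/-- the action of a matrix -/
theorem not_scalar {A : GL (Fin n) F} (h : (orderOf (lift (cj A))).Prime) {c : F}
    (hc : (A : Matrix (Fin n) (Fin n) F) = scalar (Fin n) c) : False := by
  rw [cj_eq_one_of_scalar hc.symm, map_one, orderOf_one] at h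
  exact Nat.not_prime_one h

end

end Cfsg.Agent.H889.PDL
end

-- part: H889/PDL/Semi
section
/-!
# S4246, row `PSL_n(q)` (helper889): `p`-groups commuting with a semisimple element
-/

set_option autoImplicit false
set_option linter.unusedSectionVars false

namespace Cfsg.Agent.H889.PDL

open Matrix Module Polynomial

section Gl

variable {K : Type*} [Field K] [Finite K] {V : Type*} [AddCommGroup V] [Module K V] [Module.Finite K V]
  {P : Type*} [Group P] [Finite P]

/-- `p`-groups of linear maps, `p` the characteristic -/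
theorem card_le_gl {p : ℕ} [hp : Fact p.Prime] (hP : IsPGroup p P) (hpK : p ∣ Nat.card K)
    (ρ : P →* Module.End K V) (hρ : Function.Injective ρ) :
    Nat.card P ≤ Nat.card K ^ (finrank K V * (finrank K V - 1) / 2) := by
  classical
  have : Fintype K := Fintype.ofFinite K
  let b := Module.finBasis K V
  let e : Module.End K V ≃ₐ[K] Matrix (Fin (finrank K V)) (Fin (finrank K V)) K := LinearMap.toMatrixAlgEquiv b
  let u : P →* GL (Fin (finrank K V)) K := ((e : Module.End K V →* _).comp ρ).toHomUnits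
  have hu : Function.Injective u := by
    intro x y hxy
    have h1 := congrArg Units.val hxy
    exact hρ (e.injective h1)
  have h1 : Nat.card P ∣ Nat.card (GL (Fin (finrank K V)) K) := Subgroup.card_dvd_of_injective u hu
  rw [Matrix.card_GL_field, H953.prod_sub_pow, Finset.sum_range_id] at h1
  obtain ⟨k, hk⟩ := IsPGroup.iff_card.1 hP
  rw [hk] at h1
  have h2 : Nat.Coprime (p ^ k) (∏ j ∈ Finset.Icc 1 (finrank K V), (Fintype.card K ^ j - 1)) := by
    apply Nat.Coprime.pow_left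
    rw [Nat.Prime.coprime_iff_not_dvd hp.1]
    intro h3
    obtain ⟨j, hj, hd⟩ := (Nat.Prime.prime hp.1).exists_mem_finset_dvd h3
    rw [Finset.mem_Icc] at hj
    rw [Nat.card_eq_fintype_card] at hpK
    exact not_dvd_pow_sub hp.1 hpK Fintype.card_pos (by omega) hd
  have h3 := h2.dvd_of_dvd_mul_right h1
  rw [← Nat.card_eq_fintype_card] at h3
  rw [hk]
  exact Nat.le_of_dvd (pow_pos Nat.card_pos _) h3

end Gl

section Homog

variable {F : Type*} [Field F] [Finite F] {V : Type*} [AddCommGroup V] [Module F V] [Module.Finite F V]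
  {P : Type*} [Group P] [Finite P]

/-- the homogeneous case -/
theorem homog {p : ℕ} [hp : Fact p.Prime] (hP : IsPGroup p P) (hpF : p ∣ Nat.card F)
    (ρ : P →* Module.End F V) (hρ : Function.Injective ρ) (f : Module.End F V) (hf : ∀ y, ρ y * f = f * ρ y)
    (hirr : Irreducible (minpoly F f)) (hns : ∀ c : F, f ≠ algebraMap F _ c) :
    Nat.card P ≤ Nat.card F ^ ((finrank F V - 1) * (finrank F V - 2) / 2) := by
  have hfV : Finite V := Module.finite_of_finite F
  have hnt : Nontrivial (Module.End F V) := by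
    by_contra h
    rw [not_nontrivial_iff_subsingleton] at h
    exact hns 0 (Subsingleton.elim _ _)
  set μ := minpoly F f with hμ
  have : Fact (Irreducible μ) := ⟨hirr⟩
  have hmem : ∀ a ∈ Ideal.span {μ}, (aeval f : F[X] →ₐ[F] Module.End F V).toRingHom a = 0 := by
    intro a ha
    rw [Ideal.mem_span_singleton] at ha
    obtain ⟨b, rfl⟩ := ha
    show aeval f (μ * b) = 0
    rw [map_mul, hμ, minpoly.aeval, zero_mul]
  let φ : AdjoinRoot μ →+* Module.End F V := Ideal.Quotient.lift (Ideal.span {μ}) _ hmem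
  have hφ : ∀ a : F[X], φ (AdjoinRoot.mk μ a) = aeval f a := fun a => rfl
  let _ : Module (AdjoinRoot μ) V := Module.compHom V φ
  have hsm : ∀ (k : AdjoinRoot μ) (v : V), k • v = φ k v := fun _ _ => rfl
  have hμ0 : μ ≠ 0 := hirr.ne_zero
  have hfinK : Module.Finite F (AdjoinRoot μ) := (AdjoinRoot.powerBasis hμ0).finite
  have : Finite (AdjoinRoot μ) := Module.finite_of_finite F
  have : Module.Finite (AdjoinRoot μ) V := Module.Finite.of_finite
  -- the representation over the field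
  let ρ' : P →* Module.End (AdjoinRoot μ) V :=
    { toFun := fun y =>
        { toFun := fun v => ρ y v
          map_add' := fun v w => map_add _ v w
          map_smul' := fun k v => by
            obtain ⟨a, rfl⟩ := AdjoinRoot.mk_surjective k
            rw [RingHom.id_apply, hsm, hsm, hφ, ← Module.End.mul_apply, ← Module.End.mul_apply]
            have h1 : Commute (ρ y) (aeval f a) := by
              rw [Polynomial.aeval_eq_sum_range]
              exact Commute.sum_right _ _ _ fun i _ => ((show Commute (ρ y) f from hf y).pow_right i).smul_right _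
            rw [h1.eq] }
      map_one' := by
        refine LinearMap.ext fun v => ?_
        show ρ 1 v = v
        rw [map_one]; rfl
      map_mul' := fun x y => by
        refine LinearMap.ext fun v => ?_
        show ρ (x * y) v = ρ x (ρ y v)
        rw [map_mul]; rfl }
  have hρ' : Function.Injective ρ' := by
    intro x y hxy
    apply hρ
    refine LinearMap.ext fun v => ?_
    exact LinearMap.congr_fun hxy v
  have hQ : Nat.card (AdjoinRoot μ) = Nat.card F ^ μ.natDegree := by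
    rw [Module.natCard_eq_pow_finrank (K := F), (AdjoinRoot.powerBasis hμ0).finrank, AdjoinRoot.powerBasis_dim]
  have hdeg : 2 ≤ μ.natDegree := by
    by_contra hlt
    have h1 : μ.natDegree ≠ 0 := by
      intro h0
      have h2 := hirr.natDegree_pos
      omega
    have h2 : μ.natDegree = 1 := by omega
    have h3 := minpoly.natDegree_eq_one_iff.1 h2
    obtain ⟨c, hc⟩ := h3
    exact hns c hc.symm
  have h1 := card_le_gl hP (by rw [hQ]; exact dvd_pow hpF (by omega)) ρ' hρ'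
  have h2 : Nat.card (AdjoinRoot μ) ^ finrank (AdjoinRoot μ) V = Nat.card F ^ finrank F V := by
    rw [← Module.natCard_eq_pow_finrank, ← Module.natCard_eq_pow_finrank]
  set m := finrank (AdjoinRoot μ) V with hm
  set n := finrank F V with hn
  set d := μ.natDegree with hd
  have hq : 1 < Nat.card F := Finite.one_lt_card
  rw [hQ, ← pow_mul] at h2
  have h3 : d * m = n := Nat.pow_right_injective hq h2
  refine h1.trans ?_
  rw [hQ, ← pow_mul]
  apply Nat.pow_le_pow_right (by omega)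
  -- `d * (m (m - 1) / 2) ≤ (n - 1) (n - 2) / 2`
  rw [Nat.le_div_iff_mul_le (by norm_num)]
  have h4 : m * (m - 1) / 2 * 2 ≤ m * (m - 1) := Nat.div_mul_le_self _ _
  calc d * (m * (m - 1) / 2) * 2 = d * (m * (m - 1) / 2 * 2) := by ring
    _ ≤ d * (m * (m - 1)) := Nat.mul_le_mul_left _ h4
    _ ≤ (n - 1) * (n - 2) := by
      rw [← h3]
      rcases Nat.eq_zero_or_pos m with h0 | h0
      · rw [h0]; simp
      · obtain ⟨x, hx⟩ : ∃ x, m = x + 1 := ⟨m - 1, by omega⟩
        obtain ⟨y, hy⟩ : ∃ y, d = y + 2 := ⟨d - 2, by omega⟩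
        rw [hx, hy]
        have e1 : (y + 2) * (x + 1) - 1 = y * x + 2 * x + y + 1 := by
          have : (y + 2) * (x + 1) = y * x + 2 * x + y + 1 + 1 := by ring
          omega
        have e2 : (y + 2) * (x + 1) - 2 = y * x + 2 * x + y := by
          have : (y + 2) * (x + 1) = y * x + 2 * x + y + 2 := by ring
          (clear * - this; omega)
        rw [e1, e2, Nat.add_sub_cancel]
        nlinarith only [Nat.zero_le (y * x), Nat.zero_le (y * x * x)]

/-- the decomposable case -/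
theorem split {p : ℕ} [hp : Fact p.Prime] (hP : IsPGroup p P) (hpF : p ∣ Nat.card F)
    (ρ : P →* Module.End F V) (hρ : Function.Injective ρ) (V₁ V₂ : Submodule F V) (h1 : V₁ ≠ ⊥) (h2 : V₂ ≠ ⊥)
    (hinf : V₁ ⊓ V₂ = ⊥) (hsup : V₁ ⊔ V₂ = ⊤) (i1 : ∀ y, ∀ v ∈ V₁, ρ y v ∈ V₁) (i2 : ∀ y, ∀ v ∈ V₂, ρ y v ∈ V₂) :
    Nat.card P ≤ Nat.card F ^ ((finrank F V - 1) * (finrank F V - 2) / 2) := by
  have hfV : Finite V := Module.finite_of_finite F
  -- restriction to `V₁`
  let ρ₁ : P →* Module.End F V₁ :=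
    { toFun := fun y => (ρ y).restrict (i1 y)
      map_one' := by
        refine LinearMap.ext fun v => Subtype.ext ?_
        show ρ 1 (v : V) = v
        rw [map_one]; rfl
      map_mul' := fun x y => by
        refine LinearMap.ext fun v => Subtype.ext ?_
        show ρ (x * y) (v : V) = ρ x (ρ y (v : V))
        rw [map_mul]; rfl }
  let u := ρ₁.toHomUnits
  -- the image
  have hfr : Finite u.range := Finite.of_surjective u.rangeRestrict u.rangeRestrict_surjective
  have hr : IsPGroup p u.range := hP.of_surjective u.rangeRestrict u.rangeRestrict_surjective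
  have c1 := card_le_gl (K := F) (V := V₁) hr hpF ((Units.coeHom _).comp u.range.subtype)
    (fun x y hxy => Subtype.ext (Units.ext hxy))
  -- the kernel
  let ρ₂ : u.ker →* Module.End F V₂ :=
    { toFun := fun y => (ρ (y : P)).restrict (i2 y)
      map_one' := by
        refine LinearMap.ext fun v => Subtype.ext ?_
        show ρ 1 (v : V) = v
        rw [map_one]; rfl
      map_mul' := fun x y => by
        refine LinearMap.ext fun v => Subtype.ext ?_
        show ρ ((x : P) * (y : P)) (v : V) = ρ x (ρ y (v : V))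
        rw [map_mul]; rfl }
  have hρ₂ : Function.Injective ρ₂ := by
    rw [injective_iff_map_eq_one]
    rintro ⟨y, hy⟩ h0
    apply Subtype.ext
    apply hρ
    have h3 : ∀ v ∈ V₁, ρ y v = v := by
      intro v hv
      have h4 : ρ₁ y = 1 := congrArg Units.val (MonoidHom.mem_ker.1 hy)
      exact congrArg Subtype.val (LinearMap.congr_fun h4 ⟨v, hv⟩)
    have h5 : ∀ v ∈ V₂, ρ y v = v := by
      intro v hv
      exact congrArg Subtype.val (LinearMap.congr_fun h0 ⟨v, hv⟩)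
    show ρ y = ρ 1
    rw [map_one]
    refine LinearMap.ext fun v => ?_
    have hv : v ∈ V₁ ⊔ V₂ := hsup ▸ Submodule.mem_top
    obtain ⟨a, ha, b, hb, rfl⟩ := Submodule.mem_sup.1 hv
    rw [map_add, h3 a ha, h5 b hb]
    rfl
  have c2 := card_le_gl (K := F) (V := V₂) (hP.to_subgroup u.ker) hpF ρ₂ hρ₂
  have c3 : Nat.card P = Nat.card u.ker * Nat.card u.range := by
    rw [← Subgroup.card_mul_index u.ker, Subgroup.index_ker]
  have c4 := Submodule.finrank_sup_add_finrank_inf_eq V₁ V₂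
  rw [hsup, hinf, finrank_bot, add_zero, finrank_top] at c4
  have d1 : 1 ≤ finrank F V₁ := Nat.pos_of_ne_zero fun h => h1 (Submodule.finrank_eq_zero.1 h)
  have d2 : 1 ≤ finrank F V₂ := Nat.pos_of_ne_zero fun h => h2 (Submodule.finrank_eq_zero.1 h)
  rw [c3]
  refine (Nat.mul_le_mul c2 c1).trans ?_
  rw [← pow_add]
  apply Nat.pow_le_pow_right Nat.card_pos
  rw [add_comm]
  exact tri_le c4.symm d1 d2

/-- **`p`-groups commuting with a non-scalar semisimple map.** -/
theorem semi {p : ℕ} [hp : Fact p.Prime] (hP : IsPGroup p P) (hpF : p ∣ Nat.card F)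
    (ρ : P →* Module.End F V) (hρ : Function.Injective ρ) (f : Module.End F V) (hf : ∀ y, ρ y * f = f * ρ y)
    {t : ℕ} (ht : (t : F) ≠ 0) {c : F} (hc : c ≠ 0) (hft : f ^ t = algebraMap F _ c)
    (hns : ∀ c : F, f ≠ algebraMap F _ c) :
    Nat.card P ≤ Nat.card F ^ ((finrank F V - 1) * (finrank F V - 2) / 2) := by
  by_cases hirr : Irreducible (minpoly F f)
  · exact homog hP hpF ρ hρ f hf hirr hns
  · have hint : IsIntegral F f := Algebra.IsIntegral.isIntegral f
    have hμ0 : minpoly F f ≠ 0 := minpoly.ne_zero hint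
    have hnt : Nontrivial (Module.End F V) := by
      by_contra h
      rw [not_nontrivial_iff_subsingleton] at h
      exact hns 0 (Subsingleton.elim _ _)
    have hnu : ¬ IsUnit (minpoly F f) := minpoly.not_isUnit F f
    have hdvd : minpoly F f ∣ X ^ t - C c := by
      apply minpoly.dvd
      rw [map_sub, map_pow, aeval_X, aeval_C, hft, sub_self]
    have hsq : Squarefree (minpoly F f) := by
      refine Squarefree.squarefree_of_dvd hdvd ?_
      apply Polynomial.Separable.squarefree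
      exact Polynomial.separable_X_pow_sub_C c ht hc
    rw [irreducible_iff] at hirr
    push Not at hirr
    obtain ⟨g, h, hgh, hg, hh⟩ := hirr hnu
    rw [hgh] at hsq
    have hcop : IsCoprime g h := (IsRelPrime.of_squarefree_mul hsq).isCoprime
    have hz : aeval f (g * h) = 0 := by rw [← hgh]; exact minpoly.aeval F f
    have hg0 : g ≠ 0 := by rintro rfl; rw [zero_mul] at hgh; exact hμ0 hgh
    have hh0 : h ≠ 0 := by rintro rfl; rw [mul_zero] at hgh; exact hμ0 hgh
    -- a factor whose value is zero makes the other a unit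
    have key : ∀ a b : F[X], minpoly F f = a * b → b ≠ 0 → aeval f b = 0 → IsUnit a := by
      intro a b hab hb0 hb
      have h1 : a * b ∣ 1 * b := by
        rw [← hab, one_mul]
        exact minpoly.dvd F f hb
      exact isUnit_of_dvd_one ((mul_dvd_mul_iff_right hb0).1 h1)
    have hcm : ∀ (a : F[X]) (y : P), Commute (ρ y) (aeval f a) := by
      intro a y
      rw [Polynomial.aeval_eq_sum_range]
      exact Commute.sum_right _ _ _ fun i _ => ((show Commute (ρ y) f from hf y).pow_right i).smul_right _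
    have hinv : ∀ (a : F[X]) (y : P), ∀ v ∈ LinearMap.ker (aeval f a), ρ y v ∈ LinearMap.ker (aeval f a) := by
      intro a y v hv
      rw [LinearMap.mem_ker] at hv ⊢
      rw [← Module.End.mul_apply, ← (hcm a y).eq, Module.End.mul_apply, hv, map_zero]
    have hbot : ∀ a b : F[X], minpoly F f = a * b → b ≠ 0 → ¬ IsUnit a → LinearMap.ker (aeval f a) ≠ ⊥ := by
      intro a b hab hb0 ha h0
      apply ha
      refine key a b hab hb0 ?_
      refine LinearMap.ext fun v => ?_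
      have h1 : aeval f a (aeval f b v) = 0 := by
        rw [← Module.End.mul_apply, ← map_mul, ← hab, minpoly.aeval]
        rfl
      have h2 := LinearMap.ker_eq_bot.1 h0
      exact h2 (by rw [h1]; exact (map_zero _).symm)
    refine split hP hpF ρ hρ (LinearMap.ker (aeval f g)) (LinearMap.ker (aeval f h)) (hbot g h hgh hh0 hg)
      (hbot h g (by rw [hgh, mul_comm]) hg0 hh) ?_ ?_ (hinv g) (hinv h)
    · exact (Polynomial.disjoint_ker_aeval_of_isCoprime f hcop).eq_bot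
    · rw [Polynomial.sup_ker_aeval_eq_ker_aeval_mul_of_coprime f hcop, hz]
      exact LinearMap.ker_zero

end Homog

section Fx

open Subgroup Cfsg.Agent.H160.PD
open Cfsg.Agent.ClassicalGeometry.AutPSL.Root
open Cfsg.Agent.ClassicalGeometry.AutPSL.Auto
open Cfsg.Agent.H999.RowPSL (pow_scalar)

variable {F : Type*} [Field F] [Fintype F] {n : ℕ}

theorem toLin_scalar (c : F) : toLin' (scalar (Fin n) c) = algebraMap F (Module.End F (Fin n → F)) c := by
  refine LinearMap.ext fun v => ?_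
  rw [toLin'_apply, Module.algebraMap_end_apply]
  funext i
  simp [scalar_apply, mulVec_diagonal]

/-- the `p`-part of the fixed points of linear automorphisms of prime order -/
theorem v_fx_le (hn : 2 ≤ n) {p f : ℕ} (hp : p.Prime) (hf : 1 ≤ f) (hF : Nat.card F = p ^ f) {A : GL (Fin n) F}
    (ho : (orderOf (lift (cj A))).Prime) (hop : orderOf (lift (cj A)) ≠ p) :
    v p (Fx (lift (cj A))) ≤ f * ((n - 1) * (n - 2) / 2) := by
  have hpF := Fact.mk hp
  refine (v_fx_lift_le (cj A) p).trans ?_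
  obtain ⟨c, hc0, hc⟩ := pow_scalar hn (pow_orderOf_eq_one (lift (cj A)))
  obtain ⟨P⟩ : Nonempty (Sylow p (Fx (cj A))) := inferInstance
  have hPc : Nat.card P = p ^ v p (Fx (cj A)) := P.card_eq_multiplicity
  let ρ : P →* Module.End F (Fin n → F) := act.comp ((Fx (cj A)).subtype.comp (P : Subgroup (Fx (cj A))).subtype)
  have hρ : Function.Injective ρ :=
    act_injective.comp (Subtype.val_injective.comp Subtype.val_injective)
  have hpd : p ∣ Nat.card F := by rw [hF]; exact dvd_pow_self _ (by omega)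
  have hchar : CharP F p := by
    have hF' : Fintype.card F = p ^ f := by rw [← Nat.card_eq_fintype_card, hF]
    exact charP_of_card_eq_prime_pow hF'
  have h1 := semi P.isPGroup' hpd ρ hρ (toLin' (A : Matrix (Fin n) (Fin n) F)) (fun y => by
      have h2 := mem_fx_cj (y : Fx (cj A)).2
      show toLin' ((y : Fx (cj A)) : Matrix.SpecialLinearGroup (Fin n) F).1 ∘ₗ toLin' (A : Matrix (Fin n) (Fin n) F) =
        toLin' (A : Matrix (Fin n) (Fin n) F) ∘ₗ toLin' ((y : Fx (cj A)) : Matrix.SpecialLinearGroup (Fin n) F).1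
      rw [← toLin'_mul, ← toLin'_mul, h2])
    (t := orderOf (lift (cj A))) (by
      intro h2
      rw [CharP.cast_eq_zero_iff F p] at h2
      exact hop ((Nat.prime_dvd_prime_iff_eq hp ho).1 h2).symm) hc0 (by
      rw [← toLin'_pow, hc, toLin_scalar]) (fun d hd => by
      rw [← toLin_scalar] at hd
      exact not_scalar ho (toLin'.injective hd))
  rw [finrank_fintype_fun_eq_card, Fintype.card_fin, hPc, hF, ← pow_mul] at h1
  exact (Nat.pow_le_pow_iff_right hp.one_lt).1 h1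

end Fx

end Cfsg.Agent.H889.PDL
end

-- part: H889/PDL/Fld
section
/-!
# S4246, row `PSL_n(q)` (helper889): field automorphisms, orders
-/

set_option autoImplicit false
set_option linter.unusedSectionVars false

namespace Cfsg.Agent.H889.PDL

open Matrix Module Subgroup Cfsg.Agent.H160.PD
open Cfsg.Agent.ClassicalGeometry.AutPSL.Root
open Cfsg.Agent.ClassicalGeometry.AutPSL.Auto
open Cfsg.Agent.ClassicalGeometry.AutPSL.Main
open Cfsg.Agent.CpAut.Psl
open Cfsg.Agent.H999.RowPSL (ker_pr not_dvd_center)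

section Num

theorem tri_succ (n : ℕ) (hn : 2 ≤ n) : n * (n - 1) / 2 = (n - 1) * (n - 2) / 2 + (n - 1) := by
  obtain ⟨m, rfl⟩ : ∃ m, n = m + 2 := ⟨n - 2, by omega⟩
  have e1 : m + 2 - 1 = m + 1 := by omega
  have e2 : m + 2 - 2 = m := by omega
  rw [e1, e2]
  have h1 : (m + 2) * (m + 1) = (m + 1) * m + (m + 1) * 2 := by ring
  rw [h1, Nat.add_mul_div_right _ _ (by norm_num)]

theorem tri_two (n : ℕ) (hn : 3 ≤ n) : n - 1 ≤ 2 * ((n - 1) * (n - 2) / 2) := by
  obtain ⟨m, rfl⟩ : ∃ m, n = m + 3 := ⟨n - 3, by omega⟩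
  have e1 : m + 3 - 1 = m + 2 := by omega
  have e2 : m + 3 - 2 = m + 1 := by omega
  rw [e1, e2]
  have h1 : 2 ∣ (m + 2) * (m + 1) := by
    rw [mul_comm]; exact even_iff_two_dvd.1 (Nat.even_mul_succ_self (m + 1))
  rw [Nat.mul_div_cancel' h1]
  nlinarith only []

end Num

section Ord

/-- the characteristic part of `|SL_n(q)|` -/
theorem v_SL {K : Type*} [Field K] [Fintype K] {n p f : ℕ} (hn : 1 ≤ n) (hp : p.Prime) (hf : 1 ≤ f)
    (hK : Nat.card K = p ^ f) : v p (Matrix.SpecialLinearGroup (Fin n) K) = f * (n * (n - 1) / 2) := by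
  have hK' : Fintype.card K = p ^ f := by rw [← Nat.card_eq_fintype_card, hK]
  have hpK : p ∣ Fintype.card K := by rw [hK']; exact dvd_pow_self _ (by omega)
  unfold v
  rw [H953.card_SL n hn, Finset.sum_range_id]
  have h0 : ∏ j ∈ Finset.Icc 2 n, (Fintype.card K ^ j - 1) ≠ 0 := by
    rw [Finset.prod_ne_zero_iff]
    intro j hj
    rw [Finset.mem_Icc] at hj
    have := Nat.one_lt_pow (n := j) (by omega) (Fintype.one_lt_card (α := K))
    omega
  have h1 : (∏ j ∈ Finset.Icc 2 n, (Fintype.card K ^ j - 1)).factorization p = 0 := by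
    apply Nat.factorization_eq_zero_of_not_dvd
    intro h
    obtain ⟨j, hj, hd⟩ := (Nat.Prime.prime hp).exists_mem_finset_dvd h
    rw [Finset.mem_Icc] at hj
    exact not_dvd_pow_sub hp hpK Fintype.card_pos (by omega) hd
  rw [Nat.factorization_mul (pow_ne_zero _ Fintype.card_ne_zero) h0, Finsupp.add_apply, h1, add_zero, hK',
    ← pow_mul, hp.factorization_pow, Finsupp.single_eq_same]

variable {F : Type*} [Field F] [Fintype F] {n : ℕ}

theorem v_S (t : ℕ) : v t (PS n F) + (zz n F).factorization t = v t (Matrix.SpecialLinearGroup (Fin n) F) := by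
  unfold v
  rw [card_S_mul, Nat.factorization_mul Nat.card_pos.ne' zz_pos.ne', Finsupp.add_apply]

/-- the primes dividing the order of the centre divide `q - 1` -/
theorem not_dvd_zz (hn : 1 ≤ n) {l : ℕ} (hl : l.Prime) (h : ¬ l ∣ Nat.card F - 1) : ¬ l ∣ zz n F := by
  rw [Nat.card_eq_fintype_card] at h
  have := not_dvd_center (n := n) hn hl h
  rwa [ker_pr] at this

/-- the primes dividing the order of the centre divide `n` -/
theorem not_dvd_zz' {l : ℕ} (hl : l.Prime) (h : ¬ l ∣ n) : ¬ l ∣ zz n F := by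
  intro hd
  have hfl : Fact l.Prime := ⟨hl⟩
  obtain ⟨c, hc⟩ := exists_prime_orderOf_dvd_card' (G := center (Matrix.SpecialLinearGroup (Fin n) F)) l hd
  apply h
  rw [← hc]
  apply orderOf_dvd_of_pow_eq_one
  obtain ⟨s, hs1, hs⟩ := Matrix.SpecialLinearGroup.mem_center_iff.1 c.2
  rw [Fintype.card_fin] at hs1
  apply Subtype.ext
  apply Subtype.ext
  show ((c : Matrix.SpecialLinearGroup (Fin n) F) ^ n : Matrix.SpecialLinearGroup (Fin n) F).1 = 1
  rw [Matrix.SpecialLinearGroup.coe_pow, ← hs, ← map_pow, hs1, map_one]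

theorem zz_char (hn : 1 ≤ n) {p : ℕ} (hp : p.Prime) (hpF : p ∣ Nat.card F) : ¬ p ∣ zz n F := by
  apply not_dvd_zz hn hp
  have := not_dvd_pow_sub hp hpF Nat.card_pos one_ne_zero
  rwa [pow_one] at this

theorem v_S_char (hn : 1 ≤ n) {p f : ℕ} (hp : p.Prime) (hf : 1 ≤ f) (hF : Nat.card F = p ^ f) :
    v p (PS n F) = f * (n * (n - 1) / 2) := by
  have h1 := v_S (n := n) (F := F) p
  rw [v_SL hn hp hf hF, Nat.factorization_eq_zero_of_not_dvd (zz_char hn hp (by
    rw [hF]; exact dvd_pow_self _ (by omega))), add_zero] at h1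
  exact h1

end Ord

section Field

variable {F : Type*} [Field F] [Fintype F] {n : ℕ}

theorem card_fx_conj {G : Type*} [Group G] (c e : MulAut G) : Nat.card (Fx (c * e * c⁻¹)) = Nat.card (Fx e) := by
  refine Nat.card_congr ⟨fun x => ⟨c⁻¹ x.1, ?_⟩, fun x => ⟨c x.1, ?_⟩, fun x => ?_, fun x => ?_⟩
  · have h1 : c (e (c⁻¹ x.1)) = x.1 := x.2
    show e (c⁻¹ x.1) = c⁻¹ x.1
    have h2 : c⁻¹ (c (e (c⁻¹ x.1))) = e (c⁻¹ x.1) := MulAut.inv_apply_self _ _ _
    rw [← h2, h1]
  · have h1 : e x.1 = x.1 := x.2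
    show c (e (c⁻¹ (c x.1))) = c x.1
    rw [MulAut.inv_apply_self, h1]
  · apply Subtype.ext
    show c (c⁻¹ x.1) = x.1
    exact MulAut.apply_inv_self _ _ _
  · apply Subtype.ext
    show c⁻¹ (c x.1) = x.1
    exact MulAut.inv_apply_self _ _ _

/-- the fixed points of a field automorphism -/
theorem card_fx_fld_dvd (σ : F ≃+* F) :
    Nat.card (Fx (fld σ : MulAut (Matrix.SpecialLinearGroup (Fin n) F))) ∣
      Nat.card (Matrix.SpecialLinearGroup (Fin n) ↥(fixf σ)) := by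
  have hle : Fx (fld σ : MulAut (Matrix.SpecialLinearGroup (Fin n) F)) ≤ (emb σ).range := by
    intro g hg
    obtain ⟨h, hh⟩ := exists_emb (show fld σ g = g from hg)
    exact ⟨h, hh⟩
  exact (card_dvd_of_le hle).trans (Subgroup.card_range_dvd _)

theorem v_fx_fld_le (hn : 3 ≤ n) {p f : ℕ} (hp : p.Prime) (hF : Nat.card F = p ^ f) {A : GL (Fin n) F}
    {σ : F ≃+* F} (hσ : σ ≠ 1) (hb : (orderOf (lift (cj A * fld σ))).Prime)
    (hb2 : orderOf (lift (cj A * fld σ)) ≠ 2) :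
    v p (Fx (lift (cj A * fld σ))) ≤ f * ((n - 1) * (n - 2) / 2) := by
  classical
  have hnt : Nontrivial (Fin n) := Fin.nontrivial_iff_two_le.2 (by omega)
  obtain ⟨ho, B, hB⟩ := exists_conj hb (pow_orderOf_eq_one _) hσ
  refine (v_fx_lift_le _ p).trans ?_
  have h1 : v p (Fx (cj A * fld σ : MulAut (Matrix.SpecialLinearGroup (Fin n) F))) =
      v p (Fx (fld σ : MulAut (Matrix.SpecialLinearGroup (Fin n) F))) := by
    unfold v
    rw [hB, card_fx_conj]
  rw [h1]
  have hft : Fintype ↥(fixf σ) := Fintype.ofFinite _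
  have h2 : v p (Fx (fld σ : MulAut (Matrix.SpecialLinearGroup (Fin n) F))) ≤
      v p (Matrix.SpecialLinearGroup (Fin n) ↥(fixf σ)) :=
    (Nat.factorization_le_iff_dvd Nat.card_pos.ne' Nat.card_pos.ne').2 (card_fx_fld_dvd σ) p
  refine h2.trans ?_
  -- the field
  have hq0 : Nat.card F = Nat.card ↥(fixf σ) ^ orderOf (lift (cj A * fld σ)) := by
    rw [← ho, Nat.card_eq_fintype_card (α := F), CpAutU.Fld.card_fixf rfl]
  have h3 : 3 ≤ orderOf (lift (cj A * fld σ)) := by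
    have := hb.two_le
    omega
  set t := orderOf (lift (cj A * fld σ)) with ht
  have h4 : Nat.card ↥(fixf σ) ∣ p ^ f := by
    rw [← hF, hq0]
    exact dvd_pow_self _ (by omega)
  obtain ⟨f0, -, h5⟩ := (Nat.dvd_prime_pow hp).1 h4
  have hf0 : 1 ≤ f0 := by
    by_contra h
    have h6 : f0 = 0 := by omega
    rw [h6, pow_zero] at h5
    have : 1 < Nat.card ↥(fixf σ) := Finite.one_lt_card
    omega
  rw [hF, h5, ← pow_mul] at hq0
  have h6 : f = f0 * t := Nat.pow_right_injective hp.two_le hq0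
  rw [v_SL (by omega) hp hf0 h5, h6]
  have h7 := tri_succ n (by omega)
  have h8 := tri_two n hn
  set T := (n - 1) * (n - 2) / 2
  rw [h7]
  calc f0 * (T + (n - 1)) ≤ f0 * (3 * T) := Nat.mul_le_mul_left _ (by omega)
    _ ≤ f0 * (t * T) := Nat.mul_le_mul_left _ (Nat.mul_le_mul_right _ h3)
    _ = f0 * t * T := by ring

/-- **The fixed points of all automorphisms of odd prime order different from the characteristic.** -/
theorem v_fx_all (hn : 3 ≤ n) {p f : ℕ} (hp : p.Prime) (hf : 1 ≤ f) (hF : Nat.card F = p ^ f)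
    (b : MulAut (PS n F)) (hb : (orderOf b).Prime) (hb2 : orderOf b ≠ 2) (hbp : orderOf b ≠ p) :
    v p (Fx b) ≤ f * ((n - 1) * (n - 2) / 2) := by
  obtain ⟨A, σ, rfl⟩ := exists_of_odd (α := b) (by omega) (hb.odd_of_ne_two hb2) (pow_orderOf_eq_one b)
  by_cases hσ : σ = 1
  · subst hσ
    rw [map_one, mul_one] at hb hbp ⊢
    exact v_fx_le (by omega) hp hf hF hb hbp
  · exact v_fx_fld_le hn hp hF hσ hb hb2

end Field

end Cfsg.Agent.H889.PDL
end

-- part: H889/PDL/PSub
section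
/-!
# S4246, row `PSL_n(q)` (helper889): `p`-subgroups normalised by an element of order primitive for `q ^ (n - 1) - 1`
-/

set_option autoImplicit false
set_option linter.unusedSectionVars false

namespace Cfsg.Agent.H889.PDL

open Matrix Module Subgroup Cfsg.Agent.H160.PD
open Cfsg.Agent.ClassicalGeometry.AutPSL.Root
open Cfsg.Agent.ClassicalGeometry.AutPSL.Auto
open Cfsg.Agent.LieExceptional.SingerCentralizer
open Cfsg.Agent.H999.RowPSL (ker_pr Prim exists_plift)

/-- fixed vectors of `p`-groups in characteristic `p` -/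
theorem exists_fixed {F : Type*} [Field F] [Finite F] {V : Type*} [AddCommGroup V] [Module F V] [Module.Finite F V]
    [Nontrivial V] {P : Type*} [Group P] [Finite P] {p : ℕ} [hp : Fact p.Prime] (hP : IsPGroup p P)
    (hpF : p ∣ Nat.card F) (ρ : P →* Module.End F V) : ∃ v : V, v ≠ 0 ∧ ∀ y, ρ y v = v := by
  have hV : Finite V := Module.finite_of_finite F
  let act : MulAction P V :=
    { smul := fun y v => ρ y v
      one_smul := fun v => by
        show ρ 1 v = v
        rw [map_one]; rfl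
      mul_smul := fun x y v => by
        show ρ (x * y) v = ρ x (ρ y v)
        rw [map_mul]; rfl }
  have h1 : p ∣ Nat.card V := by
    rw [Module.natCard_eq_pow_finrank (K := F)]
    exact dvd_pow hpF (Module.finrank_pos).ne'
  have h2 : (0 : V) ∈ MulAction.fixedPoints P V := fun y => map_zero (ρ y)
  obtain ⟨b, hb, hb0⟩ := hP.exists_fixed_point_of_prime_dvd_card_of_fixed_point V h1 h2
  exact ⟨b, hb0.symm, fun y => hb y⟩

section

variable {F : Type*} [Field F] [Fintype F] {n : ℕ} {g : Matrix.SpecialLinearGroup (Fin n) F} {r : ℕ}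

/-- the dimensions of the invariant subspaces -/
theorem dims (hn : 3 ≤ n) (ho : orderOf g = r) (h : Prim (Nat.card F) r (n - 1))
    (hord : ∀ j, r ∣ Nat.card F ^ j - 1 → (n - 1) ∣ j) (M : Submodule F (Fin n → F)) (hM : ∀ w ∈ M, act g w ∈ M) :
    (M ⊓ LinearMap.ker (act g - 1) = ⊥ ∧ (finrank F M = 0 ∨ finrank F M = n - 1)) ∨
      (LinearMap.ker (act g - 1) ≤ M ∧ (finrank F M = 1 ∨ finrank F M = n)) := by
  have hfr : Fact r.Prime := ⟨h.pr⟩
  obtain ⟨h1, h2, h3⟩ := disj hn ho h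
  have h4 := card_modEq_fixed (F := F) (act g) (act_pow_order ho) M hM
  have h5 : finrank F ↥(M ⊓ LinearMap.ker (act g - 1)) ≤ 1 := by
    rw [← h1]
    exact Submodule.finrank_mono inf_le_right
  have h6 : finrank F M ≤ n := by
    refine (Submodule.finrank_le _).trans ?_
    rw [finrank_fintype_fun_eq_card, Fintype.card_fin]
  have hmul : ∀ j, j ≤ n → (n - 1) ∣ j → j = 0 ∨ j = n - 1 := by
    rintro j hj ⟨c, rfl⟩
    rcases Nat.lt_or_ge c 2 with hc | hc
    · interval_cases c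
      · left; simp
      · right; simp
    · exfalso
      have : (n - 1) * 2 ≤ (n - 1) * c := Nat.mul_le_mul_left _ hc
      omega
  rcases Nat.eq_zero_or_pos (finrank F ↥(M ⊓ LinearMap.ker (act g - 1))) with h7 | h7
  · left
    refine ⟨Submodule.finrank_eq_zero.1 h7, ?_⟩
    rw [h7, pow_zero] at h4
    exact hmul _ h6 (hord _ ((Nat.modEq_iff_dvd' (Nat.one_le_pow _ _ Nat.card_pos)).1 h4.symm))
  · right
    have h8 : finrank F ↥(M ⊓ LinearMap.ker (act g - 1)) = 1 := by omega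
    have h9 : LinearMap.ker (act g - 1) ≤ M := by
      have h10 : M ⊓ LinearMap.ker (act g - 1) = LinearMap.ker (act g - 1) :=
        Submodule.eq_of_le_of_finrank_eq inf_le_right (by rw [h8, h1])
      rw [← h10]
      exact inf_le_left
    refine ⟨h9, ?_⟩
    have h10 : 1 ≤ finrank F M := by
      rw [← h1]
      exact Submodule.finrank_mono h9
    rw [h8, pow_one] at h4
    -- `q ^ d ≡ q`
    obtain ⟨d, hd⟩ : ∃ d, finrank F M = d + 1 := ⟨finrank F M - 1, by omega⟩
    rw [hd] at h4 ⊢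
    have h11 : r ∣ Nat.card F ^ (d + 1) - Nat.card F :=
      (Nat.modEq_iff_dvd' (by
        calc Nat.card F = Nat.card F ^ 1 := (pow_one _).symm
          _ ≤ Nat.card F ^ (d + 1) := Nat.pow_le_pow_right Nat.card_pos (by omega))).1 h4.symm
    have h12 : Nat.card F ^ (d + 1) - Nat.card F = Nat.card F * (Nat.card F ^ d - 1) := by
      rw [Nat.mul_sub, mul_one, pow_succ, mul_comm]
    rw [h12] at h11
    rcases h.pr.dvd_mul.1 h11 with h13 | h13
    · exact absurd h13 (h.not_dvd_base Nat.card_pos (by omega))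
    · rcases hmul d (by omega) (hord _ h13) with h14 | h14 <;> omega

/-- **`p`-subgroups of `SL_n(q)` normalised by `g`** -/
theorem card_pgroup_le (hn : 3 ≤ n) {p : ℕ} [hp : Fact p.Prime] (hpF : p ∣ Nat.card F) (ho : orderOf g = r)
    (h : Prim (Nat.card F) r (n - 1)) (hord : ∀ j, r ∣ Nat.card F ^ j - 1 → (n - 1) ∣ j)
    (P : Subgroup (Matrix.SpecialLinearGroup (Fin n) F)) (hP : IsPGroup p P)
    (hg : g ∈ normalizer (P : Set (Matrix.SpecialLinearGroup (Fin n) F))) : Nat.card P ≤ Nat.card F ^ (n - 1) := by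
  classical
  have hne : Nonempty (Fin n) := ⟨⟨0, by omega⟩⟩
  have hnt : Nontrivial (Fin n → F) := inferInstance
  have hconj : ∀ y ∈ P, g⁻¹ * y * g ∈ P := fun y hy => by
    have := (mem_normalizer_iff.1 (inv_mem hg) y).1 hy
    rwa [inv_inv] at this
  let W : Submodule F (Fin n → F) :=
    { carrier := {v | ∀ y ∈ P, act y v = v}
      add_mem' := fun ha hb y hy => by rw [map_add, ha y hy, hb y hy]
      zero_mem' := fun y _ => map_zero _
      smul_mem' := fun c v hv y hy => by rw [map_smul, hv y hy] }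
  have hWg : ∀ w ∈ W, act g w ∈ W := by
    intro w hw y hy
    have h1 : y * g = g * (g⁻¹ * y * g) := by group
    rw [← act_mul, h1, act_mul, hw _ (hconj y hy)]
  have hW0 : W ≠ ⊥ := by
    obtain ⟨v, hv0, hv⟩ := exists_fixed hP hpF (act.comp P.subtype)
    intro h0
    have h1 : v ∈ W := fun y hy => hv ⟨y, hy⟩
    rw [h0, Submodule.mem_bot] at h1
    exact hv0 h1
  by_cases hWt : W = ⊤
  · have h1 : P = ⊥ := by
      rw [eq_bot_iff]
      intro y hy
      rw [mem_bot]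
      apply act_injective
      rw [map_one]
      refine LinearMap.ext fun v => ?_
      have hv : v ∈ W := hWt ▸ Submodule.mem_top
      exact hv y hy
    rw [h1, Subgroup.card_bot]
    exact Nat.one_le_pow _ _ Nat.card_pos
  -- the second layer
  let U : Submodule F (Fin n → F) :=
    { carrier := {v | ∀ y ∈ P, act y v - v ∈ W}
      add_mem' := fun {a b} ha hb y hy => by
        have h1 : act y (a + b) - (a + b) = (act y a - a) + (act y b - b) := by rw [map_add]; abel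
        rw [h1]
        exact add_mem (ha y hy) (hb y hy)
      zero_mem' := fun y _ => by rw [map_zero, sub_zero]; exact zero_mem _
      smul_mem' := fun c v hv y hy => by
        rw [map_smul, ← smul_sub]
        exact W.smul_mem c (hv y hy) }
  have hUg : ∀ w ∈ U, act g w ∈ U := by
    intro w hw y hy
    have h1 : y * g = g * (g⁻¹ * y * g) := by group
    rw [← act_mul, h1, act_mul, ← map_sub]
    exact hWg _ (hw _ (hconj y hy))
  have hWU : W ≤ U := by
    intro v hv y hy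
    rw [hv y hy, sub_self]
    exact zero_mem _
  have hWP : ∀ y : P, W ≤ W.comap (act (y : Matrix.SpecialLinearGroup (Fin n) F)) := by
    intro y w hw
    rw [Submodule.mem_comap, hw y y.2]
    exact hw
  have hlt : W < U := by
    refine lt_of_le_of_ne hWU fun heq => ?_
    have hnt' : Nontrivial ((Fin n → F) ⧸ W) := Submodule.Quotient.nontrivial_iff.2 hWt
    let ρ : P →* Module.End F ((Fin n → F) ⧸ W) :=
      { toFun := fun y => W.mapQ W (act (y : Matrix.SpecialLinearGroup (Fin n) F)) (hWP y)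
        map_one' := by
          refine LinearMap.ext fun v => ?_
          obtain ⟨v, rfl⟩ := Submodule.Quotient.mk_surjective W v
          show Submodule.Quotient.mk (act (1 : Matrix.SpecialLinearGroup (Fin n) F) v) = Submodule.Quotient.mk v
          rw [map_one]; rfl
        map_mul' := fun x y => by
          refine LinearMap.ext fun v => ?_
          obtain ⟨v, rfl⟩ := Submodule.Quotient.mk_surjective W v
          show Submodule.Quotient.mk (act ((x : Matrix.SpecialLinearGroup (Fin n) F) *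
            (y : Matrix.SpecialLinearGroup (Fin n) F)) v) =
            Submodule.Quotient.mk (act (x : Matrix.SpecialLinearGroup (Fin n) F)
              (act (y : Matrix.SpecialLinearGroup (Fin n) F) v))
          rw [act_mul] }
    obtain ⟨v, hv0, hv⟩ := exists_fixed hP hpF ρ
    obtain ⟨v, rfl⟩ := Submodule.Quotient.mk_surjective W v
    have h1 : v ∈ U := by
      intro y hy
      have h2 : (Submodule.Quotient.mk (act y v) : (Fin n → F) ⧸ W) = Submodule.Quotient.mk v := hv ⟨y, hy⟩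
      rwa [← Submodule.Quotient.mk_eq_zero, Submodule.Quotient.mk_sub, sub_eq_zero]
    rw [← heq] at h1
    exact hv0 ((Submodule.Quotient.mk_eq_zero W).2 h1)
  have hfn : finrank F (Fin n → F) = n := by rw [finrank_fintype_fun_eq_card, Fintype.card_fin]
  have hdlt := Submodule.finrank_lt_finrank_of_lt hlt
  have hW0' : finrank F W ≠ 0 := fun h0 => hW0 (Submodule.finrank_eq_zero.1 h0)
  have hWn : finrank F W < n := lt_of_lt_of_eq (Submodule.finrank_lt hWt) hfn
  have hUn : finrank F U ≤ n := (Submodule.finrank_le _).trans_eq hfn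
  have hdW := dims hn ho h hord W hWg
  have hdU := dims hn ho h hord U hUg
  have hU : finrank F U = n := by
    rcases hdW with ⟨-, h1 | h1⟩ | ⟨h2, h1 | h1⟩
    · exact absurd h1 hW0'
    · omega
    · rcases hdU with ⟨h3, -⟩ | ⟨-, h3 | h3⟩
      · exfalso
        obtain ⟨h4, -, -⟩ := disj hn ho h
        have h5 : LinearMap.ker (act g - 1) = ⊥ := by
          rw [eq_bot_iff, ← h3]
          exact le_inf (h2.trans hWU) le_rfl
        rw [h5, finrank_bot] at h4
        omega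
      · omega
      · exact h3
    · omega
  have hUt : U = ⊤ := Submodule.eq_top_of_finrank_eq (by rw [hU, hfn])
  have hprod : finrank F ((Fin n → F) ⧸ W) * finrank F W = n - 1 := by
    have h1 := Submodule.finrank_quotient_add_finrank W
    rw [hfn] at h1
    have h2 : finrank F W = 1 ∨ finrank F W = n - 1 := by
      rcases hdW with ⟨-, h1 | h1⟩ | ⟨-, h1 | h1⟩
      · exact absurd h1 hW0'
      · exact Or.inr h1
      · exact Or.inl h1
      · omega
    rcases h2 with h2 | h2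
    · rw [h2] at h1 ⊢
      omega
    · have h3 : finrank F ((Fin n → F) ⧸ W) = 1 := by omega
      rw [h3, h2, one_mul]
  -- the embedding
  have hmem : ∀ (y : P) (v : Fin n → F),
      (act (y : Matrix.SpecialLinearGroup (Fin n) F) - LinearMap.id : Module.End F (Fin n → F)) v ∈ W := by
    intro y v
    have hv : v ∈ U := hUt ▸ Submodule.mem_top
    exact hv y y.2
  let ψ : P → (((Fin n → F) ⧸ W) →ₗ[F] W) := fun y =>
    W.liftQ ((act (y : Matrix.SpecialLinearGroup (Fin n) F) - LinearMap.id : Module.End F (Fin n → F)).codRestrict W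
      (hmem y)) (by
        intro w hw
        rw [LinearMap.mem_ker]
        apply Subtype.ext
        show act (y : Matrix.SpecialLinearGroup (Fin n) F) w - w = 0
        rw [hw y y.2, sub_self])
  have hψ : Function.Injective ψ := by
    intro x y hxy
    apply Subtype.ext
    apply act_injective
    refine LinearMap.ext fun v => ?_
    have h1 := congrArg Subtype.val (LinearMap.congr_fun hxy (Submodule.Quotient.mk v))
    have h2 : act (x : Matrix.SpecialLinearGroup (Fin n) F) v - v = act (y : Matrix.SpecialLinearGroup (Fin n) F) v - v := h1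
    exact sub_left_injective h2
  have hfin : Finite (((Fin n → F) ⧸ W) →ₗ[F] W) := Module.finite_of_finite F
  have hc := Nat.card_le_card_of_injective ψ hψ
  rwa [Module.natCard_eq_pow_finrank (K := F) (V := (((Fin n → F) ⧸ W) →ₗ[F] W)), Module.finrank_linearMap, hprod] at hc

/-- **`p`-subgroups of `PSL_n(q)` normalised by an element of order `r`** -/
theorem v_pgroup_le (hn : 3 ≤ n) {p f : ℕ} (hp : p.Prime) (hf : 1 ≤ f) (hF : Nat.card F = p ^ f)
    (h : Prim (Nat.card F) r (n - 1)) (hord : ∀ j, r ∣ Nat.card F ^ j - 1 → (n - 1) ∣ j) (hrz : ¬ r ∣ zz n F)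
    (X : Subgroup (PS n F)) (hX : IsPGroup p X) (x : PS n F) (hx : x ∈ normalizer (X : Set (PS n F)))
    (hxo : orderOf x = r) : v p X ≤ f * (n - 1) := by
  have hpf := Fact.mk hp
  have hpF : p ∣ Nat.card F := by rw [hF]; exact dvd_pow_self _ (by omega)
  obtain ⟨P, hP, -, hsur, hnor⟩ := exists_plift (pr_surjective (ι := Fin n) (F := F)) (by rw [ker_pr]) hX
  obtain ⟨g, hgx, hg, -⟩ := exists_cent h.pr hrz hxo
  have h1 := card_pgroup_le hn hpF hg h hord P hP (hnor g (by rw [hgx]; exact hx))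
  have h2 : Nat.card X ≤ Nat.card P := by
    have h3 : X ≤ P.map pr := by
      intro z hz
      obtain ⟨y, hy, hyz⟩ := hsur z hz
      exact ⟨y, hy, hyz⟩
    exact (Nat.le_of_dvd Nat.card_pos (card_dvd_of_le h3)).trans
      (Nat.le_of_dvd Nat.card_pos (Subgroup.card_map_dvd _ _))
  obtain ⟨k, hk⟩ := IsPGroup.iff_card.1 hX
  have h3 : v p X = k := by
    unfold v
    rw [hk, hp.factorization_pow, Finsupp.single_eq_same]
  rw [h3]
  have h4 := h2.trans h1
  rw [hk, hF, ← pow_mul] at h4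
  exact (Nat.pow_le_pow_iff_right hp.one_lt).1 h4

end

end Cfsg.Agent.H889.PDL
end

-- part: H889/PDL/Prm
section
/-!
# S4246, row `PSL_n(q)` (helper889): `n` prime, automorphisms commuting with an irreducible element
-/

set_option autoImplicit false
set_option linter.unusedSectionVars false

namespace Cfsg.Agent.H889.PDL

open Matrix Module Subgroup Polynomial Cfsg.Agent.H160.PD
open Cfsg.Agent.ClassicalGeometry.AutPSL.Root
open Cfsg.Agent.ClassicalGeometry.AutPSL.Auto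
open Cfsg.Agent.H999.RowPSL (ker_pr Prim irred noNorm_of_irred injective_toGL)

/-- the degree of an irreducible polynomial annihilating a map divides the dimension -/
theorem deg_dvd {F : Type*} [Field F] [Finite F] {V : Type*} [AddCommGroup V] [Module F V] [Module.Finite F V]
    (f : Module.End F V) {μ : F[X]} (hirr : Irreducible μ) (hμf : aeval f μ = 0) : μ.natDegree ∣ finrank F V := by
  have hfV : Finite V := Module.finite_of_finite F
  have : Fact (Irreducible μ) := ⟨hirr⟩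
  have hmem : ∀ a ∈ Ideal.span {μ}, (aeval f : F[X] →ₐ[F] Module.End F V).toRingHom a = 0 := by
    intro a ha
    rw [Ideal.mem_span_singleton] at ha
    obtain ⟨b, rfl⟩ := ha
    show aeval f (μ * b) = 0
    rw [map_mul, hμf, zero_mul]
  let φ : AdjoinRoot μ →+* Module.End F V := Ideal.Quotient.lift (Ideal.span {μ}) _ hmem
  let _ : Module (AdjoinRoot μ) V := Module.compHom V φ
  have hμ0 : μ ≠ 0 := hirr.ne_zero
  have hfinK : Module.Finite F (AdjoinRoot μ) := (AdjoinRoot.powerBasis hμ0).finite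
  have : Finite (AdjoinRoot μ) := Module.finite_of_finite F
  have : Module.Finite (AdjoinRoot μ) V := Module.Finite.of_finite
  have hQ : Nat.card (AdjoinRoot μ) = Nat.card F ^ μ.natDegree := by
    rw [Module.natCard_eq_pow_finrank (K := F), (AdjoinRoot.powerBasis hμ0).finrank, AdjoinRoot.powerBasis_dim]
  have h2 : Nat.card (AdjoinRoot μ) ^ finrank (AdjoinRoot μ) V = Nat.card F ^ finrank F V := by
    rw [← Module.natCard_eq_pow_finrank, ← Module.natCard_eq_pow_finrank]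
  rw [hQ, ← pow_mul] at h2
  exact ⟨_, (Nat.pow_right_injective (Finite.one_lt_card (α := F)) h2).symm⟩

section

variable {F : Type*} [Field F] [Fintype F] {n : ℕ}

/-- `n` prime: a non-scalar element commuting with an irreducible one is irreducible -/
theorem irr_of_prime (hn : n.Prime) {f : Module.End F (Fin n → F)} (hns : ∀ c : F, f ≠ algebraMap F _ c)
    {g : Module.End F (Fin n → F)} (hgf : g * f = f * g)
    (hirr : ∀ W : Submodule F (Fin n → F), (∀ w ∈ W, g w ∈ W) → W = ⊥ ∨ W = ⊤)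
    (U : Submodule F (Fin n → F)) (hU : ∀ w ∈ U, f w ∈ U) : U = ⊥ ∨ U = ⊤ := by
  have hne : Nonempty (Fin n) := ⟨⟨0, hn.pos⟩⟩
  have hnt : Nontrivial (Module.End F (Fin n → F)) := inferInstance
  have hint : IsIntegral F f := Algebra.IsIntegral.isIntegral f
  have hμ0 : minpoly F f ≠ 0 := minpoly.ne_zero hint
  have hcm : ∀ a : F[X], g * (aeval f a) = (aeval f a) * g := by
    intro a
    rw [Polynomial.aeval_eq_sum_range]
    exact (Commute.sum_right _ _ _ fun i _ => ((show Commute g f from hgf).pow_right i).smul_right _).eq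
  have hinj : ∀ a : F[X], aeval f a ≠ 0 → LinearMap.ker (aeval f a) = ⊥ := by
    intro a ha
    refine (hirr _ fun w hw => ?_).resolve_right fun h => ha (LinearMap.ker_eq_top.1 h)
    rw [LinearMap.mem_ker] at hw ⊢
    rw [← Module.End.mul_apply, ← hcm, Module.End.mul_apply, hw, map_zero]
  have key : ∀ a b : F[X], minpoly F f = a * b → b ≠ 0 → aeval f b = 0 → IsUnit a := by
    intro a b hab hb0 hb
    have h1 : a * b ∣ 1 * b := by
      rw [← hab, one_mul]
      exact minpoly.dvd F f hb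
    exact isUnit_of_dvd_one ((mul_dvd_mul_iff_right hb0).1 h1)
  have hμ : Irreducible (minpoly F f) := by
    rw [irreducible_iff]
    refine ⟨minpoly.not_isUnit F f, fun a b hab => ?_⟩
    have ha0 : a ≠ 0 := by rintro rfl; rw [zero_mul] at hab; exact hμ0 hab
    have hb0 : b ≠ 0 := by rintro rfl; rw [mul_zero] at hab; exact hμ0 hab
    by_cases hb : aeval f b = 0
    · exact Or.inl (key a b hab hb0 hb)
    · right
      refine key b a (by rw [hab, mul_comm]) ha0 ?_
      by_contra ha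
      have h1 : aeval f a * aeval f b = 0 := by rw [← map_mul, ← hab, minpoly.aeval]
      apply hb
      refine LinearMap.ext fun v => ?_
      have h2 : aeval f a (aeval f b v) = 0 := LinearMap.congr_fun h1 v
      have h3 : aeval f b v ∈ LinearMap.ker (aeval f a) := h2
      rw [hinj a ha, Submodule.mem_bot] at h3
      exact h3
  have hfn : finrank F (Fin n → F) = n := by rw [finrank_fintype_fun_eq_card, Fintype.card_fin]
  have h1 := deg_dvd f hμ (minpoly.aeval F f)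
  rw [hfn, Nat.dvd_prime hn] at h1
  have hd : (minpoly F f).natDegree = n := by
    refine h1.resolve_left fun h2 => ?_
    obtain ⟨c, hc⟩ := minpoly.natDegree_eq_one_iff.1 h2
    exact hns c hc.symm
  -- the restriction
  have hres : aeval (f.restrict hU) (minpoly F f) = 0 := by
    have h2 : ∀ (a : F[X]) (u : U), ((aeval (f.restrict hU) a u : U) : Fin n → F) = aeval f a (u : Fin n → F) := by
      intro a u
      induction a using Polynomial.induction_on' with
      | add a b ha hb =>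
        rw [map_add, map_add, LinearMap.add_apply, LinearMap.add_apply, Submodule.coe_add, ha, hb]
      | monomial k c =>
        rw [Polynomial.aeval_monomial, Polynomial.aeval_monomial]
        have h3 : (((f.restrict hU) ^ k) u : Fin n → F) = (f ^ k) (u : Fin n → F) := by
          have h4 : ∀ k : ℕ, ∀ u : U, (((f.restrict hU) ^ k) u : Fin n → F) = (f ^ k) (u : Fin n → F) := by
            intro k
            induction k with
            | zero => intro u; rfl
            | succ k ih =>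
              intro u
              rw [pow_succ, pow_succ, Module.End.mul_apply, Module.End.mul_apply, ih]
              rfl
          exact h4 k u
        show c • ((((f.restrict hU) ^ k) u : U) : Fin n → F) = c • ((f ^ k) (u : Fin n → F))
        rw [h3]
    refine LinearMap.ext fun u => Subtype.ext ?_
    rw [h2, minpoly.aeval]
    rfl
  have h3 := deg_dvd (f.restrict hU) hμ hres
  rw [hd] at h3
  by_cases h0 : finrank F U = 0
  · exact Or.inl (Submodule.finrank_eq_zero.1 h0)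
  · right
    apply Submodule.eq_top_of_finrank_eq
    apply le_antisymm (Submodule.finrank_le _)
    rw [hfn]
    exact Nat.le_of_dvd (Nat.pos_of_ne_zero h0) h3

theorem card_fx_dvd_prime (hn : n.Prime) {A : GL (Fin n) F} (hb : (orderOf (lift (cj A))).Prime)
    {g : Matrix.SpecialLinearGroup (Fin n) F}
    (hirr : ∀ W : Submodule F (Fin n → F), (∀ w ∈ W, g.1 *ᵥ w ∈ W) → W = ⊥ ∨ W = ⊤)
    (hc : (A : Matrix (Fin n) (Fin n) F) * g.1 = g.1 * (A : Matrix (Fin n) (Fin n) F)) :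
    Nat.card (Fx (cj A)) ∣ Nat.card F ^ n - 1 := by
  have hfn : finrank F (Fin n → F) = n := by rw [finrank_fintype_fun_eq_card, Fintype.card_fin]
  have h0 := card_dvd_of_free_lin (F := F) (act.comp (Fx (cj A)).subtype) ?_
  · rwa [hfn] at h0
  · intro y v hv hyv
    have hA := irr_of_prime hn (f := toLin' (A : Matrix (Fin n) (Fin n) F)) (fun c h => by
        rw [← toLin_scalar] at h
        exact not_scalar hb (toLin'.injective h)) (g := toLin' g.1) (by
        show toLin' g.1 ∘ₗ toLin' (A : Matrix (Fin n) (Fin n) F) = toLin' (A : Matrix (Fin n) (Fin n) F) ∘ₗ toLin' g.1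
        rw [← toLin'_mul, ← toLin'_mul, hc]) hirr
    let U : Submodule F (Fin n → F) :=
      { carrier := {v | act (y : Matrix.SpecialLinearGroup (Fin n) F) v = v}
        add_mem' := fun {a b} ha hb => by
          show act (y : Matrix.SpecialLinearGroup (Fin n) F) (a + b) = a + b
          rw [map_add, ha, hb]
        zero_mem' := map_zero _
        smul_mem' := fun c w hw => by
          show act (y : Matrix.SpecialLinearGroup (Fin n) F) (c • w) = c • w
          rw [map_smul, hw] }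
    have hUA : ∀ w ∈ U, toLin' (A : Matrix (Fin n) (Fin n) F) w ∈ U := by
      intro w hw
      have h1 := mem_fx_cj y.2
      show (y : Matrix.SpecialLinearGroup (Fin n) F).1 *ᵥ ((A : Matrix (Fin n) (Fin n) F) *ᵥ w) =
        (A : Matrix (Fin n) (Fin n) F) *ᵥ w
      rw [mulVec_mulVec, ← h1, ← mulVec_mulVec,
        (show (y : Matrix.SpecialLinearGroup (Fin n) F).1 *ᵥ w = w from hw)]
    have hU : U = ⊤ := (hA U hUA).resolve_left fun h1 => by
      have h2 : v ∈ U := hyv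
      rw [h1, Submodule.mem_bot] at h2
      exact hv h2
    apply Subtype.ext
    apply act_injective
    show act (y : Matrix.SpecialLinearGroup (Fin n) F) = act 1
    rw [map_one]
    refine LinearMap.ext fun w => ?_
    have hw : w ∈ U := hU ▸ Submodule.mem_top
    exact hw

end

end Cfsg.Agent.H889.PDL
end

-- part: H889/PDL/Cmn
section
/-!
# S4246, row `PSL_n(q)` (helper889): common part of the two criteria
-/

set_option autoImplicit false
set_option linter.unusedSectionVars false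

namespace Cfsg.Agent.H889.PDL

open Matrix Module Subgroup Cfsg.Agent.H160.PD
open Cfsg.Agent.ClassicalGeometry.AutPSL.Root
open Cfsg.Agent.ClassicalGeometry.AutPSL.Auto
open Cfsg.Agent.ClassicalGeometry.AutPSL.Main
open Cfsg.Agent.H999.RowPSL (ker_pr Prim irred noNorm_of_irred injective_toGL)

/-- the data -/
structure Dat (n : ℕ) (F : Type*) [Field F] [Fintype F] (p f : ℕ) : Prop where
  n3 : 3 ≤ n
  pp : p.Prime
  f1 : 1 ≤ f
  hF : Nat.card F = p ^ f
  hZ : center (PS n F) = ⊥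

variable {F : Type*} [Field F] [Fintype F] {n p f : ℕ}

namespace Dat

theorem pF (D : Dat n F p f) : p ∣ Nat.card F := by
  rw [D.hF]
  exact dvd_pow_self _ (by have := D.f1; omega)

theorem v_out (D : Dat n F p f) (t : ℕ) :
    (out (PS n F)).factorization t = (2 * f).factorization t + (zz n F).factorization t := by
  have h1 := D.f1
  rw [out_mul D.n3 D.pp D.f1 (by rw [← Nat.card_eq_fintype_card, D.hF]) D.hZ,
    Nat.factorization_mul (by omega) zz_pos.ne', Finsupp.add_apply]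

theorem v_out_char (D : Dat n F p f) : (out (PS n F)).factorization p = (2 * f).factorization p := by
  rw [D.v_out, Nat.factorization_eq_zero_of_not_dvd (zz_char (by have := D.n3; omega) D.pp D.pF), add_zero]

theorem v_char (D : Dat n F p f) : v p (PS n F) = f * ((n - 1) * (n - 2) / 2 + (n - 1)) := by
  have h1 := D.n3
  rw [v_S_char (by omega) D.pp D.f1 D.hF, tri_succ n (by omega)]

theorem prim {k r : ℕ} (D : Dat n F p f) (hR : RP p f n k r) : Prim (Nat.card F) r k := by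
  rw [D.hF]
  exact Cfsg.Agent.H999.RowPSL.Prim.of_iff hR.pr hR.ord

theorem ord {k r : ℕ} (D : Dat n F p f) (hR : RP p f n k r) (j : ℕ) (h : r ∣ Nat.card F ^ j - 1) : k ∣ j := by
  rw [D.hF] at h
  exact (hR.ord j).1 h

theorem ndz {k r : ℕ} (D : Dat n F p f) (hk : 2 ≤ k) (hR : RP p f n k r) : ¬ r ∣ zz n F := by
  have h1 := D.n3
  apply not_dvd_zz (by omega) hR.pr
  intro h
  have h2 := D.ord hR 1 (by rwa [pow_one])
  have := Nat.dvd_one.1 h2
  omega

theorem r_ne_two {k r : ℕ} (D : Dat n F p f) (hR : RP p f n k r) : r ≠ 2 := by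
  have h1 := D.n3
  have h2 := hR.gt
  omega

theorem r_ne_p {k r : ℕ} (hR : RP p f n k r) : p ≠ r := by
  rintro rfl
  exact hR.ndp dvd_rfl

theorem good {k r : ℕ} (D : Dat n F p f) (hk : 2 ≤ k) (hkn : k ≤ n) (hR : RP p f n k r) : Good (PS n F) r where
  prime := hR.pr
  odd := D.r_ne_two hR
  lt := by
    have h0 := D.ndz hk hR
    have h1 : (out (PS n F)).factorization r = 0 := by
      rw [D.v_out, Nat.factorization_eq_zero_of_not_dvd h0, Nat.factorization_eq_zero_of_not_dvd]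
      intro h2
      rcases hR.pr.dvd_mul.1 h2 with h3 | h3
      · exact D.r_ne_two hR ((Nat.prime_dvd_prime_iff_eq hR.pr Nat.prime_two).1 h3)
      · exact hR.ndf h3
    rw [h1, v_pos hR.pr]
    have h2 : r ∣ Nat.card (Matrix.SpecialLinearGroup (Fin n) F) := by
      refine Cfsg.Agent.H999.RowPSL.dvd_card_SL (j := k) hk hkn ?_
      rw [← Nat.card_eq_fintype_card]
      exact (D.prim hR).dvd
    rw [card_S_mul] at h2
    exact (hR.pr.dvd_mul.1 h2).resolve_right h0

/-- the primes of the order -/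
theorem sum_le (D : Dat n F p f) (t : ℕ) (s : Finset ℕ) (hs : s ⊆ Finset.Icc 2 n) :
    ∑ j ∈ s, (Nat.card F ^ j - 1).factorization t ≤ v t (PS n F) + (zz n F).factorization t := by
  have h1 := D.n3
  rw [v_S]
  have hne : ∀ j ∈ Finset.Icc 2 n, Nat.card F ^ j - 1 ≠ 0 := by
    intro j hj
    rw [Finset.mem_Icc] at hj
    have := Nat.one_lt_pow (n := j) (by omega) (Finite.one_lt_card (α := F))
    omega
  have h2 : (∏ j ∈ s, (Nat.card F ^ j - 1)).factorization t = ∑ j ∈ s, (Nat.card F ^ j - 1).factorization t := by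
    rw [Nat.factorization_prod fun j hj => hne j (hs hj), Finsupp.finsetSum_apply]
  rw [← h2]
  refine (Nat.factorization_le_iff_dvd (Finset.prod_ne_zero_iff.2 fun j hj => hne j (hs hj)) Nat.card_pos.ne').2 ?_ t
  rw [H953.card_SL n (by omega), ← Nat.card_eq_fintype_card]
  exact (Finset.prod_dvd_prod_of_subset _ _ _ hs).mul_left _

/-- the centralisers of the involutions, `p` odd -/
theorem inv (D : Dat n F p f) (hp2 : p ≠ 2) (s : PS n F) (hs : orderOf s = 2) :
    v p (centralizer {s} : Subgroup (PS n F)) ≤ f * ((n - 1) * (n - 2) / 2) := by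
  have h1 := D.n3
  obtain ⟨g, rfl⟩ := pr_surjective s
  have h2 : lift (cj (Matrix.SpecialLinearGroup.toGL g)) = MulAut.conj (pr g) := by
    rw [← lift_conj]
    congr 1
  have h3 : orderOf (lift (cj (Matrix.SpecialLinearGroup.toGL g))) = 2 := by
    rw [h2, orderOf_injective _ (_root_.Cfsg.Agent.H160.PD.conj_injective D.hZ), hs]
  rw [← fx_conj, ← h2]
  exact v_fx_le (by omega) D.pp D.f1 D.hF (by rw [h3]; exact Nat.prime_two) (by rw [h3]; exact hp2.symm)

/-- `noNorm` for the irreducible elements -/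
theorem noNorm {r : ℕ} (D : Dat n F p f) (hP : Prim (Nat.card F) r n) (hrz : ¬ r ∣ zz n F) (X : Subgroup (PS n F))
    (hX : IsPGroup p X) (x : PS n F) (hx : x ∈ normalizer (X : Set (PS n F))) (hxo : orderOf x = r) : v p X ≤ 0 := by
  have h1 := D.n3
  have hpF := Fact.mk D.pp
  have hne : Nonempty (Fin n) := ⟨⟨0, by omega⟩⟩
  obtain ⟨g, rfl, hg, -⟩ := exists_cent hP.pr hrz hxo
  have hchar : CharP F p := by
    have hF' : Fintype.card F = p ^ f := by rw [← Nat.card_eq_fintype_card, D.hF]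
    exact charP_of_card_eq_prime_pow hF'
  have h2 := noNorm_of_irred (p := p) pr_surjective (by rw [ker_pr]) _ injective_toGL (CharP.cast_eq_zero F p)
    (irred hP (x := (g : Matrix (Fin n) (Fin n) F)) (by
      have h3 : g ^ r = 1 := orderOf_dvd_iff_pow_eq_one.1 (dvd_of_eq hg)
      have h4 := congrArg Subtype.val h3
      rwa [Matrix.SpecialLinearGroup.coe_pow] at h4) (by
      intro h3
      have h4 : g = 1 := Subtype.ext h3
      rw [h4, orderOf_one] at hg
      exact hP.pr.one_lt.ne hg)) X hX hx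
  rw [h2]
  unfold v
  rw [Subgroup.card_bot, Nat.factorization_one]
  exact le_rfl

end Dat

end Cfsg.Agent.H889.PDL
end

-- part: H889/PDL/Asm
section
/-!
# S4246, row `PSL_n(q)` (helper889): the two criteria
-/

set_option autoImplicit false
set_option linter.unusedSectionVars false

namespace Cfsg.Agent.H889.PDL

open Matrix Module Subgroup Cfsg.Agent.H160.PD
open Cfsg.Agent.ClassicalGeometry.AutPSL.Root
open Cfsg.Agent.ClassicalGeometry.AutPSL.Auto
open Cfsg.Agent.ClassicalGeometry.AutPSL.Main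
open Cfsg.Agent.H999.RowPSL (ker_pr Prim irred scalar_of_eig eig_of_fixed cj_eq_iff)

variable {F : Type*} [Field F] [Fintype F] {n p f : ℕ}

namespace Dat

theorem irr {r : ℕ} (hP : Prim (Nat.card F) r n) {g : Matrix.SpecialLinearGroup (Fin n) F} (hg : orderOf g = r)
    (W : Submodule F (Fin n → F)) (hW : ∀ w ∈ W, g.1 *ᵥ w ∈ W) : W = ⊥ ∨ W = ⊤ := by
  refine irred hP (x := g.1) ?_ ?_ W hW
  · have h3 : g ^ r = 1 := orderOf_dvd_iff_pow_eq_one.1 (dvd_of_eq hg)
    have h4 := congrArg Subtype.val h3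
    rwa [Matrix.SpecialLinearGroup.coe_pow] at h4
  · intro h3
    have h4 : g = 1 := Subtype.ext h3
    rw [h4, orderOf_one] at hg
    exact hP.pr.one_lt.ne hg

/-- `n` prime: the fixed points of the automorphisms fixing an element of order `r` -/
theorem v_fx_prime (D : Dat n F p f) (hn : n.Prime) {r : ℕ} (hR : RP p f n n r) (t : ℕ)
    (b : MulAut (PS n F)) (hb : (orderOf b).Prime) (hb2 : orderOf b ≠ 2) (x : PS n F) (hx : orderOf x = r)
    (hbx : b x = x) : v t (Fx b) ≤ (Nat.card F ^ n - 1).factorization t := by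
  have h3 := D.n3
  have hrz := D.ndz (by omega) hR
  obtain ⟨A, rfl, g, -, hg, hc⟩ := lin_of_fix (by omega) D.pp D.hF hR hrz hb hb2 hx hbx
  refine (v_fx_lift_le (cj A) t).trans ?_
  have h1 := card_fx_dvd_prime hn hb (irr (D.prim hR) hg) hc
  have hq := Nat.one_lt_pow (n := n) (by omega) (Finite.one_lt_card (α := F))
  exact (Nat.factorization_le_iff_dvd Nat.card_pos.ne' (by omega)).2 h1 t

/-- **`n` an odd prime** -/
theorem one_prime (D : Dat n F p f) (hn : n.Prime) {r : ℕ} (hR : RP p f n n r) :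
    One (PS n F) p r 0 0 ((n - 1) / 2) := by
  have h3 := D.n3
  have hn0 : n ≠ 0 := by omega
  have hrz := D.ndz (by omega) hR
  have hfine : Fine n F r n := fine_top hrz (D.prim hR)
  have hf1 := D.f1
  have hvp := D.v_char
  have hvo := D.v_out_char
  have hle := v_two_mul_le D.pp D.f1
  have hchar0 : (Nat.card F ^ n - 1).factorization p = 0 :=
    Nat.factorization_eq_zero_of_not_dvd (not_dvd_pow_sub D.pp D.pF Nat.card_pos hn0)
  have hfn : f * 2 ≤ f * (n - 1) := Nat.mul_le_mul_left _ (by omega)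
  set T := (n - 1) * (n - 2) / 2 with hT
  rw [mul_add] at hvp
  have hz2 : (zz n F).factorization 2 = 0 := by
    apply Nat.factorization_eq_zero_of_not_dvd
    apply not_dvd_zz' Nat.prime_two
    intro h
    have := (Nat.prime_dvd_prime_iff_eq Nat.prime_two hn).1 h
    omega
  -- the prime `2`
  have htwo : p ≠ 2 → (Nat.card F ^ n - 1).factorization 2 + (out (PS n F)).factorization 2 < v 2 (PS n F) := by
    intro hp2
    have h1 := D.sum_le 2 {2, n} (by
      intro j hj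
      rw [Finset.mem_insert, Finset.mem_singleton] at hj
      rw [Finset.mem_Icc]
      omega)
    rw [Finset.sum_pair (by omega), hz2, add_zero] at h1
    have h4 := v_two D.pp.two_le (f := f) (by
      intro h
      exact hp2 ((Nat.prime_dvd_prime_iff_eq Nat.prime_two D.pp).1 h).symm) (by omega)
    rw [← D.hF] at h4
    rw [D.v_out, hz2, add_zero]
    omega
  refine ⟨D.pp, D.good (by omega) le_rfl hR, ?_, ?_, ?_, ?_, ?_, ?_, ?_⟩
  · intro x hx
    exact (hfine.v_cent_char hn0 D.pp D.pF hx).le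
  · intro b hb hb2 hbp x hx hbx
    rw [← hchar0]
    exact D.v_fx_prime hn hR p b hb hb2 x hx hbx
  · intro b hb hb2 hbp
    have h1 := v_fx_all h3 D.pp D.f1 D.hF b hb hb2 hbp
    rw [← hT] at h1
    rw [hvo, hvp, max_self, add_zero]
    omega
  · intro hp2 H hH hrH
    have h1 := odd_bound_of_uniq D.pp hR.pr (r_ne_p hR) hfine.uniq (fun X hX x hx hxo =>
      D.noNorm (D.prim hR) hrz X hX x hx hxo) (fun x hx => hfine.v_norm_char hn0 D.pp hp2 D.pF hx) H hH hrH
    omega
  · intro hp2 s hs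
    have h1 := D.inv hp2 s hs
    rw [← hT] at h1
    have h2 := v_two_mul_odd D.pp hp2 D.f1
    rw [hvo, hvp, max_eq_left (Nat.zero_le _)]
    have h4 : (n - 1) / 2 * 2 ≤ n - 1 := Nat.div_mul_le_self _ _
    have h5 : f + (n - 1) ≤ f * (n - 1) + 1 := by
      obtain ⟨a, rfl⟩ : ∃ a, f = a + 1 := ⟨f - 1, by omega⟩
      obtain ⟨m, hm⟩ : ∃ m, n - 1 = m + 1 := ⟨n - 2, by omega⟩
      rw [hm]
      linarith only [Nat.zero_le (a * m)]
    (clear * - hfn h1 h2 h5; omega)
  · intro hp2 x hx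
    have h1 := hfine.v_cent hn0 hx 2
    have h2 := htwo hp2
    omega
  · intro hp2 b hb hb2 x hx hbx
    have h1 := D.v_fx_prime hn hR 2 b hb hb2 x hx hbx
    have h2 := htwo hp2
    omega

/-- `Inc` -/
theorem inc (D : Dat n F p f) {r₀ r₁ : ℕ} (hR₀ : RP p f n n r₀) (hR₁ : RP p f n (n - 1) r₁) :
    Inc (PS n F) r₀ r₁ := by
  have h3 := D.n3
  intro b hb hb2 x hx hbx y hy hby
  have hrz := D.ndz (by omega) hR₀
  have hrz' := D.ndz (by omega) hR₁
  obtain ⟨A, rfl, g, -, hg, hc⟩ := lin_of_fix (by omega) D.pp D.hF hR₀ hrz hb hb2 hx hbx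
  obtain ⟨g', -, hg', hfix⟩ := exists_cent hR₁.pr hrz' hy
  have h1 := cj_eq_iff (hfix _ hby)
  have h2 : g' ^ r₁ = 1 := orderOf_dvd_iff_pow_eq_one.1 (dvd_of_eq hg')
  obtain ⟨v, μ, hv, hμ⟩ := eig_of_fixed h3 (D.prim hR₁) (z := g'.1) (by
    have h4 := congrArg Subtype.val h2
    rwa [Matrix.SpecialLinearGroup.coe_pow] at h4) (by
    intro h3
    have h4 : g' = 1 := Subtype.ext h3
    rw [h4, orderOf_one] at hg'
    exact hR₁.pr.one_lt.ne hg') h1
  exact not_scalar hb (scalar_of_eig hc (irr (D.prim hR₀) hg) hv hμ).symm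

/-- **`n ≥ 4`, two primes** -/
theorem two (D : Dat n F p f) (hn4 : 4 ≤ n) {r₀ r₁ : ℕ} (hR₀ : RP p f n n r₀) (hR₁ : RP p f n (n - 1) r₁) :
    Two (PS n F) p r₀ r₁ 0 0 0 ((n - 1) / 2) (f * (n - 1) + (n - 2) / 2) := by
  have hn0 : n ≠ 0 := by omega
  have hn1 : n - 1 ≠ 0 := by omega
  have hrz₀ := D.ndz (by omega) hR₀
  have hrz₁ := D.ndz (by omega) hR₁
  have hf₀ : Fine n F r₀ n := fine_top hrz₀ (D.prim hR₀)
  have hf₁ : Fine n F r₁ (n - 1) := fine_pred (by omega) hrz₁ (D.prim hR₁)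
  have hf1 := D.f1
  have hvp := D.v_char
  have hvo := D.v_out_char
  have hle := v_two_mul_le D.pp D.f1
  have hfn : f * 3 ≤ f * (n - 1) := Nat.mul_le_mul_left _ (by omega)
  have hT2 := tri_two n (by omega)
  have hT3 : n - 1 ≤ (n - 1) * (n - 2) / 2 := by
    rw [Nat.le_div_iff_mul_le (by norm_num)]
    exact Nat.mul_le_mul_left _ (by omega)
  set T := (n - 1) * (n - 2) / 2 with hT
  have hfT : f * (n - 1) ≤ f * T := Nat.mul_le_mul_left _ hT3
  rw [mul_add] at hvp
  have hr01 : r₀ ≠ r₁ := by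
    rintro rfl
    have h1 := D.ord hR₁ n (D.prim hR₀).dvd
    have h2 : n - 1 ∣ n - (n - 1) := Nat.dvd_sub h1 dvd_rfl
    have h3 := Nat.le_of_dvd (by omega) h2
    omega
  have key : ∀ b : MulAut (PS n F), (orderOf b).Prime → orderOf b ≠ 2 → orderOf b ≠ p →
      v p (Fx b) + max 0 0 + (out (PS n F)).factorization p < v p (PS n F) := by
    intro b hb hb2 hbp
    have h1 := v_fx_all (by omega) D.pp D.f1 D.hF b hb hb2 hbp
    rw [← hT] at h1
    rw [hvo, hvp, max_self, add_zero]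
    omega
  refine ⟨D.pp, D.good (by omega) le_rfl hR₀, D.good (by omega) (by omega) hR₁, ?_, ?_, ?_, D.inc hR₀ hR₁, ?_, ?_, ?_,
    ?_, ?_, ?_, ?_, ?_, ?_⟩
  · intro x hx
    exact (hf₀.v_cent_char hn0 D.pp D.pF hx).le
  · intro x hx
    exact (hf₁.v_cent_char hn1 D.pp D.pF hx).le
  · refine noOdd_of_uniq hR₀.pr hR₁.pr hr01 hf₀.uniq hf₁.uniq (fun x hx => ?_) (fun x hx => ?_)
    · refine hf₀.not_dvd_norm hR₁.pr hR₁.gt (fun h => ?_) hx
      have h1 := D.ord hR₁ n h
      have h2 : n - 1 ∣ n - (n - 1) := Nat.dvd_sub h1 dvd_rfl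
      have h3 := Nat.le_of_dvd (by omega) h2
      omega
    · refine hf₁.not_dvd_norm hR₀.pr (by have := hR₀.gt; omega) (fun h => ?_) hx
      have h1 := Nat.le_of_dvd (by omega) (D.ord hR₀ (n - 1) h)
      omega
  · intro b hb hb2 hbp x _ _
    exact key b hb hb2 hbp
  · intro b hb hb2 hbp x _ _
    exact key b hb hb2 hbp
  · rw [hvo, hvp]
    omega
  · -- the other primes
    intro t ht ht2 htp htS htr0 htr1
    by_cases hj : ∃ j, 1 ≤ j ∧ j ≤ n - 2 ∧ t ∣ Nat.card F ^ j - 1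
    · right
      intro x y hx hy
      obtain ⟨j, hj1, hj2, hj⟩ : ∃ j, 2 ≤ j ∧ j ≤ n - 2 ∧ t ∣ Nat.card F ^ j - 1 := by
        obtain ⟨j, hj1, hj2, hj⟩ := hj
        rcases hj1.eq_or_lt with h | h
        · subst h
          refine ⟨2, le_rfl, by omega, ?_⟩
          have h1 : Nat.card F ^ 2 - 1 = (Nat.card F + 1) * (Nat.card F - 1) := by
            have := Nat.sq_sub_sq (Nat.card F) 1
            rwa [one_pow] at this
          rw [pow_one] at hj
          rw [h1]
          exact hj.mul_left _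
        · exact ⟨j, h, hj2, hj⟩
      have h1 := hf₀.v_cent hn0 hx t
      have h2 := hf₁.v_cent hn1 hy t
      have h3 := D.sum_le t {j, n - 1, n} (by
        intro i hi
        rw [Finset.mem_insert, Finset.mem_insert, Finset.mem_singleton] at hi
        rw [Finset.mem_Icc]
        (clear * - hj1 hj2 hi; omega))
      rw [Finset.sum_insert (by
        rw [Finset.mem_insert, Finset.mem_singleton]
        (clear * - hn4 hj2; omega)), Finset.sum_pair (by (clear * - hn4; omega))] at h3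
      have h4 : f.factorization t < (Nat.card F ^ j - 1).factorization t := by
        rw [D.hF] at hj ⊢
        exact v_lt' ht D.pp.two_le (by omega) (by omega) hj
      have h5 : (2 * f).factorization t = f.factorization t := by
        rw [Nat.factorization_mul (by norm_num) (by omega), Finsupp.add_apply,
          Nat.factorization_eq_zero_of_not_dvd (n := 2), zero_add]
        intro h
        exact ht2 ((Nat.prime_dvd_prime_iff_eq ht Nat.prime_two).1 h)
      rw [D.v_out, h5]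
      omega
    · left
      push Not at hj
      -- `t` is primitive
      have htq : ¬ t ∣ Nat.card F := by
        rw [D.hF]
        intro h
        exact htp ((Nat.prime_dvd_prime_iff_eq ht D.pp).1 (ht.dvd_of_dvd_pow h))
      have htSL : t ∣ Nat.card (Matrix.SpecialLinearGroup (Fin n) F) := by
        rw [card_S_mul]
        exact htS.mul_right _
      have hn1' : t ∣ Nat.card F ^ (n - 1) - 1 ∨ t ∣ Nat.card F ^ n - 1 := by
        rw [H953.card_SL n (by omega), ← Nat.card_eq_fintype_card] at htSL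
        rcases ht.dvd_mul.1 htSL with h | h
        · exact absurd (ht.dvd_of_dvd_pow h) htq
        · obtain ⟨i, hi, hd⟩ := (Nat.Prime.prime ht).exists_mem_finset_dvd h
          rw [Finset.mem_Icc] at hi
          rcases Nat.lt_or_ge (n - 2) i with h1 | h1
          · rcases (show i = n - 1 ∨ i = n by (clear * - hn4 hr01 ht2 htp htr0 htr1 hi h1; omega)) with rfl | rfl
            · exact Or.inl hd
            · exact Or.inr hd
          · exact absurd hd (hj i (by omega) h1)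
      obtain ⟨m, hm, hP⟩ : ∃ m, (m = n - 1 ∨ m = n) ∧ Prim (Nat.card F) t m := by
        by_cases h : t ∣ Nat.card F ^ (n - 1) - 1
        · exact ⟨n - 1, Or.inl rfl, ht, h, fun d hd0 hd1 => hj d hd0 (by (clear * - hn4 hr01 ht2 htp htr0 htr1 hn1' hd1; omega))⟩
        · refine ⟨n, Or.inr rfl, ht, hn1'.resolve_left h, fun d hd0 hd1 hd => ?_⟩
          rcases Nat.lt_or_ge (n - 2) d with h1 | h1
          · have : d = n - 1 := by (clear * - hn4 hr01 ht2 htp htr0 htr1 hn1' h hd1 h1; omega)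
            exact h (this ▸ hd)
          · exact hj d hd0 h1 hd
      have hm0 : m ≠ 0 := by (clear * - hn4 hr01 ht2 htp htr0 htr1 hn1' hm; omega)
      have htz : ¬ t ∣ zz n F := by
        apply not_dvd_zz (by omega) ht
        have := hP.ndvd 1 one_pos (by (clear * - hn4 hr01 ht2 htp htr0 htr1 hn1' hm hm0; omega))
        rwa [pow_one] at this
      have hfine : Fine n F t m := by
        rcases hm with rfl | rfl
        · exact fine_pred (by omega) htz hP
        · exact fine_top htz hP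
      refine ⟨?_, fun y hy => (hfine.v_cent_char hm0 D.pp D.pF hy).le⟩
      have h3 := D.sum_le t {m} (by
        intro i hi
        rw [Finset.mem_singleton] at hi
        rw [Finset.mem_Icc]
        (clear * - hn4 hr01 ht2 htp htr0 htr1 hn1' hm hm0 hi; omega))
      rw [Finset.sum_singleton] at h3
      have h4 : f.factorization t < (Nat.card F ^ m - 1).factorization t := by
        have h6 := hP.dvd
        rw [D.hF] at h6 ⊢
        exact v_lt' ht D.pp.two_le (by omega) hm0 h6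
      have h5 : (2 * f).factorization t = f.factorization t := by
        rw [Nat.factorization_mul (by norm_num) (by omega), Finsupp.add_apply,
          Nat.factorization_eq_zero_of_not_dvd (n := 2), zero_add]
        intro h
        exact ht2 ((Nat.prime_dvd_prime_iff_eq ht Nat.prime_two).1 h)
      have h6 : (zz n F).factorization t = 0 := Nat.factorization_eq_zero_of_not_dvd htz
      rw [D.v_out, h5]
      omega
  · intro hp2 H hH hrH
    have h1 := odd_bound_of_uniq D.pp hR₀.pr (r_ne_p hR₀) hf₀.uniq (fun X hX x hx hxo =>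
      D.noNorm (D.prim hR₀) hrz₀ X hX x hx hxo) (fun x hx => hf₀.v_norm_char hn0 D.pp hp2 D.pF hx) H hH hrH
    omega
  · intro hp2 H hH hrH
    have h1 := odd_bound_of_uniq D.pp hR₁.pr (r_ne_p hR₁) hf₁.uniq (fun X hX x hx hxo =>
      v_pgroup_le (by omega) D.pp D.f1 D.hF (D.prim hR₁) (D.ord hR₁) hrz₁ X hX x hx hxo)
      (fun x hx => hf₁.v_norm_char hn1 D.pp hp2 D.pF hx) H hH hrH
    omega
  · intro hp2
    have h2 := v_two_mul_odd D.pp hp2 D.f1
    rw [hvo, hvp]
    have h4 : (n - 1) / 2 * 2 ≤ n - 1 := Nat.div_mul_le_self _ _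
    have h5 : f + (n - 1) ≤ f * (n - 1) + 1 := by
      obtain ⟨a, rfl⟩ : ∃ a, f = a + 1 := ⟨f - 1, by omega⟩
      obtain ⟨m, hm⟩ : ∃ m, n - 1 = m + 1 := ⟨n - 2, by (clear * - hn4 hr01 hp2; omega)⟩
      rw [hm]
      linarith only [Nat.zero_le (a * m)]
    (clear * - hfn h2 h5; omega)
  · intro hp2
    have h2 := v_two_mul_odd D.pp hp2 D.f1
    rw [hvo, hvp]
    have h4 : (n - 2) / 2 * 2 ≤ n - 2 := Nat.div_mul_le_self _ _
    have h5 : f + (n - 1) ≤ f * (n - 1) + 1 := by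
      obtain ⟨a, rfl⟩ : ∃ a, f = a + 1 := ⟨f - 1, by omega⟩
      obtain ⟨m, hm⟩ : ∃ m, n - 1 = m + 1 := ⟨n - 2, by (clear * - hn4 hr01 hp2; omega)⟩
      rw [hm]
      linarith only [Nat.zero_le (a * m)]
    (clear * - hn4 hle hfT h5; omega)
  · intro hp2
    have h2 := v_two_mul_odd D.pp hp2 D.f1
    rw [hvo, hvp]
    have h4 : (n - 2) / 2 * 2 ≤ n - 2 := Nat.div_mul_le_self _ _
    have h6 : (n - 1) / 2 * 2 ≤ n - 1 := Nat.div_mul_le_self _ _
    have h5 : f + (n - 1) ≤ f * (n - 1) + 1 := by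
      obtain ⟨a, rfl⟩ : ∃ a, f = a + 1 := ⟨f - 1, by omega⟩
      obtain ⟨m, hm⟩ : ∃ m, n - 1 = m + 1 := ⟨n - 2, by (clear * - hn4 hr01 hp2; omega)⟩
      rw [hm]
      linarith only [Nat.zero_le (a * m)]
    (clear * - hn4 hvp hfT h2 h4 h6 h5; omega)

end Dat

end Cfsg.Agent.H889.PDL
end

-- part: H889/PDL/Row
section
/-!
# S4246: the row `PSL_n(q)`, `n ≥ 3` (helper889)
-/

set_option autoImplicit false
set_option linter.unusedSectionVars false

namespace Cfsg.Agent.H889.PDL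

open Matrix Module Subgroup Cfsg.Agent.H160.PD
open Cfsg.Agent.ClassicalGeometry.AutPSL.Root
open Cfsg.Agent.ClassicalGeometry.AutPSL.Auto
open Cfsg.Agent.H999.RowPSL (Prim)

variable {F : Type*} [Field F] [Fintype F]

/-- **`L_6(2)`** -/
theorem one_six (D : Dat 6 F 2 1) : One (PS 6 F) 2 31 0 0 0 := by
  have hR := rp_six
  have hrz := D.ndz (k := 5) (by norm_num) hR
  have hP : Prim (Nat.card F) 31 (6 - 1) := D.prim hR
  have hfine : Fine 6 F 31 5 := fine_pred (by norm_num) hrz hP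
  have hq : Nat.card F = 2 := by rw [D.hF, pow_one]
  have hvp := D.v_char
  have hvo := D.v_out_char
  have hle := v_two_mul_le D.pp D.f1
  refine ⟨D.pp, D.good (k := 5) (by norm_num) (by norm_num) hR, ?_, ?_, ?_, fun h => absurd rfl h,
    fun h => absurd rfl h, fun h => absurd rfl h, fun h => absurd rfl h⟩
  · intro x hx
    exact (hfine.v_cent_char (by norm_num) D.pp D.pF hx).le
  · intro b hb hb2 _ x hx hbx
    obtain ⟨A, rfl, g, -, hg, hc⟩ := lin_of_fix (by norm_num) D.pp D.hF hR hrz hb hb2 hx hbx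
    -- the determinant is `1`
    have hdet : (A : Matrix (Fin 6) (Fin 6) F).det = 1 := by
      have h1 : ∀ c : F, c ≠ 0 → c = 1 := by
        intro c hc
        have h2 := FiniteField.pow_card_sub_one_eq_one c hc
        rwa [← Nat.card_eq_fintype_card, hq, show 2 - 1 = 1 from rfl, pow_one] at h2
      exact h1 _ ((Matrix.isUnit_iff_isUnit_det _).1 A.isUnit).ne_zero
    obtain ⟨a, ha⟩ : ∃ a : Matrix.SpecialLinearGroup (Fin 6) F, a.1 = (A : Matrix (Fin 6) (Fin 6) F) :=
      ⟨⟨_, hdet⟩, rfl⟩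
    have hac : a ∈ centralizer {g} := by
      rw [mem_centralizer_singleton_iff]
      apply Subtype.ext
      show a.1 * g.1 = g.1 * a.1
      rw [ha, hc]
    have h1 := (sit_range (by norm_num) hg hP).card_cent_dvd
    have h31 : Nat.card F ^ (6 - 1) - 1 = 31 := by rw [hq]; norm_num
    have hao : orderOf a = 31 := by
      have h2 : orderOf a ∣ 31 := by
        rw [← h31]
        refine dvd_trans ?_ h1
        have h3 := _root_.orderOf_dvd_natCard (⟨a, hac⟩ : (centralizer {g} : Subgroup (Matrix.SpecialLinearGroup (Fin 6) F)))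
        rwa [Subgroup.orderOf_mk] at h3
      rcases (Nat.dvd_prime (by norm_num)).1 h2 with h3 | h3
      · exfalso
        rw [orderOf_eq_one_iff] at h3
        rw [h3] at ha
        exact not_scalar hb (c := 1) (by rw [← ha, map_one]; rfl)
      · exact h3
    have h2 := (sit_range (by norm_num) hao hP).card_cent_dvd
    refine (v_fx_lift_le (cj A) 2).trans ?_
    have h3 : Fx (cj A) ≤ centralizer {a} := by
      intro y hy
      rw [mem_centralizer_singleton_iff]
      apply Subtype.ext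
      show y.1 * a.1 = a.1 * y.1
      rw [ha, mem_fx_cj hy]
    refine (v_mono h3 2).trans ?_
    rw [h31] at h2
    have h4 : ¬ 2 ∣ Nat.card (centralizer {a} : Subgroup (Matrix.SpecialLinearGroup (Fin 6) F)) := by
      intro h
      have := h.trans h2
      revert this; decide
    exact (v_eq_zero h4).le
  · intro b hb hb2 hbp
    have h1 := v_fx_all (by norm_num) D.pp D.f1 D.hF b hb hb2 hbp
    rw [hvo, hvp, max_self, add_zero]
    norm_num only [_root_.Nat.Prime.factorization, _root_.Finsupp.single_eq_same, _root_.Std.le_refl, _root_.gt_iff_lt] at h1 hle ⊢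
    omega

/-- **The row `PSL_n(q)`, `n ≥ 3`.** -/
theorem row_psln {n : ℕ} (hn : 3 ≤ n) (F : Type*) [Field F] [Fintype F]
    [IsSimpleGroup (Matrix.ProjectiveSpecialLinearGroup (Fin n) F)] :
    Row (Matrix.ProjectiveSpecialLinearGroup (Fin n) F) := by
  have hnt : Nontrivial (Fin n) := Fin.nontrivial_iff_two_le.2 (by omega)
  have hZ : center (PS n F) = ⊥ :=
    center_eq_bot (S := PS n F) fun h => H100.AltSyl.psl_not_comm (ι := Fin n) (F := F) fun x y => h.is_comm.comm x y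
  obtain ⟨p, hchar⟩ := CharP.exists F
  have hpp : p.Prime := CharP.char_is_prime F p
  have hpf : Fact p.Prime := ⟨hpp⟩
  obtain ⟨f, -, hf⟩ := FiniteField.card F p
  have D : Dat n F p f := ⟨hn, hpp, f.pos, by rw [Nat.card_eq_fintype_card, hf], hZ⟩
  by_cases hnp : n.Prime
  · obtain ⟨r, hR⟩ := exists_rp hpp D.f1 hn (fun h => by
      rw [h.2.2] at hnp
      revert hnp; decide)
    exact (D.one_prime hnp hR).row hZ
  · have hn4 : 4 ≤ n := by
      rcases hn.eq_or_lt with h | h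
      · exfalso
        rw [← h] at hnp
        exact hnp (by norm_num)
      · exact h
    by_cases h6 : p = 2 ∧ (f : ℕ) = 1 ∧ n = 6
    · obtain ⟨h1, h2, h3⟩ := h6
      subst h3
      subst h1
      rw [h2] at D
      exact (one_six D).row hZ
    · obtain ⟨r₀, hR₀⟩ := exists_rp hpp D.f1 hn h6
      obtain ⟨r₁, hR₁⟩ := exists_rp' hpp D.f1 hn4 hnp
      exact (D.two hn4 hR₀ hR₁).row hZ

/-- **The row `PSL_n(q)`, `n ≥ 3`**, up to isomorphism. -/
theorem row_psl_three (K : Type*) [Group K] [IsSimpleGroup K] {n : ℕ} (hn : 3 ≤ n) (F : Type*) [Field F]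
    [Fintype F] (e : K ≃* Matrix.ProjectiveSpecialLinearGroup (Fin n) F) : Row K := by
  have : IsSimpleGroup (Matrix.ProjectiveSpecialLinearGroup (Fin n) F) := e.symm.isSimpleGroup
  exact (row_psln hn F).congr e

end Cfsg.Agent.H889.PDL
end

-- part: H311/PD/Minus3
section
/-!
# S4246, row `POmega^-_{2n}(q)`: the criterion with two primes (helper311)
-/

set_option autoImplicit false
set_option linter.unusedSectionVars false

namespace Cfsg.Agent.H311.PD

open QuadraticMap Module Subgroup Cfsg.Agent.LieClassical.OrthCore Cfsg.Agent.LieClassical.OrthTrans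
open Cfsg.Agent.ClassicalGeometry.OrthSemi Cfsg.Agent.ClassicalGeometry.OrthAut1
open Cfsg.Agent.H200.LinFix Cfsg.Agent.H200.RowOrth
open Cfsg.Agent.H160.PD (v v_mono v_eq_zero v_pos Fx mem_Fx out Good Two One NoOdd Inc noOdd_of_uniq odd_bound_of_uniq)

variable {F V : Type*} [Field F] [AddCommGroup V] [Module F V] {Q : QuadraticForm F V} [Finite V]

section tori

variable [Finite F] {p f n : ℕ} [hp : Fact p.Prime]

theorem Dat2.cent_p_first (D : Dat2 Q p f n) {l : ℕ} (h : Prm F p f (2 * n) l) {x : P Q} (hx : orderOf x = l) :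
    v p (centralizer ({x} : Set (P Q))) = 0 := by
  have := Fact.mk h.prime
  obtain ⟨y, hy, hy1, rfl⟩ := exists_lift_ord D.good h.prime h.two hx
  have h1 := v_centralizer_mk D.good (h.prime.odd_of_ne_two h.two) hy p
  rw [v_first D.toDat h.two h.cast h.ord hy hy1] at h1
  omega

theorem Dat2.cent_p_second (D : Dat2 Q p f n) {l : ℕ} (h : Prm F p f (2 * (n - 1)) l) {x : P Q}
    (hx : orderOf x = l) : v p (centralizer ({x} : Set (P Q))) ≤ 1 := by
  have := Fact.mk h.prime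
  obtain ⟨y, hy, hy1, rfl⟩ := exists_lift_ord D.good h.prime h.two hx
  exact (v_centralizer_mk D.good (h.prime.odd_of_ne_two h.two) hy p).trans
    (v_second D.toDat h.two h.cast h.ord hy hy1)

theorem Dat2.cent_t_first (D : Dat2 Q p f n) {l : ℕ} (h : Prm F p f (2 * n) l) {x : P Q} (hx : orderOf x = l) (t : ℕ) :
    v t (centralizer ({x} : Set (P Q))) ≤ ((p ^ f) ^ n + 1).factorization t := by
  have hfinE : Finite ↥(E Q) := finite_E
  have := Fact.mk h.prime
  obtain ⟨y, hy, hy1, rfl⟩ := exists_lift_ord D.good h.prime h.two hx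
  have h1 := cent_first D.toDat h.two h.cast h.ord hy hy1
  refine (v_centralizer_mk D.good (h.prime.odd_of_ne_two h.two) hy t).trans ?_
  rw [← D.card]
  exact fac_mono (Nat.succ_ne_zero _) h1.2.2.2

theorem Dat2.cent_t_second (D : Dat2 Q p f n) {l : ℕ} (h : Prm F p f (2 * (n - 1)) l) {x : P Q}
    (hx : orderOf x = l) {t : ℕ} (ht : t.Prime) (ht2 : t ≠ 2) :
    v t (centralizer ({x} : Set (P Q))) ≤ ((p ^ f) ^ (n - 1) + 1).factorization t + (p ^ f - 1).factorization t := by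
  have hfinE : Finite ↥(E Q) := finite_E
  have := Fact.mk h.prime
  obtain ⟨y, hy, hy1, rfl⟩ := exists_lift_ord D.good h.prime h.two hx
  have h1 := cent_second D.toDat h.two h.cast h.ord hy hy1
  refine (v_centralizer_mk D.good (h.prime.odd_of_ne_two h.two) hy t).trans ?_
  have hq : 1 < Nat.card F := Finite.one_lt_card
  have h2 : Nat.card F - 1 ≠ 0 := by omega
  refine (fac_mono (t := t) (mul_ne_zero (Nat.succ_ne_zero _) (mul_ne_zero two_ne_zero h2)) h1.2.2.2.2).trans ?_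
  rw [Nat.factorization_mul (Nat.succ_ne_zero _) (mul_ne_zero two_ne_zero h2),
    Nat.factorization_mul two_ne_zero h2, Finsupp.add_apply, Finsupp.add_apply, ← D.card]
  have h3 : (2 : ℕ).factorization t = 0 :=
    Nat.factorization_eq_zero_of_not_dvd fun h => ht2 ((Nat.prime_dvd_prime_iff_eq ht Nat.prime_two).1 h)
  rw [h3, zero_add]

/-- **The subgroups of odd order, type `2n`.** -/
theorem Dat2.odd_first (D : Dat2 Q p f n) (hp2 : p ≠ 2) {r : ℕ} (hr : Prm F p f (2 * n) r) (H : Subgroup (P Q))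
    (hH : Odd (Nat.card H)) (hrH : r ∣ Nat.card H) : v p H ≤ (2 * n).factorization p := by
  have hfinE : Finite ↥(E Q) := finite_E
  have hn := D.hn
  have hV := D.dim
  have hrF := Fact.mk hr.prime
  have h0 := odd_bound_of_uniq (S := P Q) (a := 0) (b := (2 * n).factorization p) hp.out hr.prime
    (hr.ne_char D.char).symm (D.uniq hr (by omega)) (fun X hX x hx hxo => ?_) (fun x hx => ?_) H hH hrH
  · omega
  · obtain ⟨y, hy, hy1, rfl⟩ := exists_lift_ord D.good hr.prime hr.two hxo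
    have h1 := cent_first D.toDat hr.two hr.cast hr.ord hy hy1
    have h2 := noNorm_of_ti D.good hp2 D.char (ti_of_irr D.good hr.cast hy h1.1 fun v hv _ => by
      rw [h1.2.2.1] at hv
      exact hv) X hX hx
    rw [h2, v, Subgroup.card_bot, Nat.factorization_one]
    rfl
  · refine (fac_mono (mul_ne_zero (Nat.succ_ne_zero _) (by omega)) (D.norm_first hr hx)).trans ?_
    rw [Nat.factorization_mul (Nat.succ_ne_zero _) (by omega), Finsupp.add_apply,
      Nat.factorization_eq_zero_of_not_dvd (not_dvd_pow_add_one hp.out D.hf (by omega)), zero_add]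

/-- **The subgroups of odd order, type `2n - 2`.** -/
theorem Dat2.odd_second (D : Dat2 Q p f n) (hp2 : p ≠ 2) {r : ℕ} (hr : Prm F p f (2 * (n - 1)) r)
    (H : Subgroup (P Q)) (hH : Odd (Nat.card H)) (hrH : r ∣ Nat.card H) :
    v p H ≤ f * (2 * n - 2) + (2 * (n - 1)).factorization p := by
  have hfinE : Finite ↥(E Q) := finite_E
  have hn := D.hn
  have hV := D.dim
  have hrF := Fact.mk hr.prime
  refine odd_bound_of_uniq (S := P Q) hp.out hr.prime
    (hr.ne_char D.char).symm (D.uniq hr (by omega)) (fun X hX x hx hxo => ?_) (fun x hx => ?_) H hH hrH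
  · obtain ⟨y, hy, hy1, rfl⟩ := exists_lift_ord D.good hr.prime hr.two hxo
    obtain ⟨h1, h2, h3, ⟨e, he, he0, hQe⟩, -⟩ := cent_second D.toDat hr.two hr.cast hr.ord hy hy1
    obtain ⟨T, hT, hmap, hnorm⟩ := Cfsg.Agent.SigZeroU5.exists_lift (Subgroup.center ↥(E Q)) le_rfl
      (not_dvd_center D.good hp2) hX
    have h4 := v_norm_plane D.good D.hf D.card hr.two hr.cast hy hy1 h1 h2 h3 he he0 hQe hT
      (fun g => hnorm y hx g)
    rw [hV] at h4
    refine le_trans ?_ h4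
    rw [← hmap]
    exact fac_mono Nat.card_pos.ne' (Subgroup.card_map_dvd _ _)
  · have h0 : (p ^ f - 1) ≠ 0 := by
      have hq : 1 < Nat.card F := Finite.one_lt_card
      rw [D.card] at hq
      omega
    have h1 : ((p ^ f) ^ (n - 1) + 1) * (2 * (p ^ f - 1)) ≠ 0 :=
      mul_ne_zero (Nat.succ_ne_zero _) (mul_ne_zero two_ne_zero h0)
    refine (fac_mono (mul_ne_zero h1 (by omega)) (D.norm_second hr hx)).trans ?_
    rw [Nat.factorization_mul h1 (by omega), Finsupp.add_apply,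
      fac_plane_odd hp.out hp2 D.hf (by omega), zero_add]

/-- **The criterion.** -/
theorem Dat2.two (D : Dat2 Q p f n) {r s : ℕ} (hr : Prm F p f (2 * n) r) (hs : Prm F p f (2 * (n - 1)) s) :
    Two (P Q) p r s 0 1 1 ((2 * n).factorization p) (f * (2 * n - 2) + (2 * (n - 1)).factorization p) := by
  have hfinE : Finite ↥(E Q) := finite_E
  have hn := D.hn
  have hf := D.hf
  have hV := D.dim
  have hrF := Fact.mk hr.prime
  have hsF := Fact.mk hs.prime
  have hvS := D.v_char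
  have hout := D.out_char
  have hnn : f * (3 * n) ≤ f * (n * (n - 1)) := by
    apply Nat.mul_le_mul_left
    rw [mul_comm 3 n]
    exact Nat.mul_le_mul_left _ (by omega)
  have hfn : 3 * n ≤ f * (3 * n) := Nat.le_mul_of_pos_left _ hf
  have hffn : f * 12 ≤ f * (3 * n) := Nat.mul_le_mul_left _ (by omega)
  have hnf : f * (2 * n - 2) + f * 2 + f * n = f * (3 * n) := by
    rw [← mul_add, ← mul_add]
    congr 1
    omega
  refine
    { prime := hp.out
      good₀ := ⟨hr.prime, hr.two, D.good_first hr.prime hr.two (hr.ne_char D.char) (hr.dvd_first D)⟩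
      good₁ := ⟨hs.prime, hs.two, D.good_second hs.prime hs.two (hs.ne_char D.char) (hs.dvd_second D)⟩
      cent₀ := fun x hx => (D.cent_p_first hr hx).le
      cent₁ := fun x hx => D.cent_p_second hs hx
      noOdd := D.noOdd hr hs
      inc := D.inc hr hs
      syl₀ := fun b hb hb2 hbp x hx hbx => ?_
      syl₁ := fun b hb hb2 hbp x hx hbx => ?_
      cc := ?_
      num := fun t ht ht2 htp htS htr hts => ?_
      odd₀ := fun hp2 => D.odd_first hp2 hr
      odd₁ := fun hp2 => D.odd_second hp2 hs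
      n₀ := fun hp2 => ?_
      n₁ := fun hp2 => ?_
      n₀₁ := fun hp2 => ?_ }
  · have h1 := D.syl_first hr hb hb2 hbp hx hbx
    have h2 : f * 5 ≤ f * (2 * n - 2) - f := by
      have h3 : f * 6 ≤ f * (2 * n - 2) := Nat.mul_le_mul_left _ (by omega)
      omega
    simp only [le_refl, max_eq_left]
    omega
  · have h1 := D.syl_second hs hb hb2 hbp hx hbx
    have h2 : f * 5 ≤ f * (2 * n - 2) - f := by
      have h3 : f * 6 ≤ f * (2 * n - 2) := Nat.mul_le_mul_left _ (by omega)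
      omega
    simp only [zero_le, max_eq_right]
    omega
  · rw [hvS]
    omega
  · have hd : t ∣ ((p ^ f) ^ n + 1) * ∏ i ∈ Finset.range (n - 1), ((p ^ f) ^ (2 * (i + 1)) - 1) := by
      have h1 := D.ord
      have h2 : t ∣ (p ^ f) ^ (n * (n - 1)) *
          (((p ^ f) ^ n + 1) * ∏ i ∈ Finset.range (n - 1), ((p ^ f) ^ (2 * (i + 1)) - 1)) := by
        rw [← mul_assoc, ← h1]
        exact Dvd.dvd.mul_left htS _
      rcases ht.dvd_mul.1 h2 with h3 | h3
      · exact absurd ((Nat.prime_dvd_prime_iff_eq ht hp.out).1 (ht.dvd_of_dvd_pow (ht.dvd_of_dvd_pow h3))) htp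
      · exact h3
    have htF := Fact.mk ht
    have htc : (t : F) ≠ 0 := by
      have hc : CharP F p := (CharP.charP_iff_prime_eq_zero hp.out).2 D.char
      exact natCast_ne_of_not_dvd hp.out fun h => htp ((Nat.prime_dvd_prime_iff_eq ht hp.out).1 h)
    rcases num_minus ht ht2 hp.out htp hf hn hd with ⟨h1, h2⟩ | ⟨h1, h2⟩ | h1
    · left
      refine ⟨D.good_first ht ht2 htp h2, fun x hx => ?_⟩
      obtain ⟨y, hy, hy1, rfl⟩ := exists_lift_ord D.good ht ht2 hx
      refine (v_centralizer_mk D.good (ht.odd_of_ne_two ht2) hy p).trans ?_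
      rw [v_first D.toDat ht2 htc (D.card ▸ h1) hy hy1]
      exact zero_le_one
    · left
      refine ⟨D.good_second ht ht2 htp h2, fun x hx => ?_⟩
      obtain ⟨y, hy, hy1, rfl⟩ := exists_lift_ord D.good ht ht2 hx
      exact (v_centralizer_mk D.good (ht.odd_of_ne_two ht2) hy p).trans
        (v_second D.toDat ht2 htc (D.card ▸ h1) hy hy1)
    · right
      intro x y hx hy
      have h2 := D.cent_t_first hr hx t
      have h3 := D.cent_t_second hs hy ht ht2
      rw [D.out_odd ht ht2, D.v_odd ht ht2 htp]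
      omega
  · have h1 := fac_two_mul_le (n := n) hp.out hp2 (by omega)
    rw [hvS]
    omega
  · have h1 := fac_two_mul_le (n := n - 1) hp.out hp2 (by omega)
    have h2 : n ≤ f * n := Nat.le_mul_of_pos_left _ hf
    rw [hvS]
    omega
  · have h1 := fac_two_mul_le (n := n) hp.out hp2 (by omega)
    have h2 := fac_two_mul_le (n := n - 1) hp.out hp2 (by omega)
    have h3 := D.out_char_odd hp2
    have h4 : 1 * (2 * n - 3) ≤ f * (2 * n - 3) := Nat.mul_le_mul_right _ hf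
    have h5 : f * (4 * (n - 1)) ≤ f * (n * (n - 1)) := by
      apply Nat.mul_le_mul_left
      exact Nat.mul_le_mul_right _ hn
    have h6 : f * (4 * (n - 1)) = f * (2 * n - 2) + (f * (2 * n - 3) + f) := by
      obtain ⟨k, rfl⟩ := Nat.exists_eq_add_of_le hn
      have e1 : 4 + k - 1 = k + 3 := by omega
      have e2 : 2 * (4 + k) - 2 = 2 * k + 6 := by omega
      have e3 : 2 * (4 + k) - 3 = 2 * k + 5 := by (clear * -; omega)
      rw [e1, e2, e3]
      ring
    rw [hvS]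
    omega

/-- **The row, `(q, n) ≠ (2, 4)`.** -/
theorem Dat2.row (D : Dat2 Q p f n) (h6 : ¬ (p = 2 ∧ f * (2 * (n - 1)) = 6)) : H160.PD.Row (P Q) := by
  have hfinE : Finite ↥(E Q) := finite_E
  have hn := D.hn
  have := D.simple
  obtain ⟨r, hr⟩ := exists_prm (F := F) (p := p) (f := f) (e := 2 * n) D.card D.char D.hf (by omega) (by
    rintro ⟨-, h⟩
    have h1 : 1 * 8 ≤ f * (2 * n) := Nat.mul_le_mul D.hf (by omega)
    omega)
  obtain ⟨s, hs⟩ := exists_prm (F := F) (p := p) (f := f) (e := 2 * (n - 1)) D.card D.char D.hf (by omega) h6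
  exact (D.two hr hs).row (H160.PD.center_eq_bot D.na)

end tori

end Cfsg.Agent.H311.PD
end

-- part: H311/PD/Minus4
section
/-!
# S4246, row `POmega^-_{2n}(q)` (helper311)

`row_ominus` : the row of the groups `POmega^-_{2n}(q)`.
-/

set_option autoImplicit false
set_option linter.unusedSectionVars false

namespace Cfsg.Agent.H311.PD

open QuadraticMap Module Subgroup Cfsg.Agent.LieClassical.OrthCore Cfsg.Agent.LieClassical.OrthTrans
open Cfsg.Agent.ClassicalGeometry.OrthSemi Cfsg.Agent.ClassicalGeometry.OrthAut1 Cfsg.Agent.AutOrth.Main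
open Cfsg.Agent.H200.LinFix Cfsg.Agent.H200.RowOrth Cfsg.Agent.LieClassical.QuadForms Cfsg.Agent.H208.Dict
open Cfsg.Agent.H160.PD (v v_mono v_eq_zero v_pos Fx mem_Fx out Good Two One NoOdd Inc)

section abs

variable {F V : Type*} [Field F] [AddCommGroup V] [Module F V] {Q : QuadraticForm F V} [Finite V] [Finite F]

/-- **The criterion, `(q, n) = (2, 4)`.** -/
theorem Dat2.one (D : Dat2 Q 2 1 4) {r : ℕ} (hr : Prm F 2 1 (2 * 4) r) : _root_.Cfsg.Agent.H160.PD.One (P Q) 2 r 0 0 0 := by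
  classical
  have hfinE : Finite ↥(E Q) := finite_E
  have hV := D.dim
  have := D.simple
  have hrF := Fact.mk hr.prime
  have hvS := D.v_char
  have hout := D.out_char
  have hcard : Nat.card F = 2 := by rw [D.card]; norm_num
  have hc : CharP F 2 := (CharP.charP_iff_prime_eq_zero Nat.prime_two).2 (by exact_mod_cast D.char)
  have hcast : ∀ t : ℕ, t.Prime → t ≠ 2 → (t : F) ≠ 0 := fun t ht ht2 => by
    have := Fact.mk ht
    exact natCast_ne_of_not_dvd Nat.prime_two fun h => ht2 ((Nat.prime_dvd_prime_iff_eq ht Nat.prime_two).1 h)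
  refine
    { prime := Nat.prime_two
      good := ⟨hr.prime, hr.two, D.good_first hr.prime hr.two (hr.ne_char D.char) (hr.dvd_first D)⟩
      cent := fun x hx => (D.cent_p_first hr hx).le
      reg := fun b hb hb2 hbp x hx hbx => ?_
      syl := fun b hb hb2 hbp => ?_
      odd := fun h => absurd rfl h
      inv := fun h => absurd rfl h
      two₀ := fun h => absurd rfl h
      two₁ := fun h => absurd rfl h }
  · have hbF := Fact.mk hb
    obtain ⟨t, y, ht, ht1, hbt, hy, hy1, -, hty⟩ := lift_aut D.good D.na D.aut hb hb2 hr.two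
      (fun y hy => hr.irrZ D.card (by omega) y hy) hx hbx
    obtain ⟨-, hd, -⟩ := v_comm_first D.toDat hr.two hr.cast hr.ord hy hy1 hb2 ht ht1 hty
    rw [hcard] at hd
    have h17 : orderOf b = 17 := (Nat.prime_dvd_prime_iff_eq hb (by norm_num)).1 hd
    have h1 := v_first D.toDat hb2 (hcast _ hb hb2) (by rw [h17, D.card]; exact ordd_17) ht ht1
    have h2 := v_centralizer_mk D.good (hb.odd_of_ne_two hb2) ht 2
    rw [hbt, Fx_conj]
    omega
  · have hbF := Fact.mk hb
    obtain ⟨M, hM⟩ := D.aut b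
    rcases inner_or_field D.good hb hb2 (M := M) (by rw [← hM]) with ⟨g, hg⟩ | ⟨σ, c, hMs, hσ⟩
    · obtain ⟨t, ht, ht1, hat⟩ := exists_lift_elt D.good hb2 (a := b) rfl (s := g) (by rw [hM, hg]) D.na
      have h1 : v 2 (Fx b) + 2 * 1 ≤ v 2 (P Q) := by
        have h2 := H14.PD.v_Fx_inner D.good (p := 2) (f := 1) D.card D.char
          (card_sing D.good le_rfl D.card) (by omega) hb2 (hcast _ hb hb2) ht ht1
        rwa [← hat] at h2
      rw [hvS] at h1 ⊢
      simp only [max_self]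
      omega
    · exfalso
      apply hσ
      ext x
      have hFt : Fintype F := Fintype.ofFinite F
      have h2 : Fintype.card F = 2 := by rw [← Nat.card_eq_fintype_card, hcard]
      have h3 : x = 0 ∨ x = 1 := by
        by_contra hcon
        push Not at hcon
        have h4 : ({0, 1, x} : Finset F).card ≤ Fintype.card F := Finset.card_le_univ _
        rw [h2, Finset.card_insert_of_notMem (by simp only [hcon.1.symm, _root_.Finset.mem_insert, _root_.zero_ne_one, _root_.Finset.mem_singleton, _root_.or_self, _root_.not_false_eq_true]),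
          Finset.card_insert_of_notMem (by simp [hcon.2.symm]), Finset.card_singleton] at h4
        omega
      rcases h3 with rfl | rfl
      · rw [map_zero]; rfl
      · rw [map_one]; rfl

/-- **The row, abstract form.** -/
theorem Dat2.row' {p f n : ℕ} [hp : Fact p.Prime] (D : Dat2 Q p f n) : H160.PD.Row (P Q) := by
  have hfinE : Finite ↥(E Q) := finite_E
  have hn := D.hn
  have hf := D.hf
  have := D.simple
  by_cases h6 : p = 2 ∧ f * (2 * (n - 1)) = 6
  · obtain ⟨rfl, h6⟩ := h6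
    have hf1 : f = 1 := by
      have h1 : f * 6 ≤ f * (2 * (n - 1)) := Nat.mul_le_mul_left _ (by omega)
      omega
    subst hf1
    have hn4 : n = 4 := by omega
    subst hn4
    obtain ⟨r, hr⟩ := exists_prm (F := F) (p := 2) (f := 1) (e := 2 * 4) D.card D.char D.hf (by norm_num) (by norm_num)
    exact (D.one hr).row (H160.PD.center_eq_bot D.na)
  · exact D.row h6

end abs

universe u

variable {K : Type u} [Group K] [Finite K] [IsSimpleGroup K]

/-- **Row of `POmega^-_{2n}(q)`.** -/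
theorem row_ominus (h : IsPOmegaMinus K) : H160.PD.Row K := by
  obtain ⟨F, _, _, m, a, b, hm, hab, ⟨e⟩⟩ := h
  have hs : IsSimpleGroup (POmega F (quadFormMinus (m - 1) F a b)) := (e.isSimpleGroup_congr).1 inferInstance
  have hcard := S0294.result (F := F) rfl m hm a b hab
  have hsing := S0290.result (F := F) rfl m (by omega) a b hab
  have hall := all_minus (F := F) (m := m - 1) (by omega) hab
  obtain ⟨p, hchar⟩ := CharP.exists F
  obtain ⟨⟨f, hf0⟩, hp, hF⟩ := FiniteField.card F p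
  simp only [PNat.mk_coe] at hF
  have hpF := Fact.mk hp
  have haut := S0818.result (F := F) p f hf0 hF m hm a b hab
  refine H160.PD.Row.congr e ?_
  revert hs hcard hall hsing haut
  rw [← coe_minusForm]
  intro hs hcard hsing hall haut
  have hG : LieClassical.OrthTrans.Good (minusForm (m - 1) F a b) := good_minus (by omega) hab
  have hsP := isSimple_P hG hs
  have hna := not_comm_P hG
  refine H160.PD.Row.congr (pe hG) ?_
  have hfinE : Finite ↥(E (minusForm (m - 1) F a b)) := finite_E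
  have D : Dat2 (minusForm (m - 1) F a b) p f m :=
    { good := hG
      hf := hf0
      card := by rw [Nat.card_eq_fintype_card, hF]
      hn := hm
      dim := by
        rw [Module.finrank_fintype_fun_eq_card]
        simp only [_root_.Fintype.card_sum, _root_.Fintype.card_fin]
        omega
      sing := by
        rw [hsing, Nat.card_eq_fintype_card]
        obtain ⟨k, rfl⟩ := Nat.exists_eq_add_of_le hm
        have h1 : 1 ≤ Fintype.card F := Fintype.card_pos
        have e1 : 4 + k - 1 = k + 3 := by omega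
        have e2 : 2 * (4 + k) - 1 = (4 + k) + (k + 3) := by omega
        rw [e1, e2]
        have h2 : 1 ≤ Fintype.card F ^ (k + 3) := Nat.one_le_pow _ _ h1
        obtain ⟨z, hz⟩ := Nat.exists_eq_add_of_le h2
        have h3 : Fintype.card F ^ (k + 3) - 1 = z := by omega
        have h4 : Fintype.card F ^ (4 + k + (k + 3)) = Fintype.card F ^ (4 + k) * Fintype.card F ^ (k + 3) := pow_add _ _ _
        rw [h3, h4, hz]
        have h5 : Fintype.card F ^ (4 + k) * (1 + z) + (1 + z) - Fintype.card F ^ (4 + k) =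
            Fintype.card F ^ (4 + k) * z + (1 + z) := by
          rw [mul_add, mul_one]
          (clear * -; omega)
        rw [h5]
        ring
      char := CharP.cast_eq_zero F p
      ord := by
        rw [card_P hG, ← hF]
        exact hcard
      out := by
        refine ⟨if p = 2 then 2 else (if Even (m * (p ^ f - 1) / 2) then 4 else 8), ?_, ?_⟩
        · have h1 := out_mul (H160.PD.center_eq_bot hna)
          have h2 : Nat.card (MulAut (P (minusForm (m - 1) F a b))) =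
              Nat.card (MulAut (POmega F ⇑(minusForm (m - 1) F a b))) :=
            Nat.card_congr (MulAut.congr (pe hG)).symm.toEquiv
          rw [h2, haut, ← card_P hG] at h1
          exact Nat.eq_of_mul_eq_mul_right Nat.card_pos h1
        · by_cases hp2 : p = 2
          · left
            rw [if_pos hp2]
          · right
            refine ⟨hp2, ?_⟩
            rw [if_neg hp2]
            split_ifs
            · exact Or.inl rfl
            · exact Or.inr rfl
      aut := exists_gam' hG hall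
      simple := hsP
      na := hna }
  exact D.row'

end Cfsg.Agent.H311.PD
end

-- part: H160/PD/AsmCl
section
/-!
# The rows of S4246 for the alternating and classical groups: assembly (helper160)
-/

set_option autoImplicit false

namespace Cfsg.Agent.H160.PD

open Cfsg

universe u

theorem row_psl (K : Type u) [Group K] [Finite K] [IsSimpleGroup K] (h : IsPSL K) : Row K := by
  obtain ⟨F, _, _, n, hn, h2, ⟨e⟩⟩ := h
  rcases Nat.lt_or_ge n 3 with h3 | h3
  · obtain rfl : n = 2 := by omega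
    have h4 : 4 ≤ Nat.card F := by
      rw [Nat.card_eq_fintype_card]
      exact h2 rfl
    exact (H109.PD.row_psl2 F h4).congr e
  · exact H889.PDL.row_psl_three K h3 F e

theorem row_class (K : Type u) [Group K] [Finite K] [IsSimpleGroup K]
    (h : IsAlternating K ∨ IsPSL K ∨ IsPSp K ∨ IsPSU K ∨ IsPOmegaOdd K ∨ IsPOmegaPlus K ∨ IsPOmegaMinus K) :
    Row K := by
  rcases h with h | h | h | h | h | h | h
  · exact H528.PDAlt.row_alt K h
  · exact row_psl K h
  · exact H767.PD.row_psp K h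
  · exact H715.PDU.row_psu K h
  · exact H898.PDOdd.row_oodd h
  · exact H14.PD.row_oplus h
  · exact H311.PD.row_ominus h

end Cfsg.Agent.H160.PD
end
end

-- part: H446/PD/E7_mg
section
prune_inst 0x613034440080100000040582112020a5440005b000000001c8250b440200602200822940088011054a2a220100010020001000f0400000000a0004000005012088a8100431400004060091800080000000000000000000000000000000000004000000002
set_option linter.all false
open scoped Cfsg.Agent.FastGrp

-- part: H446/PD/Arith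
section
/-!
# S4246, the rows of the exceptional groups: arithmetic, and the centralisers of regular elements (helper446)
-/

set_option autoImplicit false
set_option linter.unusedSectionVars false

namespace Cfsg.Agent.H446.PD

open Subgroup
open Cfsg.Agent.H160.PD

/-- a primitive prime divisor of `p ^ (f h) - 1` -/
structure Pr (p f h l : ℕ) : Prop where
  prime : l.Prime
  iff : ∀ m, l ∣ p ^ m - 1 ↔ f * h ∣ m
  dvd : f * h ∣ l - 1
  ndvd : ¬ l ∣ p

theorem exists_pr {p f h : ℕ} (hp : p.Prime) (hf : 0 < f) (hh : 7 ≤ h) : ∃ l, Pr p f h l := by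
  have hn : 7 ≤ f * h := hh.trans (Nat.le_mul_of_pos_left _ hf)
  obtain ⟨l, hl, h1, h2, h3⟩ := Cfsg.Agent.Lib.Zsigmondy.exists_primitive (a := p) (n := f * h) hp.two_le (by omega)
    (by omega) (by omega)
  exact ⟨l, hl, h1, h2, h3⟩

namespace Pr

variable {p f h l : ℕ} (H : Pr p f h l)
include H

theorem dvd_q (m : ℕ) (hf : 0 < f) : l ∣ (p ^ f) ^ m - 1 ↔ h ∣ m := by
  rw [← pow_mul, H.iff]
  exact Nat.mul_dvd_mul_iff_left hf

theorem lt : f * h < l := by
  have h1 := H.prime.two_le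
  have h2 := Nat.le_of_dvd (by omega) H.dvd
  omega

theorem h_lt (hf : 0 < f) (_hh : 0 < h) : h < l := (Nat.le_mul_of_pos_left _ hf).trans_lt H.lt

theorem ge (hf : 0 < f) (hh : 7 ≤ h) : 11 ≤ l := by
  have h1 := H.h_lt hf (by omega)
  have h2 := H.prime
  by_contra hc
  have h3 : 8 ≤ l := by omega
  have h4 : l ≤ 10 := by omega
  clear H h1 hc
  interval_cases l <;> revert h2 <;> norm_num

theorem ne_p : l ≠ p := fun h1 => H.ndvd (h1 ▸ dvd_rfl)

theorem od (hp : p.Prime) (hf : 0 < f) : orderOf ((p ^ f : ℕ) : ZMod l) = h := by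
  have hr1 : 1 ≤ p ^ f := Nat.one_le_pow _ _ hp.pos
  have key : ∀ m, orderOf ((p ^ f : ℕ) : ZMod l) ∣ m ↔ h ∣ m := by
    intro m
    rw [← Cfsg.Agent.Lib.Zsigmondy.dvd_pow_sub_one_iff hr1, H.dvd_q m hf]
  exact Nat.dvd_antisymm ((key h).2 dvd_rfl) ((key _).1 dvd_rfl)

end Pr

/-- `v_t (q ^ d - 1) > v_t f` for `q = p ^ f`, if `t` divides `q ^ d - 1` -/
theorem fac_lt {p f d t : ℕ} (hp : p.Prime) (hf : 0 < f) (hd : 0 < d) (ht : t.Prime) (h : t ∣ (p ^ f) ^ d - 1) :
    f.factorization t < ((p ^ f) ^ d - 1).factorization t := by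
  have htF := Fact.mk ht
  have h1 : 1 < (p ^ f) ^ d := Nat.one_lt_pow hd.ne' (Nat.one_lt_pow hf.ne' hp.one_lt)
  rw [Nat.lt_iff_add_one_le, ← ht.pow_dvd_iff_le_factorization (by omega)]
  obtain ⟨f', hf'⟩ : ∃ f', f = t ^ f.factorization t * f' := ⟨_, (Nat.ordProj_mul_ordCompl_eq_self f t).symm⟩
  have key : ∀ (k a : ℕ), t ∣ a ^ (t ^ k) - 1 → 1 ≤ a → t ^ (k + 1) ∣ a ^ (t ^ k) - 1 := by
    intro k a hk ha
    have h3 : ((a : ZMod t)) ^ (t ^ k) = 1 := by
      have h4 := (ZMod.natCast_eq_zero_iff _ _).2 hk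
      rw [Nat.cast_sub (Nat.one_le_pow _ _ ha)] at h4
      push_cast at h4
      exact sub_eq_zero.1 h4
    rw [ZMod.pow_card_pow] at h3
    have h4 : ((t : ℕ) : ℤ) ∣ (a : ℤ) - 1 := by
      rw [← ZMod.intCast_zmod_eq_zero_iff_dvd]
      push_cast
      rw [h3, sub_self]
    have h5 := dvd_sub_pow_of_dvd_sub h4 k
    have h6 : 1 ≤ a ^ (t ^ k) := Nat.one_le_pow _ _ ha
    zify [h6]
    rw [one_pow] at h5
    exact h5
  have h2 : (p ^ f) ^ d = (p ^ (f' * d)) ^ (t ^ f.factorization t) := by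
    rw [← pow_mul, ← pow_mul]
    congr 1
    conv_lhs => rw [hf']
    ring
  rw [h2] at h ⊢
  exact key _ _ h (Nat.one_le_pow _ _ hp.pos)

/-! ### centralisers -/

section Grp

open Cfsg.Agent.H129.CycCard

variable {G : Type*} [Group G] [Finite G]

/-- the centralisers of all elements of order `r` -/
theorem cent_of {r m d : ℕ} (hr : r.Prime) (h : CycCard G r m d) {x : G} (hx : orderOf x = r) :
    IsCyclic ↥(centralizer ({x} : Set G)) ∧ Nat.card ↥(centralizer ({x} : Set G)) ∣ m := by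
  have hrF := Fact.mk hr
  obtain ⟨T, hT, hTm, -, hrT, hTc⟩ := h
  have key : ∃ c : G, c * x * c⁻¹ ∈ T := by
    obtain ⟨⟨y, hyT⟩, hy⟩ := exists_prime_orderOf_dvd_card' r hrT
    have hyo : orderOf y = r := by rw [← hy]; exact (Subgroup.orderOf_mk y hyT).symm
    have hyC := hTc y hyT hyo
    have hyc : IsCyclic ↥(centralizer ({y} : Set G)) :=
      isCyclic_of_injective (Subgroup.inclusion hyC) (Subgroup.inclusion_injective hyC)
    obtain ⟨P, hP⟩ := Cfsg.Agent.H719.cyclic_sylow_of_cent hyo hyc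
    have conj : ∀ z : G, orderOf z = r → ∃ g : G, g * z * g⁻¹ ∈ (P : Subgroup G) := by
      intro z hz
      obtain ⟨Q, hQ⟩ := (isPGroup_zpowers hz).exists_le_sylow
      obtain ⟨g, rfl⟩ := MulAction.exists_smul_eq G P Q
      refine ⟨g⁻¹, ?_⟩
      have h1 : z ∈ ((g • P : Sylow r G) : Subgroup G) := hQ (mem_zpowers z)
      rw [Sylow.coe_subgroup_smul, Subgroup.mem_pointwise_smul_iff_inv_smul_mem] at h1
      simpa only [_root_.inv_inv, _root_.MulAut.smul_def, _root_.MulAut.inv_apply, _root_.MulAut.conj_symm_apply] using h1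
    have ho : ∀ (g z : G), orderOf (g * z * g⁻¹) = orderOf z := fun g z =>
      MulEquiv.orderOf_eq (MulAut.conj g) z
    obtain ⟨g, hg⟩ := conj x hx
    obtain ⟨k, hk⟩ := conj y hyo
    have h1 : (⟨g * x * g⁻¹, hg⟩ : (P : Subgroup G)) ∈ zpowers (⟨k * y * k⁻¹, hk⟩ : (P : Subgroup G)) := by
      apply mem_zpowers_of_cyclic
      rw [Subgroup.orderOf_mk, Subgroup.orderOf_mk, ho, ho, hx, hyo]
    obtain ⟨i, hi⟩ := h1
    have h2 : (k * y * k⁻¹) ^ i = g * x * g⁻¹ := congrArg Subtype.val hi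
    refine ⟨k⁻¹ * g, ?_⟩
    have h3 : (k⁻¹ * g) * x * (k⁻¹ * g)⁻¹ = y ^ i := by
      have h4 : (k⁻¹ * g) * x * (k⁻¹ * g)⁻¹ = k⁻¹ * (g * x * g⁻¹) * k := by group
      rw [h4, ← h2, conj_zpow]; group
    rw [h3]
    exact zpow_mem hyT i
  obtain ⟨c, hc⟩ := key
  have hco : orderOf (c * x * c⁻¹) = r := by rw [← hx]; exact MulEquiv.orderOf_eq (MulAut.conj c) x
  have hC := hTc _ hc hco
  have hmem : ∀ y : ↥(centralizer ({x} : Set G)),
      ((MulAut.conj c).toMonoidHom.comp (centralizer ({x} : Set G)).subtype) y ∈ T := by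
    rintro ⟨y, hy⟩
    apply hC
    rw [mem_centralizer_singleton_iff] at hy ⊢
    show c * y * c⁻¹ * (c * x * c⁻¹) = c * x * c⁻¹ * (c * y * c⁻¹)
    have h1 : c * y * c⁻¹ * (c * x * c⁻¹) = c * (y * x) * c⁻¹ := by group
    have h2 : c * x * c⁻¹ * (c * y * c⁻¹) = c * (x * y) * c⁻¹ := by group
    rw [h1, h2, hy]
  have hinj : Function.Injective
      (((MulAut.conj c).toMonoidHom.comp (centralizer ({x} : Set G)).subtype).codRestrict T hmem) := by
    intro a b hab
    have h1 := congrArg Subtype.val hab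
    exact Subtype.ext ((MulAut.conj c).injective h1)
  exact ⟨isCyclic_of_injective _ hinj, (Subgroup.card_dvd_of_injective _ hinj).trans hTm⟩

/-- the normaliser, if the fusion is controlled by a group of order `w` -/
theorem norm_of {r w : ℕ} (hr : r.Prime)
    (hw : ∀ (x g : G) (k : ℕ), orderOf x = r → g * x * g⁻¹ = x ^ k → k ^ w ≡ 1 [MOD r]) {x : G} (hx : orderOf x = r) :
    Nat.card ↥(normalizer ((zpowers x : Subgroup G) : Set G)) ∣ Nat.card ↥(centralizer ({x} : Set G)) * w := by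
  refine card_normalizer_dvd hr hx fun y hy => ?_
  have h1 : y * x * y⁻¹ ∈ zpowers x := (mem_normalizer_iff.1 hy x).1 (mem_zpowers x)
  rw [← mem_powers_iff_mem_zpowers] at h1
  obtain ⟨k, hk⟩ := h1
  have hk' : y * x * y⁻¹ = x ^ k := hk.symm
  have h2 := hw x y k hx hk'
  have h3 : ∀ j : ℕ, y ^ j * x * (y ^ j)⁻¹ = x ^ (k ^ j) := by
    intro j
    induction j with
    | zero => simp
    | succ j ih =>
      have h4 : y ^ (j + 1) * x * (y ^ (j + 1))⁻¹ = y ^ j * (y * x * y⁻¹) * (y ^ j)⁻¹ := by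
        rw [pow_succ]; group
      rw [h4, hk', ← conj_pow, ih, ← pow_mul, ← pow_succ]
  have h5 : x ^ (k ^ w) = x ^ 1 := (pow_eq_pow_iff_modEq).2 (by rw [hx]; exact h2)
  have h6 := h3 w
  rw [h5, pow_one, mul_inv_eq_iff_eq_mul] at h6
  rw [mem_centralizer_singleton_iff]
  exact h6

/-- **The local data at a prime `l`** with cyclic centralisers of order dividing `N`. -/
structure At (G : Type*) [Group G] (l N w : ℕ) : Prop where
  prime : l.Prime
  cyc : ∀ x : G, orderOf x = l → IsCyclic ↥(centralizer ({x} : Set G))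
  card : ∀ x : G, orderOf x = l → Nat.card ↥(centralizer ({x} : Set G)) ∣ N
  norm : ∀ x : G, orderOf x = l →
    Nat.card ↥(normalizer ((zpowers x : Subgroup G) : Set G)) ∣ Nat.card ↥(centralizer ({x} : Set G)) * w
  ndvd : ¬ l ∣ w

theorem At.of_cycCard {l m d N w : ℕ} (hl : l.Prime) (h : CycCard G l m d) (hm : m ∣ N)
    (hw : ∀ (x g : G) (k : ℕ), orderOf x = l → g * x * g⁻¹ = x ^ k → k ^ w ≡ 1 [MOD l]) (hlw : ¬ l ∣ w) : At G l N w :=
  ⟨hl, fun _ hx => (cent_of hl h hx).1, fun _ hx => (cent_of hl h hx).2.trans hm, fun _ hx => norm_of hl hw hx, hlw⟩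

theorem At.noOdd {S : Type*} [Group S] [Finite S] {r s N M w : ℕ} (A : At S r N w) (B : At S s M w) (h1 : ¬ s ∣ N)
    (h2 : ¬ r ∣ M) (hrs : r ≠ s) : NoOdd S r s := by
  refine noOdd_of_uniq A.prime B.prime hrs (uniq_of_cyclic A.cyc) (uniq_of_cyclic B.cyc) (fun x hx hd => ?_)
    (fun x hx hd => ?_)
  · rcases B.prime.dvd_mul.1 (hd.trans (A.norm x hx)) with h | h
    · exact h1 (h.trans (A.card x hx))
    · exact B.ndvd h
  · rcases A.prime.dvd_mul.1 (hd.trans (B.norm x hx)) with h | h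
    · exact h2 (h.trans (B.card x hx))
    · exact A.ndvd h

/-- an inner automorphism fixing an element -/
theorem inner_dvd {S : Type*} [Group S] [Finite S] (hZ : center S = ⊥) {l N w : ℕ} (A : At S l N w) {g x : S}
    (hx : orderOf x = l) (h : MulAut.conj g x = x) : orderOf (MulAut.conj g : MulAut S) ∣ N := by
  rw [orderOf_injective (MulAut.conj : S →* MulAut S) (_root_.Cfsg.Agent.H160.PD.conj_injective hZ) g]
  have hg : g ∈ centralizer ({x} : Set S) := by
    rw [mem_centralizer_singleton_iff]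
    rw [MulAut.conj_apply, mul_inv_eq_iff_eq_mul] at h
    exact h
  have h1 : orderOf g ∣ Nat.card ↥(centralizer ({x} : Set S)) := by
    rw [← Subgroup.orderOf_mk g hg]
    exact _root_.orderOf_dvd_natCard _
  exact h1.trans (A.card x hx)

theorem At.inc {S : Type*} [Group S] [Finite S] (hZ : center S = ⊥) {r s N M w : ℕ} (A : At S r N w)
    (B : At S s M w)
    (hd : ∀ b : MulAut S, (orderOf b).Prime → orderOf b ≠ 2 →
      (∃ g, b = MulAut.conj g) ∨ ∀ y : S, orderOf y = r → b y ≠ y)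
    (hco : ∀ t, t.Prime → t ≠ 2 → t ∣ N → t ∣ M → False) : Inc S r s := by
  intro b hb hb2 x hx hbx y hy hby
  rcases hd b hb hb2 with ⟨g, rfl⟩ | h
  · exact hco _ hb hb2 (inner_dvd hZ A hx hbx) (inner_dvd hZ B hy hby)
  · exact h x hx hbx

/-- a prime dividing the order of the centraliser of `y`: then the order of `y` divides `N` -/
theorem At.dvd_of {S : Type*} [Group S] [Finite S] {l N w : ℕ} (A : At S l N w) {y : S}
    (h : l ∣ Nat.card ↥(centralizer ({y} : Set S))) : orderOf y ∣ N := by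
  have hlF := Fact.mk A.prime
  obtain ⟨⟨x, hxy⟩, hx⟩ := exists_prime_orderOf_dvd_card' l h
  have hxo : orderOf x = l := by rw [← hx]; exact (Subgroup.orderOf_mk x hxy).symm
  rw [mem_centralizer_singleton_iff] at hxy
  have hy : y ∈ centralizer ({x} : Set S) := by
    rw [mem_centralizer_singleton_iff]
    exact hxy.symm
  have h1 : orderOf y ∣ Nat.card ↥(centralizer ({x} : Set S)) := by
    rw [← Subgroup.orderOf_mk y hy]
    exact _root_.orderOf_dvd_natCard _
  exact h1.trans (A.card x hxo)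

end Grp

end Cfsg.Agent.H446.PD
end

-- part: H446/PD/E7
section
/-!
# S4246, the row of `E₇(q)` (helper446)

`row_e7` : `Row K` for `K ≃ E₇(q)`, with the criterion `row_four`, the four primes being primitive prime divisors of
`q¹⁸ - 1`, `q¹⁴ - 1` | `q⁹ - 1`, `q⁷ - 1`.
-/

set_option autoImplicit false
set_option linter.unusedSectionVars false

namespace Cfsg.Agent.H446.PD.E7

open Subgroup Cfsg Cfsg.Lie Cfsg.Lie.ChevalleyDatum
open Cfsg.Agent.ChevalleyStructure Cfsg.Agent.ChevalleyStructure.Elts Cfsg.Agent.ChevalleyStructure.CoxeterGeom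
  Cfsg.Agent.ChevalleyStructure.CoxeterGeomTypes
open Cfsg.Agent.Nodes.RGDChev
open Cfsg.Agent.H129.TorusChar Cfsg.Agent.H129.CycCard
open Cfsg.Agent.H568 Cfsg.Agent.H568.FldExc Cfsg.Agent.H719
open Cfsg.Agent.H160.PD (Good NoOdd Inc out row_four v v_pos v_eq_zero center_eq_bot)
open Cfsg.Agent.H378.CycTab Cfsg.Agent.H872.AutWeyl

universe u

/-! ### arithmetic -/

section Arith

variable {q t : ℕ}

theorem cast_add {n : ℕ} (h : t ∣ q ^ n + 1) : (q : ZMod t) ^ n + 1 = 0 := by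
  have h1 := (ZMod.natCast_eq_zero_iff _ _).2 h
  push_cast at h1
  exact h1

theorem cast_sub {n : ℕ} (hq : 1 ≤ q) (h : t ∣ q ^ n - 1) : (q : ZMod t) ^ n - 1 = 0 := by
  have h1 := (ZMod.natCast_eq_zero_iff _ _).2 h
  rw [Nat.cast_sub (Nat.one_le_pow _ _ hq)] at h1
  push_cast at h1
  exact h1

theorem two_ne (ht : t.Prime) (ht2 : t ≠ 2) : (2 : ZMod t) ≠ 0 := by
  intro h
  have h1 : ((2 : ℕ) : ZMod t) = 0 := by exact_mod_cast h
  rw [ZMod.natCast_eq_zero_iff] at h1
  exact ht2 ((Nat.prime_dvd_prime_iff_eq ht Nat.prime_two).1 h1)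

theorem co99 (hq : 1 ≤ q) (ht : t.Prime) (ht2 : t ≠ 2) (h1 : t ∣ q ^ 9 + 1) (h2 : t ∣ q ^ 9 - 1) : False := by
  apply two_ne ht ht2
  linear_combination cast_add h1 - cast_sub hq h2

theorem co77 (hq : 1 ≤ q) (ht : t.Prime) (ht2 : t ≠ 2) (h1 : t ∣ q ^ 7 + 1) (h2 : t ∣ q ^ 7 - 1) : False := by
  apply two_ne ht ht2
  linear_combination cast_add h1 - cast_sub hq h2

theorem co97 (hq : 1 ≤ q) (ht : t.Prime) (ht2 : t ≠ 2) (h1 : t ∣ q ^ 9 + 1) (h2 : t ∣ q ^ 7 - 1) : False := by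
  apply two_ne ht ht2
  have e1 := cast_add h1
  have e2 := cast_sub hq h2
  generalize (q : ZMod t) = x at e1 e2
  linear_combination (1 - (x - 1) * (x ^ 5 - x ^ 3 + x)) * e1 +
    (-x ^ 2 + (x - 1) + (x - 1) * x ^ 2 * (x ^ 5 - x ^ 3 + x)) * e2

theorem co79 (hq : 1 ≤ q) (ht : t.Prime) (ht2 : t ≠ 2) (h1 : t ∣ q ^ 7 + 1) (h2 : t ∣ q ^ 9 - 1) : False := by
  apply two_ne ht ht2
  have e1 := cast_add h1
  have e2 := cast_sub hq h2
  generalize (q : ZMod t) = x at e1 e2
  linear_combination (x ^ 2 * (1 - (x + 1) * (x ^ 5 - x ^ 3 + x)) + (x + 1)) * e1 -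
    (1 - (x + 1) * (x ^ 5 - x ^ 3 + x)) * e2

theorem of_cast (hq : 1 ≤ q) {n : ℕ} (h : (q : ZMod t) ^ n = 1) : t ∣ q ^ n - 1 := by
  rw [← ZMod.natCast_eq_zero_iff, Nat.cast_sub (Nat.one_le_pow _ _ hq)]
  push_cast
  rw [h, sub_self]

theorem two_of_add (hq : 1 ≤ q) (h1 : t ∣ q ^ 9 + 1) (h2 : t ∣ q ^ 7 + 1) : t ∣ q ^ 2 - 1 := by
  apply of_cast hq
  linear_combination (q : ZMod t) ^ 2 * cast_add h2 - cast_add h1

theorem two_of_sub (hq : 1 ≤ q) (h1 : t ∣ q ^ 9 - 1) (h2 : t ∣ q ^ 7 - 1) : t ∣ q ^ 2 - 1 := by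
  apply of_cast hq
  linear_combination cast_sub hq h1 - (q : ZMod t) ^ 2 * cast_sub hq h2

theorem e18 (hq : 1 ≤ q) : q ^ 18 - 1 = (q ^ 9 + 1) * (q ^ 9 - 1) := by
  have h1 : 1 ≤ q ^ 9 := Nat.one_le_pow _ _ hq
  have h2 : 1 ≤ q ^ 18 := Nat.one_le_pow _ _ hq
  zify [h1, h2]; ring

theorem e14 (hq : 1 ≤ q) : q ^ 14 - 1 = (q ^ 7 + 1) * (q ^ 7 - 1) := by
  have h1 : 1 ≤ q ^ 7 := Nat.one_le_pow _ _ hq
  have h2 : 1 ≤ q ^ 14 := Nat.one_le_pow _ _ hq
  zify [h1, h2]; ring

theorem dvd14 (hq : 1 ≤ q) (h : t ∣ q ^ 2 - 1) : t ∣ q ^ 14 - 1 := by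
  rw [Cfsg.Agent.Lib.Zsigmondy.dvd_pow_sub_one_iff hq] at h ⊢
  exact h.trans (by norm_num)

end Arith

/-! ### the local data -/

section Loc

variable {F : Type u} [Field F] [Fintype F] {p f w l : ℕ}

theorem at_of {m N h : ℕ} (hf : 0 < f) (hF : Fintype.card F = p ^ f)
    (hw1 : ∀ n : ℕ, n.Prime → 11 ≤ n → ¬ n ∣ w)
    (hw2 : ∀ (F : Type u) (_ : Field F) (_ : Finite F) (x g : ↥(chevE7.group F)) (ℓ k : ℕ), ℓ.Prime → ¬ ℓ ∣ Nat.card F →
      orderOf x = ℓ → g * x * g⁻¹ = x ^ k → k ^ w ≡ 1 [MOD ℓ]) (hh : 7 ≤ h) (H : Pr p f h l)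
    (hC : CycCard ↥(chevE7.group F) l m (Nat.gcd 2 (p ^ f - 1))) (hm : m ∣ N) : At ↥(chevE7.group F) l N w := by
  have : Finite ↥(chevE7.group F) := finite_group _ F
  refine At.of_cycCard H.prime hC hm (fun x g k hx hk => hw2 F _ inferInstance x g l k H.prime ?_ hx hk)
    (hw1 l H.prime (H.ge hf hh))
  rw [Nat.card_eq_fintype_card, hF]
  intro h1
  exact H.ndvd (H.prime.dvd_of_dvd_pow h1)

variable (hp : p.Prime) (hf : 0 < f) (hF : Fintype.card F = p ^ f)
    (hw1 : ∀ n : ℕ, n.Prime → 11 ≤ n → ¬ n ∣ w)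
    (hw2 : ∀ (F : Type u) (_ : Field F) (_ : Finite F) (x g : ↥(chevE7.group F)) (ℓ k : ℕ), ℓ.Prime → ¬ ℓ ∣ Nat.card F →
      orderOf x = ℓ → g * x * g⁻¹ = x ^ k → k ^ w ≡ 1 [MOD ℓ])
include hp hf hF hw1 hw2

theorem at18 (H : Pr p f 18 l) : At ↥(chevE7.group F) l ((p ^ f) ^ 9 + 1) w := by
  obtain ⟨q, hq⟩ : ∃ q, p ^ f = q := ⟨_, rfl⟩
  have hq1 : 1 ≤ q := hq ▸ Nat.one_le_pow _ _ hp.pos
  have h2 : q ^ 3 ≤ q ^ 6 + 1 := (Nat.pow_le_pow_right hq1 (by norm_num)).trans (Nat.le_succ _)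
  have h1 := dvd18 H.prime (H.od hp hf)
  rw [pv18, hq] at h1
  have hm : (((q ^ 6 + 1 - q ^ 3) * (q + 1) : ℕ) : ℤ) = (1 - (q : ℤ) ^ 3 + (q : ℤ) ^ 6) * ((q : ℤ) + 1) := by
    rw [Nat.cast_mul, Nat.cast_sub h2]
    push_cast
    ring
  have hne : l ≠ 3 := by have := H.ge hf (by norm_num); omega
  have hC := card_E7_18 (hF.trans hq) hm H.prime (by convert h1 using 1; ring) hne
  have hd : (q ^ 6 + 1 - q ^ 3) * (q + 1) ∣ q ^ 9 + 1 := by
    refine Int.natCast_dvd_natCast.1 ⟨(q : ℤ) ^ 2 - q + 1, ?_⟩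
    rw [hm]; push_cast; ring
  subst hq
  exact at_of hf hF hw1 hw2 (by norm_num) H hC hd

theorem at14 (H : Pr p f 14 l) : At ↥(chevE7.group F) l ((p ^ f) ^ 7 + 1) w := by
  obtain ⟨q, hq⟩ : ∃ q, p ^ f = q := ⟨_, rfl⟩
  have h1 := H378.CycTab.dvd14 H.prime (H.od hp hf)
  rw [pv14, hq] at h1
  have hm : ((q ^ 7 + 1 : ℕ) : ℤ) = (q : ℤ) ^ 7 + 1 := by push_cast; ring
  have hne : l ≠ 7 := by have := H.ge hf (by norm_num); omega
  have hC := card_E7_14 (hF.trans hq) hm H.prime (by convert h1 using 1; ring) hne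
  subst hq
  exact at_of hf hF hw1 hw2 (by norm_num) H hC dvd_rfl

theorem at9 (H : Pr p f 9 l) : At ↥(chevE7.group F) l ((p ^ f) ^ 9 - 1) w := by
  obtain ⟨q, hq⟩ : ∃ q, p ^ f = q := ⟨_, rfl⟩
  have hq1 : 1 ≤ q := hq ▸ Nat.one_le_pow _ _ hp.pos
  have h2 : 1 ≤ q ^ 9 := Nat.one_le_pow _ _ hq1
  have h1 := dvd9 H.prime (H.od hp hf)
  rw [pv9, hq] at h1
  have hm : (((1 + q ^ 3 + q ^ 6) * (q - 1) : ℕ) : ℤ) = (1 + (q : ℤ) ^ 3 + (q : ℤ) ^ 6) * ((q : ℤ) - 1) := by
    rw [Nat.cast_mul, Nat.cast_sub hq1]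
    push_cast
    ring
  have hne : l ≠ 3 := by have := H.ge hf (by norm_num); omega
  have hC := card_E7_9 (hF.trans hq) hm H.prime (by convert h1 using 1; ring) hne
  have hd : (1 + q ^ 3 + q ^ 6) * (q - 1) ∣ q ^ 9 - 1 := by
    refine Int.natCast_dvd_natCast.1 ⟨(q : ℤ) ^ 2 + q + 1, ?_⟩
    rw [hm, Nat.cast_sub h2]; push_cast; ring
  subst hq
  exact at_of hf hF hw1 hw2 (by norm_num) H hC hd

theorem at7 (H : Pr p f 7 l) : At ↥(chevE7.group F) l ((p ^ f) ^ 7 - 1) w := by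
  obtain ⟨q, hq⟩ : ∃ q, p ^ f = q := ⟨_, rfl⟩
  have hq1 : 1 ≤ q := hq ▸ Nat.one_le_pow _ _ hp.pos
  have h2 : 1 ≤ q ^ 7 := Nat.one_le_pow _ _ hq1
  have h1 := dvd7 H.prime (H.od hp hf)
  rw [pv7, hq] at h1
  have hm : ((q ^ 7 - 1 : ℕ) : ℤ) = (q : ℤ) ^ 7 - 1 := by rw [Nat.cast_sub h2]; push_cast; ring
  have hne : l ≠ 7 := by have := H.ge hf (by norm_num); omega
  have hC := card_E7_7 (hF.trans hq) hm H.prime (by convert h1 using 1; ring) hne
  subst hq
  exact at_of hf hF hw1 hw2 (by norm_num) H hC dvd_rfl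

end Loc

/-! ### the orders -/

section Ord

variable {F : Type u} [Field F] [Fintype F] {p f t : ℕ}

theorem fac_S (hp : p.Prime) (hf : 0 < f) (hF : Fintype.card F = p ^ f) (ht : t.Prime) (ht2 : t ≠ 2) :
    v t ↥(chevE7.group F) = 63 * (p ^ f).factorization t + ((p ^ f) ^ 2 - 1).factorization t +
      ((p ^ f) ^ 6 - 1).factorization t + ((p ^ f) ^ 8 - 1).factorization t + ((p ^ f) ^ 10 - 1).factorization t +
      ((p ^ f) ^ 12 - 1).factorization t + ((p ^ f) ^ 14 - 1).factorization t + ((p ^ f) ^ 18 - 1).factorization t := by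
  have : Finite ↥(chevE7.group F) := finite_group _ F
  have h1 := Cfsg.Agent.S1064.result hF
  have hq2 : 1 < p ^ f := Nat.one_lt_pow hf.ne' hp.one_lt
  generalize p ^ f = q at *
  have hne : ∀ d, d ≠ 0 → q ^ d - 1 ≠ 0 := fun d hd => by
    have := Nat.one_lt_pow hd hq2
    omega
  have hg : ¬ t ∣ Nat.gcd 2 (q - 1) := fun h => ht2
    ((Nat.prime_dvd_prime_iff_eq ht Nat.prime_two).1 (h.trans (Nat.gcd_dvd_left _ _)))
  have hg0 : Nat.gcd 2 (q - 1) ≠ 0 := Nat.gcd_ne_zero_left (by norm_num)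
  have h2 := congrArg (fun n => n.factorization t) h1
  have hq0 : q ^ 63 ≠ 0 := pow_ne_zero _ (by omega)
  have a2 := hne 2 (by norm_num)
  have a6 := hne 6 (by norm_num)
  have a8 := hne 8 (by norm_num)
  have a10 := hne 10 (by norm_num)
  have a12 := hne 12 (by norm_num)
  have a14 := hne 14 (by norm_num)
  have a18 := hne 18 (by norm_num)
  have b1 := mul_ne_zero hq0 a2
  have b2 := mul_ne_zero b1 a6
  have b3 := mul_ne_zero b2 a8
  have b4 := mul_ne_zero b3 a10
  have b5 := mul_ne_zero b4 a12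
  have b6 := mul_ne_zero b5 a14
  beta_reduce at h2
  rw [Nat.factorization_mul hg0 Nat.card_pos.ne', Nat.factorization_mul b6 a18, Nat.factorization_mul b5 a14,
    Nat.factorization_mul b4 a12, Nat.factorization_mul b3 a10, Nat.factorization_mul b2 a8,
    Nat.factorization_mul b1 a6, Nat.factorization_mul hq0 a2, Nat.factorization_pow] at h2
  simp only [Finsupp.add_apply, Finsupp.smul_apply, smul_eq_mul, Nat.factorization_eq_zero_of_not_dvd hg, zero_add] at h2
  exact h2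

theorem fac_out (hp : p.Prime) (hf : 0 < f) (hF : Fintype.card F = p ^ f) (ht : t.Prime) (ht2 : t ≠ 2) :
    (out ↥(chevE7.group F)).factorization t = f.factorization t := by
  have : Fact p.Prime := ⟨hp⟩
  have h1 : out ↥(chevE7.group F) = Nat.gcd 2 (p ^ f - 1) * f := H70.OutE.card_out_E7 hF
  have hg : ¬ t ∣ Nat.gcd 2 (p ^ f - 1) := fun h => ht2
    ((Nat.prime_dvd_prime_iff_eq ht Nat.prime_two).1 (h.trans (Nat.gcd_dvd_left _ _)))
  have hg0 : Nat.gcd 2 (p ^ f - 1) ≠ 0 := Nat.gcd_ne_zero_left (by norm_num)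
  rw [h1, Nat.factorization_mul hg0 hf.ne', Finsupp.add_apply, Nat.factorization_eq_zero_of_not_dvd hg, zero_add]

theorem out_lt (hp : p.Prime) (hf : 0 < f) (hF : Fintype.card F = p ^ f) (ht : t.Prime) (ht2 : t ≠ 2)
    (htS : t ∣ Nat.card ↥(chevE7.group F)) : (out ↥(chevE7.group F)).factorization t < v t ↥(chevE7.group F) := by
  have : Finite ↥(chevE7.group F) := finite_group _ F
  rw [fac_out hp hf hF ht ht2]
  have h1 := (v_pos (X := ↥(chevE7.group F)) ht).2 htS
  have h2 := fac_S hp hf hF ht ht2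
  by_cases htp : t = p
  · subst htp
    have h3 : (t ^ f).factorization t = f := by
      rw [Nat.factorization_pow, Finsupp.smul_apply, ht.factorization_self, smul_eq_mul, mul_one]
    have h4 := Nat.factorization_lt (n := f) t hf.ne'
    omega
  · have h0 : (p ^ f).factorization t = 0 := Nat.factorization_eq_zero_of_not_dvd fun h =>
      htp ((Nat.prime_dvd_prime_iff_eq ht hp).1 (ht.dvd_of_dvd_pow h))
    have key : ∀ d, 0 < d → ((p ^ f) ^ d - 1).factorization t ≠ 0 →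
        f.factorization t < ((p ^ f) ^ d - 1).factorization t := fun d hd h3 =>
      fac_lt hp hf hd ht (Nat.dvd_of_factorization_pos h3)
    have k2 := key 2 (by norm_num)
    have k6 := key 6 (by norm_num)
    have k8 := key 8 (by norm_num)
    have k10 := key 10 (by norm_num)
    have k12 := key 12 (by norm_num)
    have k14 := key 14 (by norm_num)
    have k18 := key 18 (by norm_num)
    omega

theorem dvd_S (hp : p.Prime) (hf : 0 < f) (hF : Fintype.card F = p ^ f) (ht : t.Prime) (ht2 : t ≠ 2)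
    (h : t ∣ (p ^ f) ^ 18 - 1 ∨ t ∣ (p ^ f) ^ 14 - 1) : t ∣ Nat.card ↥(chevE7.group F) := by
  have : Finite ↥(chevE7.group F) := finite_group _ F
  rw [← v_pos ht, fac_S hp hf hF ht ht2]
  have hq2 : 1 < p ^ f := Nat.one_lt_pow hf.ne' hp.one_lt
  have hne : ∀ d, d ≠ 0 → (p ^ f) ^ d - 1 ≠ 0 := fun d hd => by
    have := Nat.one_lt_pow hd hq2
    omega
  rcases h with h | h
  · have := (ht.dvd_iff_one_le_factorization (hne 18 (by norm_num))).1 h
    omega
  · have := (ht.dvd_iff_one_le_factorization (hne 14 (by norm_num))).1 h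
    omega

end Ord

/-! ### the row -/

theorem row_group {F : Type u} [Field F] [Fintype F] [IsSimpleGroup ↥(chevE7.group F)] :
    Cfsg.Agent.H160.PD.Row ↥(chevE7.group F) := by
  obtain ⟨p, hpc⟩ := CharP.exists F
  have hpF : Fact p.Prime := ⟨CharP.char_is_prime F p⟩
  obtain ⟨⟨f, hf⟩, -, hF⟩ := FiniteField.card F p
  rw [PNat.mk_coe] at hF
  have hp := hpF.1
  have hfin : Finite ↥(chevE7.group F) := finite_group _ F
  have hna : ¬ IsMulCommutative ↥(chevE7.group F) := (Cfsg.Agent.S1054.result chevE7 (by simp)).2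
  have hZ : center ↥(chevE7.group F) = ⊥ := Cfsg.Agent.H160.PD.center_eq_bot hna
  obtain ⟨w, hw1, hw2⟩ := small_E7.{u}
  obtain ⟨r₀, H₀⟩ := exists_pr (h := 18) hp hf (by norm_num)
  obtain ⟨r₁, H₁⟩ := exists_pr (h := 14) hp hf (by norm_num)
  obtain ⟨s₀, H₂⟩ := exists_pr (h := 9) hp hf (by norm_num)
  obtain ⟨s₁, H₃⟩ := exists_pr (h := 7) hp hf (by norm_num)
  have A₀ := at18 hp hf hF hw1 hw2 H₀
  have A₁ := at14 hp hf hF hw1 hw2 H₁
  have A₂ := at9 hp hf hF hw1 hw2 H₂
  have A₃ := at7 hp hf hF hw1 hw2 H₃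
  have hq1 : 1 ≤ p ^ f := Nat.one_le_pow _ _ hp.pos
  have g₀ := H₀.ge hf (by norm_num)
  have g₁ := H₁.ge hf (by norm_num)
  have g₂ := H₂.ge hf (by norm_num)
  have g₃ := H₃.ge hf (by norm_num)
  have n₀ : r₀ ≠ 2 := by omega
  have n₁ : r₁ ≠ 2 := by omega
  have n₂ : s₀ ≠ 2 := by omega
  have n₃ : s₁ ≠ 2 := by omega
  -- the primes divide the order
  have good : ∀ {l : ℕ}, l.Prime → l ≠ 2 → (l ∣ (p ^ f) ^ 18 - 1 ∨ l ∣ (p ^ f) ^ 14 - 1) →
      Good ↥(chevE7.group F) l := fun hl hl2 h => ⟨hl, hl2, out_lt hp hf hF hl hl2 (dvd_S hp hf hF hl hl2 h)⟩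
  have G₀ : Good ↥(chevE7.group F) r₀ := good H₀.prime n₀ (Or.inl ((H₀.dvd_q 18 hf).2 (by norm_num)))
  have G₁ : Good ↥(chevE7.group F) r₁ := good H₁.prime n₁ (Or.inr ((H₁.dvd_q 14 hf).2 (by norm_num)))
  have G₂ : Good ↥(chevE7.group F) s₀ := good H₂.prime n₂ (Or.inl ((H₂.dvd_q 18 hf).2 (by norm_num)))
  have G₃ : Good ↥(chevE7.group F) s₁ := good H₃.prime n₃ (Or.inr ((H₃.dvd_q 14 hf).2 (by norm_num)))
  -- the divisibilities
  have d9 : ∀ t, t ∣ (p ^ f) ^ 9 + 1 → t ∣ (p ^ f) ^ 18 - 1 := fun t h => by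
    rw [e18 hq1]; exact h.mul_right _
  have d7 : ∀ t, t ∣ (p ^ f) ^ 7 + 1 → t ∣ (p ^ f) ^ 14 - 1 := fun t h => by
    rw [e14 hq1]; exact h.mul_right _
  have e01 : ¬ r₁ ∣ (p ^ f) ^ 9 + 1 := fun h => by
    have := (H₁.dvd_q 18 hf).1 (d9 _ h); norm_num at this
  have e02 : ¬ s₀ ∣ (p ^ f) ^ 9 + 1 := fun h =>
    co99 hq1 H₂.prime n₂ h ((H₂.dvd_q 9 hf).2 (by norm_num))
  have e03 : ¬ s₁ ∣ (p ^ f) ^ 9 + 1 := fun h => by
    have := (H₃.dvd_q 18 hf).1 (d9 _ h); norm_num at this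
  have e10 : ¬ r₀ ∣ (p ^ f) ^ 7 + 1 := fun h => by
    have := (H₀.dvd_q 14 hf).1 (d7 _ h); norm_num at this
  have e12 : ¬ s₀ ∣ (p ^ f) ^ 7 + 1 := fun h => by
    have := (H₂.dvd_q 14 hf).1 (d7 _ h); norm_num at this
  have e13 : ¬ s₁ ∣ (p ^ f) ^ 7 + 1 := fun h =>
    co77 hq1 H₃.prime n₃ h ((H₃.dvd_q 7 hf).2 (by norm_num))
  have e20 : ¬ r₀ ∣ (p ^ f) ^ 9 - 1 := fun h => by
    have := (H₀.dvd_q 9 hf).1 h; norm_num at this
  have e21 : ¬ r₁ ∣ (p ^ f) ^ 9 - 1 := fun h => by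
    have := (H₁.dvd_q 9 hf).1 h; norm_num at this
  have e23 : ¬ s₁ ∣ (p ^ f) ^ 9 - 1 := fun h => by
    have := (H₃.dvd_q 9 hf).1 h; norm_num at this
  have e30 : ¬ r₀ ∣ (p ^ f) ^ 7 - 1 := fun h => by
    have := (H₀.dvd_q 7 hf).1 h; norm_num at this
  have e31 : ¬ r₁ ∣ (p ^ f) ^ 7 - 1 := fun h => by
    have := (H₁.dvd_q 7 hf).1 h; norm_num at this
  have e32 : ¬ s₀ ∣ (p ^ f) ^ 7 - 1 := fun h => by
    have := (H₂.dvd_q 7 hf).1 h; norm_num at this
  -- the primes are distinct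
  have neq : ∀ {l l' h h' : ℕ}, Pr p f h l → Pr p f h' l' → h ≠ h' → l ≠ l' := by
    rintro l l' h h' H H' hne rfl
    exact hne ((H.od hp hf).symm.trans (H'.od hp hf))
  -- the dichotomy
  have hp' : IsType chevE7 7 CoxeterMatrix.E₇ := by simp [IsType, typeList]
  have dic : ∀ {l h : ℕ}, Pr p f h l → 7 ≤ h → ∀ b : MulAut ↥(chevE7.group F), (orderOf b).Prime → orderOf b ≠ 2 →
      (∃ g, b = MulAut.conj g) ∨ ∀ y : ↥(chevE7.group F), orderOf y = l → b y ≠ y := by
    intro l h H hh b hb hb2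
    have hl11 := H.ge hf hh
    rcases dich hp' hF hf invC_E7 (by norm_num) (AutInv.inv_E7 _) ordF_E7 hb hb2
      (Or.inl ((Nat.coprime_primes hb Nat.prime_two).2 hb2)) (pow_orderOf_eq_one b) with ⟨s, hs⟩ | ⟨-, h3⟩
    · exact Or.inl ⟨s, hs⟩
    · refine Or.inr fun y hy => h3 y ?_
      rw [hy]
      refine ⟨H.prime, H.ne_p, (Nat.coprime_primes H.prime Nat.prime_two).2 (by omega), h,
        fun m hm => (H.iff m).1 hm, ?_⟩
      simp only [List.forall_mem_cons, List.not_mem_nil]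
      refine ⟨?_, ?_, ?_, ?_, ?_, ?_, ?_, fun x h => h.elim⟩ <;> (clear * - hh; omega)
  refine row_four hZ G₀ G₁ G₂ G₃ (A₀.noOdd A₁ e01 e10 (neq H₀ H₁ (by norm_num)))
    (A₂.noOdd A₃ e23 e32 (neq H₂ H₃ (by norm_num))) (A₀.noOdd A₂ e02 e20 (neq H₀ H₂ (by norm_num)))
    (A₀.noOdd A₃ e03 e30 (neq H₀ H₃ (by norm_num))) (A₁.noOdd A₂ e12 e21 (neq H₁ H₂ (by norm_num)))
    (A₀.inc hZ A₂ (dic H₀ (by norm_num)) fun t ht ht2 => co99 hq1 ht ht2)
    (A₀.inc hZ A₃ (dic H₀ (by norm_num)) fun t ht ht2 => co97 hq1 ht ht2)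
    (A₁.inc hZ A₂ (dic H₁ (by norm_num)) fun t ht ht2 => co79 hq1 ht ht2) ?_
  intro t ht ht2 htS _ _ _ _
  by_cases h2 : t ∣ (p ^ f) ^ 2 - 1
  · right
    intro x y hx hy
    have h3 : v t ↥(centralizer ({x} : Set ↥(chevE7.group F))) ≤ ((p ^ f) ^ 9 + 1).factorization t :=
      (Nat.factorization_le_iff_dvd Nat.card_pos.ne' (by omega)).2 (A₀.card x hx) t
    have hq2 : 1 < (p ^ f) ^ 9 := Nat.one_lt_pow (by norm_num) (Nat.one_lt_pow hf.ne' hp.one_lt)
    have h4 : v t ↥(centralizer ({y} : Set ↥(chevE7.group F))) ≤ ((p ^ f) ^ 9 - 1).factorization t :=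
      (Nat.factorization_le_iff_dvd Nat.card_pos.ne' (by omega)).2 (A₂.card y hy) t
    have h5 : ((p ^ f) ^ 18 - 1).factorization t =
        ((p ^ f) ^ 9 + 1).factorization t + ((p ^ f) ^ 9 - 1).factorization t := by
      rw [e18 hq1, Nat.factorization_mul (by omega) (by omega), Finsupp.add_apply]
    have h6 := fac_lt hp hf (d := 14) (by norm_num) ht (dvd14 hq1 h2)
    rw [fac_out hp hf hF ht ht2, fac_S hp hf hF ht ht2]
    omega
  · left
    refine ⟨out_lt hp hf hF ht ht2 htS, fun y hy => ⟨?_, ?_⟩⟩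
    · by_contra hc
      push Not at hc
      have h3 := A₀.dvd_of hc.1
      have h4 := A₁.dvd_of hc.2
      rw [hy] at h3 h4
      exact h2 (two_of_add hq1 h3 h4)
    · by_contra hc
      push Not at hc
      have h3 := A₂.dvd_of hc.1
      have h4 := A₃.dvd_of hc.2
      rw [hy] at h3 h4
      exact h2 (two_of_sub hq1 h3 h4)

end Cfsg.Agent.H446.PD.E7

namespace Cfsg.Agent.H446.PD

open Cfsg Cfsg.Lie

universe u

/-- **The row of `E₇(q)`.** -/
theorem row_e7 (K : Type u) [Group K] [Finite K] [hK : IsSimpleGroup K] (h : Lie.IsoE7 K) :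
    Cfsg.Agent.H160.PD.Row K := by
  obtain ⟨F, _, _, ⟨e⟩⟩ := h
  have : IsSimpleGroup ↥(chevE7.group F) := (MulEquiv.isSimpleGroup_congr e).1 hK
  exact Cfsg.Agent.H160.PD.Row.congr e E7.row_group

end Cfsg.Agent.H446.PD
end

-- part: H71/PD/Tori
section
/-!
# S4246: `NoOdd` and `Inc` from isolated cyclic tori (helper71)

`IsoT T t N` (helper92): `T` is cyclic of order `t` and contains the centralisers of its elements of prime order dividing
`N`.  `wn T = |N(T) : T|`.

* `exists_conj` : for a prime `r ∣ N` every `r`-subgroup is conjugate to a subgroup of `T`;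
* `noOdd` : two tori `T`, `T'`, primes `r ∣ N`, `s ∣ N'`, `s` prime to `|N(T)|`, `r` prime to `|N(T')|`: `NoOdd S r s`;
* `inner_false` : an element `≠ 1` does not commute with elements of order `r` and `s` (`t = N`, `t' = N'`, `t ≠ t'`).
-/

set_option autoImplicit false
set_option linter.unusedSectionVars false

namespace Cfsg.Agent.H71.PD

open Subgroup
open Cfsg.Agent.H92.PRegT (IsoT Iso wn)
open Cfsg.Agent.H160.PD

universe u

variable {S : Type u} [Group S] [Finite S] {T T' : Subgroup S} {t t' N N' r s : ℕ}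

theorem not_dvd_index (h : IsoT T t N) (hr : r.Prime) (hrN : r ∣ N) : ¬ r ∣ T.index := by
  intro hd
  have h1 : wn T * (normalizer (T : Set S)).index = T.index := relIndex_mul_index le_normalizer
  rw [← h1, hr.dvd_mul] at hd
  rcases hd with hd | hd
  · have h2 : wn T ≠ 0 := index_ne_zero_of_finite
    have h3 := Nat.le_of_dvd (Nat.pos_of_ne_zero h2) hd
    have h4 := h.wn_lt hr hrN
    omega
  · have h2 := h.index_modEq hr hrN
    have h3 : (normalizer (T : Set S)).index ≡ 0 [MOD r] := (Nat.modEq_zero_iff_dvd).2 hd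
    have h4 : 1 ≡ 0 [MOD r] := h2.symm.trans h3
    exact hr.one_lt.ne' (Nat.dvd_one.1 ((Nat.modEq_zero_iff_dvd).1 h4))

/-- every `r`-subgroup is conjugate to a subgroup of `T` -/
theorem exists_conj (h : IsoT T t N) (hr : r.Prime) (hrN : r ∣ N) {V : Subgroup S} (hV : IsPGroup r ↥V) :
    ∃ g : S, ∀ v ∈ V, g⁻¹ * v * g ∈ T := by
  have := Fact.mk hr
  obtain ⟨c, hc⟩ := hV.nonempty_fixed_point_of_prime_not_dvd_card (S ⧸ T) (not_dvd_index h hr hrN)
  obtain ⟨g, rfl⟩ := QuotientGroup.mk_surjective c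
  refine ⟨g, fun v hv => ?_⟩
  have h1 : (QuotientGroup.mk (v * g) : S ⧸ T) = QuotientGroup.mk g := hc ⟨v, hv⟩
  have h2 := QuotientGroup.eq.1 h1.symm
  rwa [← mul_assoc] at h2

/-- `T`-elements of order divisible by `r` are good -/
theorem good_of (hr : r.Prime) (hrN : r ∣ N) {y : S} (hy : y ∈ T) (hd : r ∣ orderOf y) :
    Cfsg.Agent.H92.PRegT.Good T N y :=
  ⟨hy, fun hc => hr.one_lt.ne' (Nat.dvd_one.1 (hc ▸ Nat.dvd_gcd hd hrN))⟩

/-- an element normalising a nontrivial `r`-subgroup -/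
theorem orderOf_dvd (h : IsoT T t N) (hr : r.Prime) (hrN : r ∣ N) {V : Subgroup S} (hV : IsPGroup r ↥V)
    (hne : V ≠ ⊥) {y : S} (hy : ∀ v ∈ V, y * v * y⁻¹ ∈ V) : orderOf y ∣ wn T * t := by
  obtain ⟨g, hg⟩ := exists_conj h hr hrN hV
  obtain ⟨⟨v, hv⟩, hv1⟩ : ∃ v : ↥V, v ≠ 1 := by
    have := (nontrivial_iff_ne_bot V).2 hne
    exact exists_ne 1
  have hv1' : v ≠ 1 := fun h0 => hv1 (Subtype.ext h0)
  have hrv : r ∣ orderOf v := by
    obtain ⟨k, hk⟩ := hV ⟨v, hv⟩
    have h1 : v ^ r ^ k = 1 := congrArg Subtype.val hk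
    obtain ⟨j, -, hj⟩ := (Nat.dvd_prime_pow hr).1 (orderOf_dvd_of_pow_eq_one h1)
    rcases Nat.eq_zero_or_pos j with rfl | h0
    · rw [pow_zero, orderOf_eq_one_iff] at hj
      exact absurd hj hv1'
    · rw [hj]
      exact dvd_pow_self r h0.ne'
  have ho : orderOf (g⁻¹ * v * g) = orderOf v := by
    have := orderOf_injective (MulAut.conj g⁻¹).toMonoidHom (MulAut.conj g⁻¹).injective v
    simpa only [_root_.map_inv, _root_.MulEquiv.toMonoidHom_eq_coe, _root_.MonoidHom.coe_coe, _root_.MulAut.inv_apply, _root_.MulAut.conj_symm_apply] using this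
  have hgood := good_of (T := T) (N := N) hr hrN (hg v hv) (by rw [ho]; exact hrv)
  have h2 : g⁻¹ * y * g ∈ normalizer (T : Set S) := by
    refine h.mem_normalizer hgood ?_
    have h3 := hg _ (hy v hv)
    have h4 : g⁻¹ * y * g * (g⁻¹ * v * g) * (g⁻¹ * y * g)⁻¹ = g⁻¹ * (y * v * y⁻¹) * g := by group
    rw [h4]
    exact h3
  have h3 : orderOf (g⁻¹ * y * g) = orderOf y := by
    have := orderOf_injective (MulAut.conj g⁻¹).toMonoidHom (MulAut.conj g⁻¹).injective y
    simpa only [_root_.map_inv, _root_.MulEquiv.toMonoidHom_eq_coe, _root_.MonoidHom.coe_coe, _root_.MulAut.inv_apply, _root_.MulAut.conj_symm_apply] using this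
  rw [← h3, ← h.card, ← Cfsg.Agent.H92.PRegT.card_normalizer, ← orderOf_mk _ h2]
  exact _root_.orderOf_dvd_natCard _

/-- the centraliser of an element of order `r` -/
theorem centralizer_conj (h : IsoT T t N) (hr : r.Prime) (hrN : r ∣ N) {x : S} (hx : orderOf x = r) :
    ∃ g : S, ∀ z : S, z * x = x * z ↔ g⁻¹ * z * g ∈ T := by
  have := Fact.mk hr
  have hV : IsPGroup r ↥(zpowers x) := IsPGroup.of_card (n := 1) (by rw [Nat.card_zpowers, hx, pow_one])
  obtain ⟨g, hg⟩ := exists_conj h hr hrN hV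
  have ho : orderOf (g⁻¹ * x * g) = r := by
    have := orderOf_injective (MulAut.conj g⁻¹).toMonoidHom (MulAut.conj g⁻¹).injective x
    rw [← hx]
    simpa only [_root_.map_inv, _root_.MulEquiv.toMonoidHom_eq_coe, _root_.MonoidHom.coe_coe, _root_.MulAut.inv_apply, _root_.MulAut.conj_symm_apply] using this
  have hgood := good_of (T := T) (N := N) hr hrN (hg x (mem_zpowers x)) (by rw [ho])
  refine ⟨g, fun z => ?_⟩
  rw [← h.centralizer hgood, mem_centralizer_singleton_iff]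
  constructor
  · intro hz
    calc g⁻¹ * z * g * (g⁻¹ * x * g) = g⁻¹ * (z * x) * g := by group
      _ = g⁻¹ * x * g * (g⁻¹ * z * g) := by rw [hz]; group
  · intro hz
    have h1 : g⁻¹ * (z * x) * g = g⁻¹ * (x * z) * g := by
      calc g⁻¹ * (z * x) * g = g⁻¹ * z * g * (g⁻¹ * x * g) := by group
        _ = g⁻¹ * (x * z) * g := by rw [hz]; group
    have h2 := mul_right_cancel h1
    exact mul_left_cancel h2

/-- an element `≠ 1` does not commute with elements of order `r` and `s` -/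
theorem inner_false (h : IsoT T t t) (h' : IsoT T' t' t') (htt : t ≠ t') (hr : r.Prime) (hrt : r ∣ t) (hs : s.Prime)
    (hst : s ∣ t') {x y z : S} (hx : orderOf x = r) (hy : orderOf y = s) (hz : z ≠ 1) (hzx : z * x = x * z)
    (hzy : z * y = y * z) : False := by
  have key : ∀ {T : Subgroup S} {t r : ℕ} {x : S}, IsoT T t t → r.Prime → r ∣ t → orderOf x = r → z * x = x * z →
      Nat.card ↥(centralizer {z}) = t := by
    intro T t r x h hr hrt hx hzx
    obtain ⟨g, hg⟩ := centralizer_conj h hr hrt hx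
    have h1 := (hg z).1 hzx
    have ho : orderOf (g⁻¹ * z * g) = orderOf z := by
      have := orderOf_injective (MulAut.conj g⁻¹).toMonoidHom (MulAut.conj g⁻¹).injective z
      simpa only [_root_.map_inv, _root_.MulEquiv.toMonoidHom_eq_coe, _root_.MonoidHom.coe_coe, _root_.MulAut.inv_apply, _root_.MulAut.conj_symm_apply] using this
    have h2 : orderOf z ≠ 1 := fun h0 => hz (orderOf_eq_one_iff.1 h0)
    obtain ⟨l, hl, hlz⟩ := Nat.exists_prime_and_dvd h2
    have h3 : orderOf (g⁻¹ * z * g) ∣ t := by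
      rw [← h.card, ← orderOf_mk _ h1]
      exact _root_.orderOf_dvd_natCard _
    have h4 := h.centralizer (good_of (N := t) hl ((ho ▸ hlz : l ∣ orderOf (g⁻¹ * z * g)).trans h3) h1 (ho ▸ hlz))
    have h5 : (centralizer {z}).map (MulAut.conj g⁻¹).toMonoidHom = T := by
      rw [← h4]
      have := Cfsg.Agent.H92.PRegT.map_centralizer (MulAut.conj g⁻¹) z
      rw [this]
      congr 2
      simp only [_root_.map_inv, _root_.MulAut.inv_apply, _root_.MulAut.conj_symm_apply]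
    rw [← h.card, ← h5]
    exact Nat.card_congr ((centralizer {z}).equivMapOfInjective _ (MulAut.conj g⁻¹).injective).toEquiv
  exact htt ((key h hr hrt hx hzx).symm.trans (key h' hs hst hy hzy))

/-- **`NoOdd` from two tori** -/
theorem noOdd (h : IsoT T t N) (h' : IsoT T' t' N') (hr : r.Prime) (hrN : r ∣ N) (hs : s.Prime) (hsN : s ∣ N')
    (h1 : ¬ s ∣ wn T * t) (h2 : ¬ r ∣ wn T' * t') : NoOdd S r s := by
  classical
  intro H hodd hrH hsH
  have hrs : r ≠ s := by
    rintro rfl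
    exact h1 ((hrN.trans h.dvd).mul_left _)
  have hsol : Group.IsSolvable ↥H := Cfsg.Agent.S0205.result hodd
  -- a Hall `{r, s}`-subgroup
  obtain ⟨a, m, hm, hHm⟩ := Nat.exists_eq_pow_mul_and_not_dvd (n := Nat.card ↥H) Nat.card_pos.ne' r hr.ne_one
  have hm0 : m ≠ 0 := by
    rintro rfl
    exact hm (dvd_zero r)
  obtain ⟨b, n, hn, hmn⟩ := Nat.exists_eq_pow_mul_and_not_dvd (n := m) hm0 s hs.ne_one
  have hnr : ¬ r ∣ n := fun h0 => hm (hmn ▸ h0.mul_left _)
  have ha : a ≠ 0 := by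
    rintro rfl
    rw [pow_zero, one_mul] at hHm
    exact hm (hHm ▸ hrH)
  have hb : b ≠ 0 := by
    rintro rfl
    rw [pow_zero, one_mul] at hmn
    rw [hHm, hs.prime.dvd_mul, hmn] at hsH
    rcases hsH with h0 | h0
    · exact hrs ((Nat.prime_dvd_prime_iff_eq hs hr).1 (hs.dvd_of_dvd_pow h0)).symm
    · exact hn h0
  have hcop : (r ^ a * s ^ b).Coprime n := by
    refine Nat.Coprime.mul_left ?_ ?_
    · exact Nat.Coprime.pow_left _ ((Nat.Prime.coprime_iff_not_dvd hr).2 hnr)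
    · exact Nat.Coprime.pow_left _ ((Nat.Prime.coprime_iff_not_dvd hs).2 hn)
  obtain ⟨H0, hH0, -⟩ := Cfsg.Agent.S0005.result (G := ↥H) (r ^ a * s ^ b) n (by rw [hHm, hmn, mul_assoc]) hcop ⊥
    (by rw [card_bot]; exact Nat.coprime_one_left _)
  have hsol0 : Group.IsSolvable ↥H0 := inferInstance
  have hr0 : r ∣ Nat.card ↥H0 := by rw [hH0]; exact (dvd_pow_self r ha).mul_right _
  have hs0 : s ∣ Nat.card ↥H0 := by rw [hH0]; exact (dvd_pow_self s hb).mul_left _
  have hnt : Nontrivial ↥H0 := by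
    rw [← Finite.one_lt_card_iff_nontrivial]
    have h0 := Nat.le_of_dvd Nat.card_pos hr0
    have h3 := hr.one_lt
    omega
  obtain ⟨l, V, hl, hVn, hVl, -, hVb⟩ := Cfsg.Agent.Lib.SolvableNormalP.exists_normal_pSubgroup ↥H0
  have := Fact.mk hl
  -- elements of order `r`, `s`
  have hex : ∀ {p : ℕ}, p.Prime → p ∣ Nat.card ↥H0 → ∃ y : ↥H0, orderOf y = p := by
    intro p hp hpd
    have := Fact.mk hp
    exact exists_prime_orderOf_dvd_card' p hpd
  let ι : ↥H0 →* S := H.subtype.comp H0.subtype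
  have hι : Function.Injective ι := fun a b hab => Subtype.ext (Subtype.ext hab)
  have hV' : IsPGroup l ↥(V.map ι) := hVl.map _
  have hne : V.map ι ≠ ⊥ := fun h0 => hVb ((map_eq_bot_iff_of_injective V hι).1 h0)
  have hnorm : ∀ y : ↥H0, ∀ v ∈ V.map ι, ι y * v * (ι y)⁻¹ ∈ V.map ι := by
    rintro y _ ⟨v, hv, rfl⟩
    refine ⟨y * v * y⁻¹, hVn.conj_mem v hv y, ?_⟩
    rw [map_mul, map_mul, map_inv]
  have hlc : l = r ∨ l = s := by
    obtain ⟨k, hk⟩ := (IsPGroup.iff_card (p := l)).1 hVl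
    have hk0 : k ≠ 0 := by
      rintro rfl
      rw [pow_zero] at hk
      exact hVb ((card_eq_one).1 hk)
    have h3 : l ∣ r ^ a * s ^ b := by
      rw [← hH0]
      exact ((dvd_pow_self l hk0).trans (dvd_of_eq hk.symm)).trans (card_subgroup_dvd_card V)
    rcases hl.dvd_mul.1 h3 with h4 | h4
    · exact Or.inl ((Nat.prime_dvd_prime_iff_eq hl hr).1 (hl.dvd_of_dvd_pow h4))
    · exact Or.inr ((Nat.prime_dvd_prime_iff_eq hl hs).1 (hl.dvd_of_dvd_pow h4))
  rcases hlc with rfl | rfl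
  · obtain ⟨y, hy⟩ := hex hs hs0
    have h3 := orderOf_dvd h hr hrN hV' hne (hnorm y)
    rw [orderOf_injective ι hι, hy] at h3
    exact h1 h3
  · obtain ⟨y, hy⟩ := hex hr hr0
    have h3 := orderOf_dvd h' hs hsN hV' hne (hnorm y)
    rw [orderOf_injective ι hι, hy] at h3
    exact h2 h3

end Cfsg.Agent.H71.PD
end

-- part: H71/PD/E8
section
/-!
# S4246: the row of `E₈(q)` (helper71)

`row_three` with the primitive prime divisors of `q ^ 15 - 1`, `q ^ 24 - 1`, `q ^ 30 - 1` (primitive over the prime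
field) and the isolated cyclic tori of orders `Φ₁₅(q)`, `Φ₂₄(q)`, `Φ₃₀(q)`.
-/

set_option autoImplicit false
set_option linter.unusedSectionVars false

namespace Cfsg.Agent.H71.PD

open Subgroup
open Cfsg.Agent.H92.PRegT (IsoT Iso wn)
open Cfsg.Agent.H160.PD

universe u

/-- the data of an isolated torus of order `N` and a prime `l` -/
structure TorD (S : Type u) [Group S] (l N w : ℕ) : Prop where
  good : Good S l
  tor : ∃ T : Subgroup S, IsoT T N N ∧ wn T ≤ w
  dvd : l ∣ N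
  inn : ∀ b : MulAut S, (orderOf b).Prime → orderOf b ≠ 2 → ∀ x : S, orderOf x = l → b x = x → ∃ g, b = MulAut.conj g
  cop : ∀ k, 0 < k → k ≤ w → ¬ l ∣ k

theorem TorD.pair {S : Type u} [Group S] [Finite S] {l l' N N' w : ℕ} (h : TorD S l N w) (h' : TorD S l' N' w)
    (h1 : ¬ l' ∣ N) (h2 : ¬ l ∣ N') : NoOdd S l l' ∧ Inc S l l' := by
  obtain ⟨T, hT, hw⟩ := h.tor
  obtain ⟨T', hT', hw'⟩ := h'.tor
  have hpos : ∀ T : Subgroup S, 0 < wn T := fun T => Nat.pos_of_ne_zero index_ne_zero_of_finite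
  refine ⟨noOdd hT hT' h.good.prime h.dvd h'.good.prime h'.dvd ?_ ?_, ?_⟩
  · rw [h'.good.prime.dvd_mul]
    rintro (h3 | h3)
    · exact h'.cop _ (hpos T) hw h3
    · exact h1 h3
  · rw [h.good.prime.dvd_mul]
    rintro (h3 | h3)
    · exact h.cop _ (hpos T') hw' h3
    · exact h2 h3
  · intro b hb hb2 x hx hbx y hy hby
    obtain ⟨g, rfl⟩ := h.inn b hb hb2 x hx hbx
    have hg1 : g ≠ 1 := by
      rintro rfl
      rw [map_one, orderOf_one] at hb
      exact Nat.not_prime_one hb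
    have hc : ∀ z : S, MulAut.conj g z = z → g * z = z * g := by
      intro z hz
      rw [MulAut.conj_apply] at hz
      exact mul_inv_eq_iff_eq_mul.1 hz
    exact inner_false hT hT' (fun h0 => h1 (h0 ▸ h'.dvd)) h.good.prime h.dvd h'.good.prime h'.dvd hx hy hg1
      (hc x hbx) (hc y hby)

namespace E8

open Cfsg Cfsg.Lie Cfsg.Lie.ChevalleyDatum
open Cfsg.Agent.ChevalleyStructure Cfsg.Agent.ChevalleyStructure.Elts Cfsg.Agent.ChevalleyStructure.CoxeterGeom
  Cfsg.Agent.ChevalleyStructure.CoxeterGeomTypes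
open Cfsg.Agent.Nodes.RGDChev
open Cfsg.Agent.H129.TorusChar
open Cfsg.Agent.H568.FldExc Cfsg.Agent.H719

variable {F : Type u} [Field F] [Fintype F] {r e : ℕ} [Fact r.Prime] [CharP F r]

theorem finE8 : Finite ↥(chevE8.group F) := by
  have : Finite (Matrix.GeneralLinearGroup chevE8.Idx F) := inferInstance
  infer_instance

theorem cast_pow_sub {q : ℕ} (hq : 2 ≤ q) (d : ℕ) : ((q ^ d - 1 : ℕ) : ℤ) = (q : ℤ) ^ d - 1 := by
  rw [Nat.cast_sub (Nat.one_le_pow _ _ (by omega))]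
  push_cast; rfl

/-- the tori -/
theorem exists_tor {q N w : ℕ} (hF : Fintype.card F = q) (hex : Cfsg.Agent.H129.CycT.CycExact ↥(chevE8.group F) N)
    (hN1 : N ≠ 1)
    (hw : ∃ M : ℤ, Cfsg.Agent.H92.PRegE8.P8 (q : ℤ) = (N : ℤ) * M ∧ (N : ℤ) ∣ M - w) :
    ∃ T : Subgroup ↥(chevE8.group F), IsoT T N N ∧ wn T ≤ w := by
  have := finE8 (F := F)
  obtain ⟨T, h1, h2, h3⟩ := hex
  have hT : IsoT T N N := ⟨h1, h2, dvd_rfl, fun r hr _ y hy hyr => (h3 y hy (by
    rintro rfl
    rw [orderOf_one] at hyr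
    exact hr.one_lt.ne hyr)).le⟩
  refine ⟨T, hT, ?_⟩
  obtain ⟨p, hp, hpN⟩ := Nat.exists_prime_and_dvd hN1
  have hq2 : 2 ≤ q := by rw [← hF]; exact Fintype.one_lt_card
  have hN0 : 0 < N := h2 ▸ Nat.card_pos
  have hc : (Nat.card ↥(chevE8.group F) : ℤ) = Cfsg.Agent.H92.PRegE8.P8 q := by
    rw [Cfsg.Agent.S1065.result hF]
    simp only [Nat.cast_mul, cast_pow_sub hq2]
    unfold Cfsg.Agent.H92.PRegE8.P8
    push_cast; ring
  have h4 := Cfsg.Agent.H92.PRegE8.modw (S := ↥(chevE8.group F)) (q := q) rfl hN0 hc hw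
  exact hT.wn_le hp hpN (h4.of_dvd hpN)

/-- **The data for one prime.** -/
theorem torD (hq : Fintype.card F = r ^ e) (he : 0 < e) {m N l w : ℕ} (hm : 10 < m) (hmd : m ∣ 24 ∨ m ∣ 30)
    (hl : l.Prime) (hlm : ∀ k, l ∣ r ^ k - 1 ↔ e * m ∣ k) (hl1 : e * m ∣ l - 1) (hlr : ¬ l ∣ r) (hlN : l ∣ N)
    (hT : ∃ T : Subgroup ↥(chevE8.group F), IsoT T N N ∧ wn T ≤ w) (hcop : ∀ k, 0 < k → k ≤ w → ¬ l ∣ k) :
    TorD ↥(chevE8.group F) l N w := by
  have := finE8 (F := F)
  have hp : IsType chevE8 8 CoxeterMatrix.E₈ := by simp [IsType, typeList]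
  have hlt : e * m < l := by
    have h0 := hl.two_le
    have := Nat.le_of_dvd (by omega) hl1
    omega
  have hel : e < l := lt_of_le_of_lt (Nat.le_mul_of_pos_right e (by omega)) hlt
  have hm10 : 10 < l := lt_of_lt_of_le hm ((Nat.le_mul_of_pos_left m he).trans hlt.le)
  refine ⟨⟨hl, by omega, ?_⟩, hT, hlN, ?_, hcop⟩
  · have h1 : out ↥(chevE8.group F) = e := Cfsg.Agent.S2125.result r e hq
    rw [h1, Nat.factorization_eq_zero_of_not_dvd (fun h => by have := Nat.le_of_dvd he h; omega), v_pos hl,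
      Cfsg.Agent.S1065.result hq]
    have h2 : l ∣ (r ^ e) ^ 24 - 1 ∨ l ∣ (r ^ e) ^ 30 - 1 := by
      rw [← pow_mul, ← pow_mul, hlm, hlm]
      exact hmd.imp (Nat.mul_dvd_mul_left e) (Nat.mul_dvd_mul_left e)
    rcases h2 with h2 | h2
    · exact (h2.mul_left _).mul_right _
    · exact h2.mul_left _
  · intro b hb hb2 x hx hbx
    rcases dich hp hq he invC_E8 (by norm_num) (AutInv.inv_E8 _) ordF_E8 hb hb2 (Or.inl (Nat.coprime_one_right _))
      (pow_orderOf_eq_one b) with h | ⟨-, h⟩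
    · exact h
    · refine absurd hbx (h x ?_)
      rw [hx]
      refine ⟨hl, ?_, Nat.coprime_one_right _, m, fun k hk => (hlm k).1 hk, ?_⟩
      · rintro rfl
        exact hlr dvd_rfl
      · simp only [List.mem_cons, List.not_mem_nil, or_false]
        intro k hk
        omega

/-- **The row of `E₈(q)`.** -/
theorem row (hq : Fintype.card F = r ^ e) (he : 0 < e) : Row ↥(chevE8.group F) := by
  have := finE8 (F := F)
  have hp : IsType chevE8 8 CoxeterMatrix.E₈ := by simp [IsType, typeList]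
  have hZ : center ↥(chevE8.group F) = ⊥ := Cfsg.Agent.H70.OutCount.center_eq_bot hp.inList
  have hr2 : 2 ≤ r := (Fact.out : r.Prime).two_le
  obtain ⟨q, hqr⟩ : ∃ q, q = r ^ e := ⟨_, rfl⟩
  have hF : Fintype.card F = q := hq.trans hqr.symm
  have hq2 : 2 ≤ q := by rw [← hF]; exact Fintype.one_lt_card
  -- primes
  have hprim : ∀ m, 10 < m → ∃ l : ℕ, l.Prime ∧ (∀ k, l ∣ r ^ k - 1 ↔ e * m ∣ k) ∧ e * m ∣ l - 1 ∧ ¬ l ∣ r := by
    intro m hm
    have h1 : 10 < e * m := lt_of_lt_of_le hm (Nat.le_mul_of_pos_left m he)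
    exact Cfsg.Agent.Lib.Zsigmondy.exists_primitive hr2 (by omega) (fun h => by omega) (fun h => by omega)
  have hpq : ∀ {m l : ℕ}, (∀ k, l ∣ r ^ k - 1 ↔ e * m ∣ k) → ∀ k, l ∣ q ^ k - 1 ↔ m ∣ k := by
    intro m l h k
    rw [hqr, ← pow_mul, h]
    exact Nat.mul_dvd_mul_iff_left he
  obtain ⟨l15, hl15, hm15, hd15, hr15⟩ := hprim 15 (by norm_num)
  obtain ⟨l24, hl24, hm24, hd24, hr24⟩ := hprim 24 (by norm_num)
  obtain ⟨l30, hl30, hm30, hd30, hr30⟩ := hprim 30 (by norm_num)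
  have hq15 := hpq hm15
  have hq24 := hpq hm24
  have hq30 := hpq hm30
  -- the orders of the tori
  have hz : (2 : ℤ) ≤ q := by exact_mod_cast hq2
  obtain ⟨a, ha⟩ : ∃ a : ℤ, (q : ℤ) = a + 2 := ⟨q - 2, by ring⟩
  have ha0 : 0 ≤ a := by omega
  obtain ⟨N24, hN24⟩ : ∃ N : ℕ, (N : ℤ) = 1 - (q : ℤ) ^ 4 + (q : ℤ) ^ 8 := by
    refine ⟨(1 - (q : ℤ) ^ 4 + (q : ℤ) ^ 8).toNat, Int.toNat_of_nonneg ?_⟩
    rw [ha]; ring_nf; (clear * - ha0; positivity)
  obtain ⟨N30, hN30⟩ : ∃ N : ℕ, (N : ℤ) = 1 + (q : ℤ) - (q : ℤ) ^ 3 - (q : ℤ) ^ 4 - (q : ℤ) ^ 5 + (q : ℤ) ^ 7 + (q : ℤ) ^ 8 := by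
    refine ⟨(1 + (q : ℤ) - (q : ℤ) ^ 3 - (q : ℤ) ^ 4 - (q : ℤ) ^ 5 + (q : ℤ) ^ 7 + (q : ℤ) ^ 8).toNat, Int.toNat_of_nonneg ?_⟩
    rw [ha]; ring_nf; (clear * - ha0; positivity)
  obtain ⟨N15, hN15⟩ : ∃ N : ℕ, (N : ℤ) = 1 - (q : ℤ) + (q : ℤ) ^ 3 - (q : ℤ) ^ 4 + (q : ℤ) ^ 5 - (q : ℤ) ^ 7 + (q : ℤ) ^ 8 := by
    refine ⟨(1 - (q : ℤ) + (q : ℤ) ^ 3 - (q : ℤ) ^ 4 + (q : ℤ) ^ 5 - (q : ℤ) ^ 7 + (q : ℤ) ^ 8).toNat, Int.toNat_of_nonneg ?_⟩
    rw [ha]; ring_nf; (clear * - ha0; positivity)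
  have hsub : ∀ k, ((q ^ k - 1 : ℕ) : ℤ) = (q : ℤ) ^ k - 1 := cast_pow_sub hq2
  -- divisibilities
  have d15 : N15 ∣ q ^ 15 - 1 := by
    rw [← Int.natCast_dvd_natCast, hsub, hN15]
    exact ⟨((q : ℤ) ^ 5 - 1) * ((q : ℤ) ^ 2 + q + 1), by ring⟩
  have d24 : N24 ∣ q ^ 24 - 1 := by
    rw [← Int.natCast_dvd_natCast, hsub, hN24]
    exact ⟨((q : ℤ) ^ 12 - 1) * ((q : ℤ) ^ 4 + 1), by ring⟩
  have d30 : N30 ∣ q ^ 30 - 1 := by
    rw [← Int.natCast_dvd_natCast, hsub, hN30]
    exact ⟨((q : ℤ) ^ 15 - 1) * (((q : ℤ) ^ 5 + 1) * ((q : ℤ) ^ 2 - q + 1)), by ring⟩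
  have d30' : N30 ∣ q ^ 15 + 1 := by
    rw [← Int.natCast_dvd_natCast, hN30]
    push_cast
    exact ⟨((q : ℤ) ^ 5 + 1) * ((q : ℤ) ^ 2 - q + 1), by ring⟩
  have big : ∀ {m l : ℕ}, 10 < m → l.Prime → e * m ∣ l - 1 → 10 < l := by
    intro m l hm hl hd
    have h0 := hl.two_le
    have h1 := Nat.le_of_dvd (by omega) hd
    have h2 : m ≤ e * m := Nat.le_mul_of_pos_left m he
    omega
  have p15 : (l15 : ℕ) ∣ N15 := by
    have h1 : l15 ∣ q ^ 15 - 1 := (hq15 15).2 dvd_rfl
    have hP : _root_.Prime (l15 : ℤ) := Nat.prime_iff_prime_int.1 hl15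
    have h2 : (l15 : ℤ) ∣ (q : ℤ) ^ 15 - 1 := by rw [← hsub]; exact_mod_cast h1
    have h3 : (q : ℤ) ^ 15 - 1 = (((q : ℤ) ^ 5 - 1) * ((q : ℤ) ^ 2 + q + 1)) * N15 := by rw [hN15]; ring
    rw [h3] at h2
    rcases hP.dvd_mul.1 h2 with h4 | h4
    · exfalso
      rcases hP.dvd_mul.1 h4 with h5 | h5
      · have h6 : l15 ∣ q ^ 5 - 1 := by rw [← Int.natCast_dvd_natCast, hsub]; exact h5
        have := (hq15 5).1 h6
        omega
      · have h6 : l15 ∣ q ^ 3 - 1 := by
          rw [← Int.natCast_dvd_natCast, hsub]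
          exact h5.trans ⟨(q : ℤ) - 1, by ring⟩
        have := (hq15 3).1 h6
        omega
    · exact_mod_cast h4
  have p24 : (l24 : ℕ) ∣ N24 := by
    have h1 : l24 ∣ q ^ 24 - 1 := (hq24 24).2 dvd_rfl
    have hP : _root_.Prime (l24 : ℤ) := Nat.prime_iff_prime_int.1 hl24
    have h2 : (l24 : ℤ) ∣ (q : ℤ) ^ 24 - 1 := by rw [← hsub]; exact_mod_cast h1
    have h3 : (q : ℤ) ^ 24 - 1 = (((q : ℤ) ^ 12 - 1) * ((q : ℤ) ^ 4 + 1)) * N24 := by rw [hN24]; ring
    rw [h3] at h2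
    rcases hP.dvd_mul.1 h2 with h4 | h4
    · exfalso
      rcases hP.dvd_mul.1 h4 with h5 | h5
      · have h6 : l24 ∣ q ^ 12 - 1 := by rw [← Int.natCast_dvd_natCast, hsub]; exact h5
        have := (hq24 12).1 h6
        omega
      · have h6 : l24 ∣ q ^ 8 - 1 := by
          rw [← Int.natCast_dvd_natCast, hsub]
          exact h5.trans ⟨(q : ℤ) ^ 4 - 1, by ring⟩
        have := (hq24 8).1 h6
        omega
    · exact_mod_cast h4
  have p30 : (l30 : ℕ) ∣ N30 := by
    have h1 : l30 ∣ q ^ 30 - 1 := (hq30 30).2 dvd_rfl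
    have hP : _root_.Prime (l30 : ℤ) := Nat.prime_iff_prime_int.1 hl30
    have h2 : (l30 : ℤ) ∣ (q : ℤ) ^ 30 - 1 := by rw [← hsub]; exact_mod_cast h1
    have h3 : (q : ℤ) ^ 30 - 1 = ((q : ℤ) ^ 15 - 1) * (((q : ℤ) ^ 5 + 1) * ((q : ℤ) ^ 2 - q + 1)) * N30 := by
      rw [hN30]; ring
    rw [h3] at h2
    rcases hP.dvd_mul.1 h2 with h4 | h4
    · exfalso
      rcases hP.dvd_mul.1 h4 with h5 | h5
      · have h6 : l30 ∣ q ^ 15 - 1 := by rw [← Int.natCast_dvd_natCast, hsub]; exact h5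
        have := (hq30 15).1 h6
        omega
      · rcases hP.dvd_mul.1 h5 with h5 | h5
        · have h6 : l30 ∣ q ^ 10 - 1 := by
            rw [← Int.natCast_dvd_natCast, hsub]
            exact h5.trans ⟨(q : ℤ) ^ 5 - 1, by ring⟩
          have := (hq30 10).1 h6
          omega
        · have h6 : l30 ∣ q ^ 6 - 1 := by
            rw [← Int.natCast_dvd_natCast, hsub]
            exact h5.trans ⟨((q : ℤ) ^ 3 - 1) * ((q : ℤ) + 1), by ring⟩
          have := (hq30 6).1 h6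
          omega
    · exact_mod_cast h4
  have n1 : ∀ {l N : ℕ}, 10 < l → l ∣ N → N ≠ 1 := by
    rintro l N h1 h2 rfl
    have := Nat.le_of_dvd one_pos h2
    omega
  have g15 := big (by norm_num) hl15 hd15
  have g24 := big (by norm_num) hl24 hd24
  have g30 := big (by norm_num) hl30 hd30
  -- small multiples
  have cop : ∀ {m l : ℕ}, m = 15 ∨ m = 24 ∨ m = 30 → l.Prime → e * m ∣ l - 1 → ∀ k, 0 < k → k ≤ 30 → ¬ l ∣ k := by
    intro m l hm hl hd k hk0 hk hlk
    have h1 := Nat.le_of_dvd hk0 hlk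
    have h2 : m ∣ l - 1 := (dvd_mul_left m e).trans hd
    have h3 := hl.two_le
    have h4 : l ≤ 30 := h1.trans hk
    rcases hm with rfl | rfl | rfl
    · have : l = 16 := by omega
      subst this
      exact absurd hl (by norm_num)
    · have : l = 25 := by omega
      subst this
      exact absurd hl (by norm_num)
    · omega
  have le30 : ∀ {N w : ℕ}, w ≤ 30 → (∃ T : Subgroup ↥(chevE8.group F), IsoT T N N ∧ wn T ≤ w) →
      ∃ T : Subgroup ↥(chevE8.group F), IsoT T N N ∧ wn T ≤ 30 := by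
    rintro N w hw ⟨T, h1, h2⟩
    exact ⟨T, h1, h2.trans hw⟩
  have D15 : TorD ↥(chevE8.group F) l15 N15 30 := torD hq he (by norm_num) (Or.inr (by norm_num)) hl15 hm15 hd15 hr15
    p15 (le30 le_rfl (exists_tor hF (Cfsg.Agent.H129.CycT.exact_E8_15 hF hN15) (n1 g15 p15) (by
      rw [hN15]; exact Cfsg.Agent.H92.PRegE8.w15 q))) (cop (Or.inl rfl) hl15 hd15)
  have D24 : TorD ↥(chevE8.group F) l24 N24 30 := torD hq he (by norm_num) (Or.inl (by norm_num)) hl24 hm24 hd24 hr24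
    p24 (le30 (w := 24) (by norm_num) (exists_tor hF (Cfsg.Agent.H129.CycT.exact_E8_24 hF hN24) (n1 g24 p24) (by
      rw [hN24]; exact Cfsg.Agent.H92.PRegE8.w24 q))) (cop (Or.inr (Or.inl rfl)) hl24 hd24)
  have D30 : TorD ↥(chevE8.group F) l30 N30 30 := torD hq he (by norm_num) (Or.inr (by norm_num)) hl30 hm30 hd30 hr30
    p30 (le30 le_rfl (exists_tor hF (Cfsg.Agent.H129.CycT.exact_E8_30 hF hN30) (n1 g30 p30) (by
      rw [hN30]; exact Cfsg.Agent.H92.PRegE8.w30 q))) (cop (Or.inr (Or.inr rfl)) hl30 hd30)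
  -- non-divisibilities
  have e1 : ¬ l24 ∣ N15 := fun h => by have := (hq24 15).1 (h.trans d15); omega
  have e2 : ¬ l15 ∣ N24 := fun h => by have := (hq15 24).1 (h.trans d24); omega
  have e3 : ¬ l30 ∣ N15 := fun h => by have := (hq30 15).1 (h.trans d15); omega
  have e4 : ¬ l15 ∣ N30 := fun h => by
    have h1 := h.trans d30'
    have h2 : l15 ∣ q ^ 15 - 1 := (hq15 15).2 dvd_rfl
    have h3 : 1 ≤ q ^ 15 := Nat.one_le_pow _ _ (by omega)
    have h4 : l15 ∣ 2 := by
      have h5 := (Nat.dvd_add_right h2).1 (show l15 ∣ q ^ 15 - 1 + 2 by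
        rw [show q ^ 15 - 1 + 2 = q ^ 15 + 1 by omega]; exact h1)
      exact h5
    have := Nat.le_of_dvd (by norm_num) h4
    omega
  have e5 : ¬ l30 ∣ N24 := fun h => by have := (hq30 24).1 (h.trans d24); omega
  have e6 : ¬ l24 ∣ N30 := fun h => by have := (hq24 30).1 (h.trans d30); omega
  obtain ⟨a1, a2⟩ := D15.pair D24 e1 e2
  obtain ⟨b1, b2⟩ := D15.pair D30 e3 e4
  obtain ⟨c1, c2⟩ := D24.pair D30 e5 e6
  exact row_three hZ D15.good D24.good D30.good a1 b1 c1 a2 b2 c2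

end E8

/-- **The row of `E₈`.** -/
theorem row_e8 (K : Type u) [Group K] (h : Cfsg.Lie.IsoE8 K) : Row K := by
  obtain ⟨F, _, _, ⟨e⟩⟩ := h
  obtain ⟨r, hr⟩ := CharP.exists F
  have : Fact r.Prime := ⟨CharP.char_is_prime F r⟩
  obtain ⟨n, -, hn⟩ := FiniteField.card F r
  exact (E8.row hn n.pos).congr e

end Cfsg.Agent.H71.PD
end

-- part: H29/PDNoOdd
section
/-!
# S4246: `NoOdd` from cyclic centralisers and normalisers (helper29)

* `noOdd` : the elements of order `r`, `s` have cyclic centralisers, `s ∤ |N(⟨x⟩)|`, `r ∤ |N(⟨y⟩)|`: no subgroup of odd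
  order of `S` has order divisible by `r` and `s`;
* `Iso1 S l x c` : `x` has prime order `l`, cyclic centraliser `T`, `|S : T| ≡ c` modulo `l`, `0 < c < l`; all elements of
  order `l` have the same properties.
-/

set_option autoImplicit false
set_option linter.unusedSectionVars false

namespace Cfsg.Agent.H29.PDNoOdd

open Subgroup Cfsg.Agent.H160.PD Cfsg.Agent.H83.AutCount

theorem exists_abelian_normal {K : Type*} [Group K] (hs : Group.IsSolvable K) [Nontrivial K] :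
    ∃ A : Subgroup K, A.Normal ∧ A ≠ ⊥ ∧ ∀ a ∈ A, ∀ b ∈ A, a * b = b * a := by
  classical
  have h : ∃ n, derivedSeries K n = ⊥ := hs.solvable
  have h1 := Nat.find_spec h
  have h0 : Nat.find h ≠ 0 := by
    intro h0
    rw [h0, derivedSeries_zero] at h1
    exact top_ne_bot h1
  obtain ⟨m, hm⟩ := Nat.exists_eq_succ_of_ne_zero h0
  refine ⟨derivedSeries K m, derivedSeries_normal K m, Nat.find_min h (by omega), ?_⟩
  rw [hm, derivedSeries_succ, commutator_eq_bot_iff_le_centralizer] at h1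
  intro a ha b hb
  exact (mem_centralizer_iff.1 (h1 ha) b hb).symm

variable {S : Type*} [Group S] [Finite S]

/-- a group `K` of order `r ^ a s ^ b` acting -/
theorem one_side {K : Type*} [Group K] [Finite K] (φ : K →* S) (hφ : Function.Injective φ) {r s : ℕ} (hr : r.Prime)
    (hcr : ∀ x : S, orderOf x = r → IsCyclic ↥(centralizer {x}))
    (hnr : ∀ x : S, orderOf x = r → ¬ s ∣ Nat.card ↥(normalizer ((zpowers x : Subgroup S) : Set S)))
    (hsK : s ∣ Nat.card K) {A : Subgroup K} (hA : A.Normal) (hAc : ∀ a ∈ A, ∀ b ∈ A, a * b = b * a)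
    (hrA : r ∣ Nat.card A) : False := by
  have hrf : Fact r.Prime := ⟨hr⟩
  obtain ⟨⟨x, hx⟩, hxo⟩ := exists_prime_orderOf_dvd_card' r hrA
  have hxo' : orderOf x = r := by rw [← hxo]; exact (Subgroup.orderOf_mk x hx).symm
  have hφo : orderOf (φ x) = r := by rw [orderOf_injective φ hφ, hxo']
  apply hnr (φ x) hφo
  have h1 : φ.range ≤ normalizer ((zpowers (φ x) : Subgroup S) : Set S) := by
    rintro _ ⟨g, rfl⟩
    rw [mem_norm_iff hr hφo rfl (hcr _ hφo), mem_centralizer_singleton_iff, ← map_inv, ← map_mul, ← map_mul, ← map_mul,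
      ← map_mul]
    congr 1
    apply hAc _ ?_ _ hx
    have := hA.conj_mem x hx g⁻¹
    rwa [inv_inv] at this
  have h2 : Nat.card φ.range = Nat.card K := (Nat.card_congr (MonoidHom.ofInjective hφ).toEquiv).symm
  exact (h2 ▸ hsK).trans (card_dvd_of_le h1)

/-- **No subgroup of odd order.** -/
theorem noOdd {r s : ℕ} (hr : r.Prime) (hs : s.Prime) (hrs : r ≠ s)
    (hcr : ∀ x : S, orderOf x = r → IsCyclic ↥(centralizer {x}))
    (hcs : ∀ x : S, orderOf x = s → IsCyclic ↥(centralizer {x}))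
    (hnr : ∀ x : S, orderOf x = r → ¬ s ∣ Nat.card ↥(normalizer ((zpowers x : Subgroup S) : Set S)))
    (hns : ∀ x : S, orderOf x = s → ¬ r ∣ Nat.card ↥(normalizer ((zpowers x : Subgroup S) : Set S))) :
    NoOdd S r s := by
  classical
  intro H hH hrH hsH
  have hsol := S0205.result hH
  have hH0 : Nat.card H ≠ 0 := Nat.card_pos.ne'
  set a := (Nat.card H).factorization r with ha
  set b := (Nat.card H).factorization s with hb
  have ha0 : a ≠ 0 := by
    have := (hr.dvd_iff_one_le_factorization hH0).1 hrH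
    omega
  have hb0 : b ≠ 0 := by
    have := (hs.dvd_iff_one_le_factorization hH0).1 hsH
    omega
  have hdvd : r ^ a * s ^ b ∣ Nat.card H := by
    refine Nat.Coprime.mul_dvd_of_dvd_of_dvd ?_ (Nat.ordProj_dvd _ _) (Nat.ordProj_dvd _ _)
    exact Nat.Coprime.pow _ _ ((Nat.coprime_primes hr hs).2 hrs)
  obtain ⟨n, hn⟩ := hdvd
  have hrn : ¬ r ∣ n := by
    rintro ⟨m, rfl⟩
    apply Nat.pow_succ_factorization_not_dvd hH0 hr
    rw [← ha, hn]
    exact ⟨s ^ b * m, by rw [pow_succ]; ring⟩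
  have hsn : ¬ s ∣ n := by
    rintro ⟨m, rfl⟩
    apply Nat.pow_succ_factorization_not_dvd hH0 hs
    rw [← hb, hn]
    exact ⟨r ^ a * m, by rw [pow_succ]; ring⟩
  have hcr' : (r ^ a * s ^ b).Coprime n :=
    Nat.Coprime.mul_left (((Nat.Prime.coprime_iff_not_dvd hr).2 hrn).pow_left a)
      (((Nat.Prime.coprime_iff_not_dvd hs).2 hsn).pow_left b)
  obtain ⟨K, hK, -⟩ := S0005.result (G := H) (r ^ a * s ^ b) n hn hcr' ⊥ (by simp)
  have hrK : r ∣ Nat.card K := by rw [hK]; exact (dvd_pow_self r ha0).mul_right _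
  have hsK : s ∣ Nat.card K := by rw [hK]; exact (dvd_pow_self s hb0).mul_left _
  have hKnt : Nontrivial K := by
    rw [← Finite.one_lt_card_iff_nontrivial]
    exact lt_of_lt_of_le hr.one_lt (Nat.le_of_dvd Nat.card_pos hrK)
  have hKs : Group.IsSolvable K := inferInstance
  obtain ⟨A, hA, hA1, hAc⟩ := exists_abelian_normal hKs
  have hA1' : Nat.card A ≠ 1 := fun h => hA1 (eq_bot_of_card_eq _ h)
  obtain ⟨t, ht, htA⟩ := Nat.exists_prime_and_dvd hA1'
  have htK : t ∣ r ^ a * s ^ b := by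
    rw [← hK]
    exact htA.trans (card_subgroup_dvd_card A)
  set φ : K →* S := H.subtype.comp K.subtype with hφ
  have hφi : Function.Injective φ := H.subtype_injective.comp K.subtype_injective
  rcases ht.dvd_mul.1 htK with h | h
  · rw [(Nat.prime_dvd_prime_iff_eq ht hr).1 (ht.dvd_of_dvd_pow h)] at htA
    exact one_side φ hφi hr hcr hnr hsK hA hAc htA
  · rw [(Nat.prime_dvd_prime_iff_eq ht hs).1 (ht.dvd_of_dvd_pow h)] at htA
    exact one_side φ hφi hs hcs hns hrK hA hAc htA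

/-- an element of prime order with cyclic centraliser of index `≡ c` modulo the prime -/
structure Iso1 (S : Type*) [Group S] (l : ℕ) (x : S) (c : ℕ) : Prop where
  prime : l.Prime
  ord : orderOf x = l
  cyc : IsCyclic ↥(centralizer {x})
  pos : 0 < c
  lt : c < l
  mod : (centralizer {x}).index ≡ c [MOD l]

namespace Iso1

variable {l : ℕ} {x : S} {c : ℕ}

theorem not_dvd (h : Iso1 S l x c) : ¬ l ∣ (centralizer {x}).index := by
  intro hd
  have h1 := (Nat.modEq_zero_iff_dvd.2 hd).symm.trans h.mod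
  have h2 : l ∣ c := (Nat.modEq_zero_iff_dvd).1 h1.symm
  exact absurd (Nat.le_of_dvd h.pos h2) (by have := h.lt; omega)

/-- all elements of order `l` -/
theorem conj (h : Iso1 S l x c) {y : S} (hy : orderOf y = l) :
    ∃ s : S, y ∈ zpowers (s * x * s⁻¹) ∧ s * x * s⁻¹ ∈ zpowers y := by
  have hl : Fact l.Prime := ⟨h.prime⟩
  obtain ⟨P, hP⟩ := exists_cyclic_sylow (G := S) (p := l) (T := centralizer {x}) h.cyc h.not_dvd
  exact H568.conj_of_cyclic P hP h.ord y hy

theorem centralizer_eq {x y : S} (h1 : y ∈ zpowers x) (h2 : x ∈ zpowers y) : centralizer {x} = centralizer {y} := by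
  have key : ∀ {x y : S}, y ∈ zpowers x → centralizer {x} ≤ centralizer {y} := by
    intro x y h1 g hg
    rw [mem_centralizer_singleton_iff] at hg ⊢
    obtain ⟨i, rfl⟩ := h1
    exact ((show Commute g x from hg).zpow_right i).eq
  exact le_antisymm (key h1) (key h2)

theorem centralizer_conj (s x : S) :
    (centralizer {x}).map (MulAut.conj s).toMonoidHom = centralizer {s * x * s⁻¹} := by
  ext g
  rw [mem_map, mem_centralizer_singleton_iff]
  constructor
  · rintro ⟨y, hy, rfl⟩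
    rw [mem_centralizer_singleton_iff] at hy
    show s * y * s⁻¹ * (s * x * s⁻¹) = s * x * s⁻¹ * (s * y * s⁻¹)
    calc s * y * s⁻¹ * (s * x * s⁻¹) = s * (y * x) * s⁻¹ := by group
      _ = s * (x * y) * s⁻¹ := by rw [hy]
      _ = _ := by group
  · intro hg
    refine ⟨s⁻¹ * g * s, ?_, by show s * (s⁻¹ * g * s) * s⁻¹ = g; group⟩
    rw [mem_centralizer_singleton_iff]
    calc s⁻¹ * g * s * x = s⁻¹ * (g * (s * x * s⁻¹)) * s := by group
      _ = s⁻¹ * (s * x * s⁻¹ * g) * s := by rw [hg]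
      _ = _ := by group

/-- **transport to all elements of order `l`** -/
theorem all (h : Iso1 S l x c) {y : S} (hy : orderOf y = l) :
    Iso1 S l y c ∧ Nat.card ↥(centralizer {y}) = Nat.card ↥(centralizer {x}) := by
  obtain ⟨s, h1, h2⟩ := h.conj hy
  have h3 : centralizer {y} = (centralizer {x}).map (MulAut.conj s).toMonoidHom := by
    rw [centralizer_conj, centralizer_eq h1 h2]
  have h4 : Nat.card ↥(centralizer {y}) = Nat.card ↥(centralizer {x}) := by
    rw [h3, card_map_of_injective (MulAut.conj s).injective]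
  have h5 : (centralizer {y}).index = (centralizer {x}).index := by
    have e1 := (centralizer {y}).card_mul_index
    have e2 := (centralizer {x}).card_mul_index
    rw [h4, ← e2] at e1
    exact Nat.eq_of_mul_eq_mul_left Nat.card_pos e1
  refine ⟨⟨h.prime, hy, ?_, h.pos, h.lt, by rw [h5]; exact h.mod⟩, h4⟩
  have h6 := h.cyc
  rw [h3]
  exact isCyclic_of_surjective ((centralizer {x}).equivMapOfInjective _ (MulAut.conj s).injective).toMonoidHom
    ((centralizer {x}).equivMapOfInjective _ (MulAut.conj s).injective).surjective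

theorem card_norm' (h : Iso1 S l x c) {y : S} (hy : orderOf y = l) :
    Nat.card ↥(normalizer ((zpowers y : Subgroup S) : Set S)) = c * Nat.card ↥(centralizer {x}) := by
  obtain ⟨h1, h2⟩ := h.all hy
  rw [H83.AutCount.card_norm h1.prime h1.ord rfl h1.cyc h1.pos h1.lt h1.mod, h2]

/-- **`NoOdd` for two such primes** -/
theorem noOdd (h : Iso1 S l x c) {l' : ℕ} {x' : S} {c' : ℕ} (h' : Iso1 S l' x' c') (hll : l ≠ l')
    (h1 : ¬ l' ∣ Nat.card ↥(centralizer {x})) (h2 : ¬ l ∣ Nat.card ↥(centralizer {x'})) (h3 : c < l') (h4 : c' < l) :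
    NoOdd S l l' := by
  refine PDNoOdd.noOdd h.prime h'.prime hll (fun y hy => (h.all hy).1.cyc) (fun y hy => (h'.all hy).1.cyc)
    (fun y hy hd => ?_) fun y hy hd => ?_
  · rw [h.card_norm' hy] at hd
    rcases h'.prime.dvd_mul.1 hd with h5 | h5
    · exact absurd (Nat.le_of_dvd h.pos h5) (by omega)
    · exact h1 h5
  · rw [h'.card_norm' hy] at hd
    rcases h.prime.dvd_mul.1 hd with h5 | h5
    · exact absurd (Nat.le_of_dvd h'.pos h5) (by omega)
    · exact h2 h5

/-- `Good` -/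
theorem good (h : Iso1 S l x c) (hl2 : l ≠ 2) (ho : ¬ l ∣ out S) : Good S l where
  prime := h.prime
  odd := hl2
  lt := by
    rw [Nat.factorization_eq_zero_of_not_dvd ho]
    exact (h.prime.dvd_iff_one_le_factorization Nat.card_pos.ne').1 (h.ord ▸ _root_.orderOf_dvd_natCard x)

end Iso1

end Cfsg.Agent.H29.PDNoOdd
end

-- part: H29/PDTwE6Num
section
/-!
# S4246, the row `²E₆(q)`: numbers (helper29)
-/

set_option autoImplicit false

namespace Cfsg.Agent.H29.PDTwE6Num

open Cfsg.Agent.H83.NumE6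

/-- primitive primes: the order of `r` modulo `l` -/
theorem exists_prim {r n : ℕ} (hr : r.Prime) (hn : 7 ≤ n) :
    ∃ l : ℕ, l.Prime ∧ orderOf (r : ZMod l) = n ∧ n < l := by
  obtain ⟨l, hl, hd, hl1, -⟩ := Lib.Zsigmondy.exists_primitive hr.two_le (n := n) (by omega) (by omega) (by omega)
  have hpos : ∀ m, 1 ≤ r ^ m := fun m => Nat.one_le_pow _ _ hr.pos
  have hl2 := hl.two_le
  refine ⟨l, hl, ?_, ?_⟩
  · have key : ∀ m, (r : ZMod l) ^ m = 1 ↔ n ∣ m := by
      intro m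
      rw [← hd m, ← ZMod.natCast_eq_zero_iff, Nat.cast_sub (hpos m)]
      push_cast
      rw [sub_eq_zero]
    apply Nat.dvd_antisymm
    · rw [orderOf_dvd_iff_pow_eq_one, key]
    · rw [← key, pow_orderOf_eq_one]
  · have := Nat.le_of_dvd (by omega) hl1
    omega

theorem pow_facts {l r f m : ℕ} (hf : 1 ≤ f) (ho : orderOf (r : ZMod l) = m * f) :
    ∀ j, ((r ^ f : ℕ) : ZMod l) ^ j = 1 ↔ m ∣ j := by
  intro j
  rw [Nat.cast_pow, ← pow_mul, ← orderOf_dvd_iff_pow_eq_one, ho, mul_comm f j]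
  exact Nat.mul_dvd_mul_iff_right hf

/-- `12 f` -/
theorem exists_l12 {r f : ℕ} (hr : r.Prime) (hf : 1 ≤ f) :
    ∃ l : ℕ, l.Prime ∧ orderOf (r : ZMod l) = 12 * f ∧ l ∣ (r ^ f) ^ 4 - (r ^ f) ^ 2 + 1 ∧ 12 * f < l := by
  obtain ⟨l, hl, ho, hlt⟩ := exists_prim hr (n := 12 * f) (by omega)
  refine ⟨l, hl, ho, ?_, hlt⟩
  have hlf : Fact l.Prime := ⟨hl⟩
  have hp := pow_facts hf ho
  have h1 : (r ^ f) ^ 2 ≤ (r ^ f) ^ 4 := le2 (Nat.one_le_pow _ _ hr.pos)
  rw [← ZMod.natCast_eq_zero_iff]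
  push_cast [Nat.cast_sub h1]
  push_cast at hp
  generalize (r : ZMod l) ^ f = y at hp
  have h12 := (hp 12).2 dvd_rfl
  have h6 : y ^ 6 ≠ 1 := fun h => by
    have := (hp 6).1 h
    omega
  have h4 : y ^ 4 ≠ 1 := fun h => by
    have := (hp 4).1 h
    omega
  have e1 : (y ^ 6 - 1) * ((y ^ 2 + 1) * (y ^ 4 - y ^ 2 + 1)) = 0 := by
    have : (y ^ 6 - 1) * ((y ^ 2 + 1) * (y ^ 4 - y ^ 2 + 1)) = y ^ 12 - 1 := by ring
    rw [this, h12, sub_self]
  rcases mul_eq_zero.1 e1 with h | h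
  · exact absurd (sub_eq_zero.1 h) h6
  · rcases mul_eq_zero.1 h with h | h
    · exfalso
      apply h4
      linear_combination (y ^ 2 - 1) * h
    · exact h

/-- `8 f` -/
theorem exists_l8 {r f : ℕ} (hr : r.Prime) (hf : 1 ≤ f) :
    ∃ l : ℕ, l.Prime ∧ orderOf (r : ZMod l) = 8 * f ∧ l ∣ (r ^ f) ^ 4 + 1 ∧ 8 * f < l := by
  obtain ⟨l, hl, ho, hlt⟩ := exists_prim hr (n := 8 * f) (by omega)
  refine ⟨l, hl, ho, ?_, hlt⟩
  have hlf : Fact l.Prime := ⟨hl⟩
  have hp := pow_facts hf ho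
  rw [← ZMod.natCast_eq_zero_iff]
  push_cast
  push_cast at hp
  generalize (r : ZMod l) ^ f = y at hp
  have h8 := (hp 8).2 dvd_rfl
  have h4 : y ^ 4 ≠ 1 := fun h => by
    have := (hp 4).1 h
    omega
  have e1 : (y ^ 4 - 1) * (y ^ 4 + 1) = 0 := by
    have : (y ^ 4 - 1) * (y ^ 4 + 1) = y ^ 8 - 1 := by ring
    rw [this, h8, sub_self]
  rcases mul_eq_zero.1 e1 with h | h
  · exact absurd (sub_eq_zero.1 h) h4
  · exact h

def M3 (q : ℕ) : ℕ := q ^ 36 * (q ^ 5 + 1) * (q ^ 6 - 1) * (q ^ 4 - 1) * (q ^ 9 + 1) * (q ^ 12 - 1)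

theorem eq3 {q : ℕ} (hq : 1 ≤ q) :
    q ^ 36 * (q ^ 2 - 1) * (q ^ 5 + 1) * (q ^ 6 - 1) * (q ^ 8 - 1) * (q ^ 9 + 1) * (q ^ 12 - 1) =
      ((q ^ 4 + 1) * (q ^ 2 - 1)) * M3 q := by
  have e : q ^ 8 - 1 = (q ^ 4 - 1) * (q ^ 4 + 1) := by
    zify [onele hq 8, onele hq 4]; ring
  unfold M3
  rw [e]
  ring

theorem mod3 {q : ℕ} (hq : 1 ≤ q) {m : ℕ} (hm : m ∣ q ^ 4 + 1) : M3 q ≡ 8 [MOD m] := by
  rw [← ZMod.natCast_eq_natCast_iff, M3]
  have h3 : (q : ZMod m) ^ 4 + 1 = 0 := by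
    have h4 := (ZMod.natCast_eq_zero_iff (q ^ 4 + 1) m).2 hm
    push_cast at h4
    exact h4
  push_cast [Nat.cast_sub (onele hq 4), Nat.cast_sub (onele hq 6), Nat.cast_sub (onele hq 12)]
  generalize (q : ZMod m) = y at h3
  have h4 : y ^ 4 = -1 := by linear_combination h3
  have h36 : y ^ 36 = -1 := by
    calc y ^ 36 = (y ^ 4) ^ 9 := by ring
      _ = -1 := by rw [h4]; ring
  have h12 : y ^ 12 = -1 := by
    calc y ^ 12 = (y ^ 4) ^ 3 := by ring
      _ = -1 := by rw [h4]; ring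
  have h9 : y ^ 9 = y := by
    calc y ^ 9 = (y ^ 4) ^ 2 * y := by ring
      _ = _ := by rw [h4]; ring
  have h6 : y ^ 6 = -y ^ 2 := by
    calc y ^ 6 = y ^ 4 * y ^ 2 := by ring
      _ = _ := by rw [h4]; ring
  have h5 : y ^ 5 = -y := by
    calc y ^ 5 = y ^ 4 * y := by ring
      _ = _ := by rw [h4]; ring
  rw [h36, h12, h9, h6, h5, h4]
  linear_combination (-4) * h4

theorem castN3 {q : ℕ} (hq1 : 1 ≤ q) : (((q ^ 4 + 1) * (q ^ 2 - 1) : ℕ) : ℤ) =
    -1 + (q : ℤ) ^ 2 - (q : ℤ) ^ 4 + (q : ℤ) ^ 6 := by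
  push_cast [Nat.cast_sub (onele hq1 2)]; ring

theorem castN1 {q : ℕ} (hq1 : 1 ≤ q) : ((q ^ 6 - q ^ 3 + 1 : ℕ) : ℤ) = 1 - (q : ℤ) ^ 3 + (q : ℤ) ^ 6 := by
  push_cast [Nat.cast_sub (le1 hq1)]; ring

theorem castN2 {q : ℕ} (hq1 : 1 ≤ q) : (((q ^ 4 - q ^ 2 + 1) * (q ^ 2 - q + 1) : ℕ) : ℤ) =
    1 - (q : ℤ) + (q : ℤ) ^ 3 - (q : ℤ) ^ 5 + (q : ℤ) ^ 6 := by
  push_cast [Nat.cast_sub (le2 hq1), Nat.cast_sub (le3 hq1)]; ring

theorem gcd_AC {q : ℕ} (hq1 : 1 ≤ q) : Nat.gcd (q ^ 6 - q ^ 3 + 1) ((q ^ 4 + 1) * (q ^ 2 - 1)) ∣ 3 := by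
  set g := Nat.gcd (q ^ 6 - q ^ 3 + 1) ((q ^ 4 + 1) * (q ^ 2 - 1)) with hg
  have h1 : (g : ℤ) ∣ 1 - (q : ℤ) ^ 3 + (q : ℤ) ^ 6 := by
    rw [← castN1 hq1]
    exact Int.natCast_dvd_natCast.2 (Nat.gcd_dvd_left _ _)
  have h2 : (g : ℤ) ∣ -1 + (q : ℤ) ^ 2 - (q : ℤ) ^ 4 + (q : ℤ) ^ 6 := by
    rw [← castN3 hq1]
    exact Int.natCast_dvd_natCast.2 (Nat.gcd_dvd_right _ _)
  have h3 : (g : ℤ) ∣ 3 := by
    have e : (3 : ℤ) = (1 - (q : ℤ) + 3 * (q : ℤ) ^ 2 - 2 * (q : ℤ) ^ 4 + 2 * (q : ℤ) ^ 5) *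
          (1 - (q : ℤ) ^ 3 + (q : ℤ) ^ 6) +
        (-2 - (q : ℤ) + (q : ℤ) ^ 2 - 2 * (q : ℤ) ^ 3 + 2 * (q : ℤ) ^ 4 - 2 * (q : ℤ) ^ 5) *
          (-1 + (q : ℤ) ^ 2 - (q : ℤ) ^ 4 + (q : ℤ) ^ 6) := by ring
    rw [e]
    exact dvd_add (h1.mul_left _) (h2.mul_left _)
  exact_mod_cast h3

theorem gcd_BC {q : ℕ} (hq1 : 1 ≤ q) :
    Nat.gcd ((q ^ 4 - q ^ 2 + 1) * (q ^ 2 - q + 1)) ((q ^ 4 + 1) * (q ^ 2 - 1)) ∣ 3 := by
  set g := Nat.gcd ((q ^ 4 - q ^ 2 + 1) * (q ^ 2 - q + 1)) ((q ^ 4 + 1) * (q ^ 2 - 1)) with hg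
  have h1 : (g : ℤ) ∣ 1 - (q : ℤ) + (q : ℤ) ^ 3 - (q : ℤ) ^ 5 + (q : ℤ) ^ 6 := by
    rw [← castN2 hq1]
    exact Int.natCast_dvd_natCast.2 (Nat.gcd_dvd_left _ _)
  have h2 : (g : ℤ) ∣ -1 + (q : ℤ) ^ 2 - (q : ℤ) ^ 4 + (q : ℤ) ^ 6 := by
    rw [← castN3 hq1]
    exact Int.natCast_dvd_natCast.2 (Nat.gcd_dvd_right _ _)
  have h3 : (g : ℤ) ∣ 3 := by
    have e : (3 : ℤ) = (1 + 2 * (q : ℤ) + 3 * (q : ℤ) ^ 2 - 2 * (q : ℤ) ^ 4 - (q : ℤ) ^ 5) *
          (1 - (q : ℤ) + (q : ℤ) ^ 3 - (q : ℤ) ^ 5 + (q : ℤ) ^ 6) +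
        (-2 + (q : ℤ) - (q : ℤ) ^ 2 - (q : ℤ) ^ 3 + (q : ℤ) ^ 4 + (q : ℤ) ^ 5) *
          (-1 + (q : ℤ) ^ 2 - (q : ℤ) ^ 4 + (q : ℤ) ^ 6) := by ring
    rw [e]
    exact dvd_add (h1.mul_left _) (h2.mul_left _)
  exact_mod_cast h3

/-- the prime 3 -/
theorem three_N1 {q : ℕ} (hq1 : 1 ≤ q) (h : 3 ∣ q ^ 6 - q ^ 3 + 1) : 3 ∣ q + 1 := by
  have h1 := (ZMod.natCast_eq_zero_iff (q ^ 6 - q ^ 3 + 1) 3).2 h
  push_cast [Nat.cast_sub (le1 hq1)] at h1
  rw [← ZMod.natCast_eq_zero_iff]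
  push_cast
  revert h1
  generalize (q : ZMod 3) = x
  revert x
  decide

theorem three_N2 {q : ℕ} (hq1 : 1 ≤ q) (h : 3 ∣ (q ^ 4 - q ^ 2 + 1) * (q ^ 2 - q + 1)) : 3 ∣ q + 1 := by
  have h1 := (ZMod.natCast_eq_zero_iff ((q ^ 4 - q ^ 2 + 1) * (q ^ 2 - q + 1)) 3).2 h
  push_cast [Nat.cast_sub (le2 hq1), Nat.cast_sub (le3 hq1)] at h1
  rw [← ZMod.natCast_eq_zero_iff]
  push_cast
  revert h1
  generalize (q : ZMod 3) = x
  revert x
  decide

/-- the order of `q ^ 2` modulo a divisor of `q ^ 4 + 1` -/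
theorem ord_C {q l : ℕ} (hl : l.Prime) (hl2 : l ≠ 2) (hlN : l ∣ q ^ 4 + 1) : orderOf ((q ^ 2 : ℕ) : ZMod l) = 4 := by
  have hlf : Fact l.Prime := ⟨hl⟩
  have h1 : (q : ZMod l) ^ 4 + 1 = 0 := by
    have h1 := (ZMod.natCast_eq_zero_iff (q ^ 4 + 1) l).2 hlN
    push_cast at h1
    exact h1
  have h2 : ((2 : ℕ) : ZMod l) ≠ 0 := by
    intro h
    rw [ZMod.natCast_eq_zero_iff] at h
    exact hl2 ((Nat.prime_dvd_prime_iff_eq hl Nat.prime_two).1 h)
  push_cast at h2 ⊢
  generalize (q : ZMod l) = y at h1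
  apply orderOf_eq_of_pow_and_pow_div_prime (by norm_num)
  · calc (y ^ 2) ^ 4 = (y ^ 4 + 1 - 1) ^ 2 := by ring
      _ = 1 := by rw [h1]; ring
  · intro p hp hpd
    have : p = 2 := by
      have h5 : p ∣ 2 ^ 2 := hpd
      exact (Nat.prime_dvd_prime_iff_eq hp Nat.prime_two).1 (hp.dvd_of_dvd_pow h5)
    subst this
    intro h
    apply h2
    have e : (y ^ 2) ^ (4 / 2) = y ^ 4 + 1 - 1 := by norm_num; ring
    rw [e, h1] at h
    linear_combination -h

/-- the number `c` with `3 c ≡ 8` -/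
theorem exists_c {l : ℕ} (hl : Odd l) (hl17 : 16 < l) (h3 : ¬ 3 ∣ l) :
    ∃ c, 0 < c ∧ c < l ∧ 8 ≡ 3 * c [MOD l] ∧ ¬ 4 ∣ c := by
  obtain ⟨j, hj⟩ := hl
  rcases (by (clear * - h3; omega) : l % 3 = 1 ∨ l % 3 = 2) with h | h
  · refine ⟨(8 + l) / 3, by omega, by omega, ?_, by omega⟩
    have e : 3 * ((8 + l) / 3) = 8 + l := by omega
    rw [e]
    exact (Nat.add_modEq_right).symm
  · refine ⟨(8 + 2 * l) / 3, by omega, by (clear * - hl17; omega), ?_, by omega⟩
    have e : 3 * ((8 + 2 * l) / 3) = 8 + l * 2 := by omega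
    rw [e]
    rw [Nat.ModEq, Nat.add_mul_mod_self_left]

end Cfsg.Agent.H29.PDTwE6Num
end

-- part: H29/PDTwE6
section
/-!
# S4246, the row `²E₆(q)` (helper29, task 3524)

Three cyclic tori `T_A`, `T_B`, `T_C` of orders `(q⁶ - q³ + 1) / d`, `(q⁴ - q² + 1)(q² - q + 1) / d`,
`(q⁴ + 1)(q² - 1) / d`, `d = (3, q + 1)`, and primitive primes of `p^(18 e) - 1`, `p^(12 e) - 1`, `p^(8 e) - 1`.
-/

set_option autoImplicit false
set_option linter.unusedSectionVars false

namespace Cfsg.Agent.H29.PDTwE6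

open CoxeterSystem Cfsg Cfsg.Lie Cfsg.Lie.ChevalleyDatum
open Cfsg.Agent.ChevalleyStructure Cfsg.Agent.ChevalleyStructure.Elts Cfsg.Agent.ChevalleyStructure.CoxeterGeom
  Cfsg.Agent.ChevalleyStructure.CoxeterGeomTypes Cfsg.Agent.ChevalleyStructure.NPerm
open Cfsg.Agent.Tits.Roots Cfsg.Agent.Tits.Core Cfsg.Agent.Nodes Cfsg.Agent.Nodes.Reps Cfsg.Agent.Nodes.BNOf
  Cfsg.Agent.Nodes.RGDChev Cfsg.Agent.Nodes.Bruhat Cfsg.Agent.Nodes.SubComb Cfsg.Agent.Nodes.Coroot
open Cfsg.Agent.KFacts.RgdField Cfsg.Agent.KFacts.RgdChevCoord Cfsg.Agent.BpExc.TorCent Cfsg.Agent.BpExc.TorChev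
open Cfsg.Agent.GpExc.Field Cfsg.Agent.BpExc.Tow Cfsg.Agent.BpExc.TowChev Cfsg.Agent.BpExc.Fr
  Cfsg.Agent.BpExc.LangFr Cfsg.Agent.LangThm Cfsg.Agent.BpExc Cfsg.Agent.H129.TorusChar Cfsg.Agent.H129.TorusCent
  Cfsg.Agent.H129.TorusTw Cfsg.Agent.H129.TorusMain Cfsg.Agent.H129.TorusUntw Cfsg.Agent.ChevStructure.FieldMap
  Cfsg.Agent.BpExc.EmbSplit Cfsg.Agent.BpExc.EmbInst Cfsg.Agent.H83.TorAut Cfsg.Agent.H129
  Cfsg.Agent.H129.TwE6Fr Cfsg.Agent.H83.RootCount Cfsg.Agent.H83.TorE6 Cfsg.Agent.H83.AutCount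
  Cfsg.Agent.H568 Cfsg.Agent.H83.RowE6A Cfsg.Agent.H83.RowE6B Cfsg.Agent.H83.RowE6C Cfsg.Agent.H83.RowE6
open Cfsg.Agent.H29.PDNoOdd (Iso1)
open Cfsg.Agent.H160.PD (Inc NoOdd Good)

universe u

/-! ### the third torus -/

section

variable {k : Type u} [Field k] [IsAlgClosed k] {p e : ℕ} [Fact p.Prime] [CharP k p]
  {F : Type u} [Field F] [Fintype F] (f : F →+* k) {q : ℕ} (hq : IsPrimePow q) (hF : Fintype.card F = q ^ 2)

theorem coprimeC {q : ℕ} (hq1 : 1 ≤ q) : q.Coprime ((q ^ 4 + 1) * (q ^ 2 - 1)) := by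
  rw [← Nat.isCoprime_iff_coprime, PDTwE6Num.castN3 hq1]
  exact ⟨(q : ℤ) - (q : ℤ) ^ 3 + (q : ℤ) ^ 5, -1, by ring⟩

theorem torC (hk : LocFin k) (hqe : q = p ^ e) :
    ∃ (d' : ℕ) (z t : ↥(chevE6.group k)) (u : k) (x0 : ↥(twistedE6 F q)),
    Tor6 f hq hF cE p e H83.TwEC.B ((q ^ 4 + 1) * (q ^ 2 - 1)) d' z t u x0 := by
  have hq1 := hq.one_lt.le
  have hlin := lin_flip cE H83.TwEC.hA H83.TwEC.chainOK H83.TwEC.hd_pi
  refine exists_tor6 f hq hF cE hk hqe (H83.TwEC.chain.map Prod.fst) (WData.cyc_of hlin H83.TwEC.cycOK)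
    (by rw [H83.TwEC.fN_eq, PDTwE6Num.castN3 hq1]) (coprimeC hq1) ?_
  have h1 : 2 ^ 2 ≤ q ^ 2 := Nat.pow_le_pow_left hq.two_le 2
  exact Nat.mul_ne_zero (by omega) (by omega)

theorem regC {q : ℕ} (hq1 : 1 ≤ q) {r : ℕ} (hr : r.Prime) (hr5 : 5 < r) (hrN : r ∣ q ^ 4 + 1) :
    (¬ r ∣ Nat.card WE) ∧ ∀ a, IsRoot cE RGDTwE6.hp.isCartan a → ¬ (r : ℤ) ∣ Gq H83.TwEC.B (q : ℤ) a := by
  refine ⟨not_dvd_W hr (by omega) (by omega) (by omega), fun a ha => ?_⟩
  have hlin := lin_flip cE H83.TwEC.hA H83.TwEC.chainOK H83.TwEC.hd_pi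
  refine WData.not_dvd_G RGDTwE6.hp cE hlin (WData.cyc_of hlin H83.TwEC.cycOK) H83.TwEC.rootOK (q := q)
    (N := (q ^ 4 + 1) * (q ^ 2 - 1)) (by rw [H83.TwEC.fN_eq, PDTwE6Num.castN3 hq1]) hr (hrN.mul_right _) (coprimeC hq1)
    (fun s hs => ?_) ha
  have hrq : (r : ℤ) ∣ 1 + (q : ℤ) ^ 4 := by
    have h1 := Int.natCast_dvd_natCast.2 hrN
    push_cast at h1
    rwa [add_comm] at h1
  have h6 := H83.TwEC.dvd_of_G hrq s hs
  have h7 : r ∣ 2 := by exact_mod_cast h6
  have := Nat.le_of_dvd (by norm_num) h7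
  omega

end

/-! ### the data of a torus -/

section

variable {k : Type u} [Field k] [IsAlgClosed k] {p e : ℕ} [Fact p.Prime] [CharP k p]
  {F : Type u} [Field F] [Fintype F] {f : F →+* k} {q : ℕ} {hq : IsPrimePow q} {hF : Fintype.card F = q ^ 2}

/-- the data of a torus with a primitive prime `l` -/
structure TD (f : F →+* k) (hq : IsPrimePow q) (hF : Fintype.card F = q ^ 2) (p e : ℕ) [Fact p.Prime] [CharP k p]
    (B : Fin 6 → Fin 6 → ℤ) (N c l : ℕ) (z t : ↥(chevE6.group k)) (u : k) (x0 x1 : ↥(twistedE6 F q)) : Prop where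
  T : Tor6 f hq hF cE p e B N (Nat.gcd 3 (q + 1)) z t u x0
  N0 : N ≠ 0
  hW : ¬ l ∣ Nat.card WE
  hreg : ∀ a, IsRoot cE RGDTwE6.hp.isCartan a → ¬ (l : ℤ) ∣ Gq B (q : ℤ) a
  mem : x1 ∈ Subgroup.zpowers x0
  cent : Subgroup.centralizer {x1} = Subgroup.zpowers x0
  iso : Iso1 ↥(twistedE6 F q) l x1 c
  card : Nat.card ↥(Subgroup.zpowers x0) * Nat.gcd 3 (q + 1) = N
  stab : Nat.card ↥(MulAction.stabilizer (MulAut ↥(twistedE6 F q)) x1) ≤ 2 * N

/-- **Existence.** -/
theorem mkTD (hqe : q = p ^ e) (he : 1 ≤ e) {B : Fin 6 → Fin 6 → ℤ} {N d' : ℕ} {z t : ↥(chevE6.group k)} {u : k}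
    {x0 : ↥(twistedE6 F q)} (T1 : Tor6 f hq hF cE p e B N d' z t u x0) (hN0 : N ≠ 0) {M : ℕ}
    (hM : q ^ 36 * (q ^ 2 - 1) * (q ^ 5 + 1) * (q ^ 6 - 1) * (q ^ 8 - 1) * (q ^ 9 + 1) * (q ^ 12 - 1) = N * M)
    {l : ℕ} (hl : l.Prime) (hl3 : l ≠ 3) (hlN : l ∣ N) (hW : ¬ l ∣ Nat.card WE)
    (hreg : ∀ a, IsRoot cE RGDTwE6.hp.isCartan a → ¬ (l : ℤ) ∣ Gq B (q : ℤ) a)
    {c' m' : ℕ} (hc' : 0 < c') (hcl' : c' < l) (hmod' : M ≡ 3 * c' [MOD l]) (hm' : orderOf ((q ^ 2 : ℕ) : ZMod l) = m')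
    (hmc' : ¬ m' ∣ c')
    {c m : ℕ} (hc : 0 < c) (hcl : c < l) (hmod : M ≡ c [MOD l]) (hord : orderOf (p : ZMod l) = m) (hm0 : 0 < m)
    (hcm : c * e ≤ m) : ∃ x1, TD f hq hF p e B N c l z t u x0 x1 := by
  have hd := exact T1 hN0 hM hl hl3 hlN hW hreg hc' hcl' hmod' hm' hmc'
  subst hd
  have hd0 : 0 < Nat.gcd 3 (q + 1) := Nat.gcd_pos_of_pos_left _ (by norm_num)
  obtain ⟨n, hn⟩ := T1.hdN
  have hNd : N / Nat.gcd 3 (q + 1) = n := by rw [hn, Nat.mul_div_cancel_left _ hd0]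
  have hn0 : n ≠ 0 := by rintro rfl; rw [mul_zero] at hn; exact hN0 hn
  have hx0o : orderOf x0 = n := by rw [T1.hord, hNd]
  have hln : l ∣ n := by
    rw [hn] at hlN
    rcases hl.dvd_mul.1 hlN with h | h
    · exfalso
      have h3 : l ∣ 3 := h.trans (Nat.gcd_dvd_left _ _)
      exact hl3 ((Nat.prime_dvd_prime_iff_eq hl Nat.prime_three).1 h3)
    · exact h
  obtain ⟨j, hj⟩ := hln
  have hj0 : j ≠ 0 := by rintro rfl; rw [mul_zero] at hj; exact hn0 hj
  have hx1l : orderOf (x0 ^ j) = l := by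
    rw [orderOf_pow_of_dvd hj0 (by rw [hx0o, hj]; exact Dvd.intro_left _ rfl), hx0o, hj,
      Nat.mul_div_cancel _ (Nat.pos_of_ne_zero hj0)]
  have hmem : x0 ^ j ∈ Subgroup.zpowers x0 := Subgroup.npow_mem_zpowers x0 j
  have hT := (T1.hcent (x0 ^ j) hmem l hl (by rw [hx1l]) hW hreg).1
  have hcyc : IsCyclic ↥(Subgroup.zpowers x0) := inferInstance
  have hidx : (Subgroup.zpowers x0).index = M := Nat.eq_of_mul_eq_mul_left hd0 (index_eq T1 hN0 hM)
  have hcard : Nat.card ↥(Subgroup.zpowers x0) * Nat.gcd 3 (q + 1) = N := by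
    rw [Nat.card_zpowers, hx0o, hn, mul_comm]
  obtain ⟨hsim, hna⟩ := S1070.result hq hF
  have hZ : Subgroup.center ↥(twistedE6 F q) = ⊥ := center_eq_bot hna
  have hcF : CharP F p := RingHom.charP f f.injective p
  have hout := index_out hqe he hF
  obtain ⟨b, hb⟩ := T1.hfield
  have hbx : b (x0 ^ j) = (x0 ^ j) ^ p := by rw [map_pow, hb, ← pow_mul, ← pow_mul, mul_comm]
  have hstab := card_fix_le hl hx1l hT hcyc hZ hc hcl (by rw [hidx]; exact hmod) hbx hord
    (d := 2 * Nat.gcd 3 (q + 1)) (by rw [hout]; nlinarith only [hcm]) hm0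
  refine ⟨x0 ^ j, T1, hN0, hW, hreg, hmem, hT, ⟨hl, hx1l, by rw [hT]; exact hcyc, hc, hcl, by rw [hT, hidx]; exact hmod⟩,
    hcard, ?_⟩
  rw [← hcard]
  calc Nat.card ↥(MulAction.stabilizer (MulAut ↥(twistedE6 F q)) (x0 ^ j))
      ≤ 2 * Nat.gcd 3 (q + 1) * Nat.card ↥(Subgroup.zpowers x0) := hstab
    _ = _ := by ring

variable {B B2 : Fin 6 → Fin 6 → ℤ} {N N2 c c2 l l2 : ℕ} {z t z2 t2 : ↥(chevE6.group k)} {u u2 : k}
  {x0 x1 x02 x12 : ↥(twistedE6 F q)}

/-- **Elements of the first torus commuting with an element of the second torus** -/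
theorem eq_one (hqe : q = p ^ e) (D1 : TD f hq hF p e B N c l z t u x0 x1)
    (D2 : TD f hq hF p e B2 N2 c2 l2 z2 t2 u2 x02 x12) (hgcd : Nat.gcd N N2 ∣ 3)
    (hne : Nat.gcd N N2 = 1 ∨ Nat.card {r : Fin chevE6.nroots // ¬ (3 : ℤ) ∣ Gq B q (vec chevE6 6 r)} ≠
      Nat.card {r : Fin chevE6.nroots // ¬ (3 : ℤ) ∣ Gq B2 q (vec chevE6 6 r)})
    {y' : ↥(twistedE6 F q)} (hy' : orderOf y' = l2) {i : ℤ}
    (h : (z * t ^ i * z⁻¹) * embT f hq hF y' = embT f hq hF y' * (z * t ^ i * z⁻¹)) : t ^ i = 1 := by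
  classical
  obtain ⟨s, -, j, hj⟩ := D2.iso.conj hy'
  have hj' : y' ^ j = s * x12 * s⁻¹ := hj
  set g := z * t ^ i * z⁻¹ with hg
  set e0 := embT f hq hF with he0
  have h1 : g * e0 (s * x12 * s⁻¹) = e0 (s * x12 * s⁻¹) * g := by
    rw [← hj', map_zpow]
    exact ((show Commute g (e0 y') from h).zpow_right j).eq
  have h2 : ((e0 s)⁻¹ * g * e0 s) * e0 x12 = e0 x12 * ((e0 s)⁻¹ * g * e0 s) := by
    rw [map_mul, map_mul, map_inv] at h1
    calc ((e0 s)⁻¹ * g * e0 s) * e0 x12 = (e0 s)⁻¹ * (g * (e0 s * e0 x12 * (e0 s)⁻¹)) * e0 s := by group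
      _ = (e0 s)⁻¹ * (e0 s * e0 x12 * (e0 s)⁻¹ * g) * e0 s := by rw [h1]
      _ = _ := by group
  have h3 := (D2.T.hcent x12 D2.mem l2 D2.iso.prime (by rw [D2.iso.ord]) D2.hW D2.hreg).2 _ h2
  set w := z2⁻¹ * ((e0 s)⁻¹ * g * e0 s) * z2 with hw
  have h4 : z2 * w * z2⁻¹ = (e0 s)⁻¹ * g * e0 s := by rw [hw]; group
  have h5 : w ∈ Subgroup.zpowers t2 := by
    rw [← D2.T.hfix w h3, h4, map_mul, map_mul, map_inv, he0, tau_embT f hqe hq hF, hg, tau_T D1.T]
  obtain ⟨j', hj'⟩ := h5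
  have hj'' : t2 ^ j' = w := hj'
  have key : t ^ i = (z⁻¹ * e0 s * z2) * t2 ^ j' * (z⁻¹ * e0 s * z2)⁻¹ := by
    rw [hj'', hw, hg]
    group
  rcases hne with hne | hne
  · have ho : orderOf (t ^ i) = orderOf (t2 ^ j') := by
      rw [key]
      exact orderOf_injective (MulAut.conj (z⁻¹ * e0 s * z2)).toMonoidHom (MulAut.conj _).injective (t2 ^ j')
    have h6 : orderOf (t ^ i) ∣ 1 := by
      rw [← hne]
      refine Nat.dvd_gcd ?_ ?_
      · rw [← D1.T.htN]; exact orderOf_dvd_of_mem_zpowers (Subgroup.zpow_mem_zpowers t i)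
      · rw [ho, ← D2.T.htN]; exact orderOf_dvd_of_mem_zpowers (Subgroup.zpow_mem_zpowers t2 j')
    rw [← orderOf_eq_one_iff]
    exact Nat.dvd_one.1 h6
  · exact eq_one_of_conj RGDTwE6.hp D1.T.ht D2.T.ht D1.T.hu D2.T.hu D1.T.hcX D2.T.hcX D1.T.htN D2.T.htN hgcd hne key

/-- **The automorphisms of odd order fixing `x1`**, if the torus acts faithfully. -/
theorem fix_form (D1 : TD f hq hF p e B N c l z t u x0 x1) (hqe : q = p ^ e)
    {y : ↥(twistedE6 F q)}
    (hsec : ∀ i : ℤ, (z * t ^ i * z⁻¹) * embT f hq hF y = embT f hq hF y * (z * t ^ i * z⁻¹) → t ^ i = 1)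
    {a : MulAut ↥(twistedE6 F q)} (ha : a x1 = x1) (hao : Odd (orderOf a)) :
    ∃ i : ℤ, ∀ y, embT f hq hF (a y) = (z * t ^ i * z⁻¹) * embT f hq hF y * (z * t ^ i * z⁻¹)⁻¹ := by
  classical
  set G : ℤ → ↥(chevE6.group k) := fun i => z * t ^ i * z⁻¹ with hG
  have hGm : ∀ i j, G (i + j) = G i * G j := by
    intro i j
    simp only [hG]
    rw [zpow_add]
    group
  have hGi : ∀ i, G (-i) = (G i)⁻¹ := by
    intro i
    simp only [hG]
    rw [zpow_neg]
    group
  have hG0 : G 0 = 1 := by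
    simp only [hG]
    rw [zpow_zero]
    group
  set e0 := embT f hq hF with he0
  have hA : ∀ i : ℤ, ∃ b : MulAut ↥(twistedE6 F q), ∀ y, e0 (b y) = G i * e0 y * (G i)⁻¹ := by
    intro i
    refine H83.TorAut.exists_aut (embT_injective f hq hF) (θ := fun y => G i * y * (G i)⁻¹)
      (fun a b => by group) (fun a b h => ?_) (fun y => tau_normal f hqe hq hF (tau_T D1.T i) ⟨y, rfl⟩)
    exact mul_left_cancel (mul_right_cancel h)
  choose A hA using hA
  let 𝒜 : Subgroup (MulAut ↥(twistedE6 F q)) :=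
    { carrier := {b | ∃ i : ℤ, ∀ y, e0 (b y) = G i * e0 y * (G i)⁻¹}
      one_mem' := ⟨0, fun y => by rw [hG0]; simp⟩
      mul_mem' := by
        rintro b b' ⟨i, hi⟩ ⟨i', hi'⟩
        refine ⟨i + i', fun y => ?_⟩
        rw [MulAut.mul_apply, hi, hi', hGm]
        group
      inv_mem' := by
        rintro b ⟨i, hi⟩
        refine ⟨-i, fun y => ?_⟩
        have h1 := hi (b⁻¹ y)
        rw [MulAut.apply_inv_self] at h1
        rw [hGi, h1]
        group }
  have hmem : ∀ b, b ∈ 𝒜 ↔ ∃ i : ℤ, ∀ y, e0 (b y) = G i * e0 y * (G i)⁻¹ := fun b => Iff.rfl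
  have hAx : ∀ b ∈ 𝒜, b x1 = x1 := by
    rintro b ⟨i, hi⟩
    obtain ⟨j, hj⟩ := D1.mem
    have hj' : x0 ^ j = x1 := hj
    apply embT_injective f hq hF
    show e0 (b x1) = e0 x1
    rw [hi, ← hj', map_zpow, he0, D1.T.hx0]
    have h1 : G i * (z * t ^ Nat.gcd 3 (q + 1) * z⁻¹) = (z * t ^ Nat.gcd 3 (q + 1) * z⁻¹) * G i := by
      have h2 : t ^ i * t ^ Nat.gcd 3 (q + 1) = t ^ Nat.gcd 3 (q + 1) * t ^ i :=
        ((Commute.refl t).zpow_left i).pow_right _
      calc G i * (z * t ^ Nat.gcd 3 (q + 1) * z⁻¹) = z * (t ^ i * t ^ Nat.gcd 3 (q + 1)) * z⁻¹ := by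
            simp only [hG]
            group
        _ = _ := by
            rw [h2]
            simp only [hG]
            group
    have h3 := ((show Commute (G i) (z * t ^ Nat.gcd 3 (q + 1) * z⁻¹) from h1).zpow_right j).eq
    rw [h3, mul_inv_cancel_right]
  have hle : 𝒜 ≤ MulAction.stabilizer (MulAut ↥(twistedE6 F q)) x1 := fun b hb => by
    rw [MulAction.mem_stabilizer_iff]
    exact hAx b hb
  -- `N ≤ |𝒜|`
  have hcard : N ≤ Nat.card ↥𝒜 := by
    let Φ : Fin N → ↥𝒜 := fun i => ⟨A ((i : ℕ) : ℤ), ⟨_, hA _⟩⟩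
    have hΦ : Function.Injective Φ := by
      intro i j h
      have h1 : A ((i : ℕ) : ℤ) = A ((j : ℕ) : ℤ) := congrArg Subtype.val h
      have h2 : G ((i : ℕ) : ℤ) * e0 y * (G ((i : ℕ) : ℤ))⁻¹ = G ((j : ℕ) : ℤ) * e0 y * (G ((j : ℕ) : ℤ))⁻¹ := by
        rw [← hA, ← hA, h1]
      have h3 := hsec (((i : ℕ) : ℤ) - ((j : ℕ) : ℤ)) (by
        change G (((i : ℕ) : ℤ) - ((j : ℕ) : ℤ)) * e0 y = e0 y * G (((i : ℕ) : ℤ) - ((j : ℕ) : ℤ))
        have e1 : G (((i : ℕ) : ℤ) - ((j : ℕ) : ℤ)) = (G ((j : ℕ) : ℤ))⁻¹ * G ((i : ℕ) : ℤ) := by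
          rw [← hGi, ← hGm]
          congr 1
          ring
        rw [e1]
        set gi := G ((i : ℕ) : ℤ) with hgi
        set gj := G ((j : ℕ) : ℤ) with hgj
        calc gj⁻¹ * gi * e0 y = gj⁻¹ * (gi * e0 y * gi⁻¹) * gi := by group
          _ = gj⁻¹ * (gj * e0 y * gj⁻¹) * gi := by rw [h2]
          _ = _ := by group)
      rw [← orderOf_dvd_iff_zpow_eq_one, D1.T.htN] at h3
      have hi := i.2
      have hj := j.2
      apply Fin.ext
      have h4 : ((i : ℕ) : ℤ) - ((j : ℕ) : ℤ) = 0 := by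
        apply Int.eq_zero_of_abs_lt_dvd h3
        rw [abs_lt]
        constructor <;> omega
      omega
    have h1 := Nat.card_le_card_of_injective Φ hΦ
    rwa [Nat.card_eq_fintype_card, Fintype.card_fin] at h1
  -- the index is at most two
  have haS : a ∈ MulAction.stabilizer (MulAut ↥(twistedE6 F q)) x1 := by
    rw [MulAction.mem_stabilizer_iff]
    exact ha
  set St := MulAction.stabilizer (MulAut ↥(twistedE6 F q)) x1 with hSt
  have hidx : (𝒜.subgroupOf St).index = 1 ∨ (𝒜.subgroupOf St).index = 2 := by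
    have h1 := (𝒜.subgroupOf St).card_mul_index
    have h2 : Nat.card ↥(𝒜.subgroupOf St) = Nat.card ↥𝒜 := Nat.card_congr (Subgroup.subgroupOfEquivOfLe hle).toEquiv
    rw [h2] at h1
    have h3 : Nat.card ↥𝒜 * (𝒜.subgroupOf St).index ≤ Nat.card ↥𝒜 * 2 := by
      rw [h1, mul_comm]
      exact D1.stab.trans (Nat.mul_le_mul_left 2 hcard)
    have h4 : (𝒜.subgroupOf St).index ≤ 2 := Nat.le_of_mul_le_mul_left h3 Nat.card_pos
    have h5 : (𝒜.subgroupOf St).index ≠ 0 := Subgroup.index_ne_zero_of_finite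
    omega
  have hsq : a ^ 2 ∈ 𝒜 := by
    have h1 : (⟨a, haS⟩ : ↥St) ^ 2 ∈ 𝒜.subgroupOf St := by
      rcases hidx with h | h
      · rw [Subgroup.index_eq_one.1 h]
        exact Subgroup.mem_top _
      · exact Subgroup.sq_mem_of_index_two h _
    exact h1
  obtain ⟨n, hn⟩ := hao
  have h1 : a = (a ^ 2) ^ (n + 1) := by
    rw [← pow_mul, show 2 * (n + 1) = (2 * n + 1) + 1 by ring, pow_succ, ← hn, pow_orderOf_eq_one, one_mul]
  have h2 : a ∈ 𝒜 := by
    rw [h1]
    exact pow_mem hsq _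
  exact h2

/-- **`Inc`** -/
theorem inc (hqe : q = p ^ e) (D1 : TD f hq hF p e B N c l z t u x0 x1)
    (D2 : TD f hq hF p e B2 N2 c2 l2 z2 t2 u2 x02 x12) (hgcd : Nat.gcd N N2 ∣ 3)
    (hne : Nat.gcd N N2 = 1 ∨ Nat.card {r : Fin chevE6.nroots // ¬ (3 : ℤ) ∣ Gq B q (vec chevE6 6 r)} ≠
      Nat.card {r : Fin chevE6.nroots // ¬ (3 : ℤ) ∣ Gq B2 q (vec chevE6 6 r)}) :
    Inc ↥(twistedE6 F q) l l2 := by
  intro b hb hb2 x hx hbx y hy hby
  obtain ⟨s, -, j, hj⟩ := D1.iso.conj hx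
  have hj' : x ^ j = s * x1 * s⁻¹ := hj
  set g : MulAut ↥(twistedE6 F q) := MulAut.conj s⁻¹ with hg
  have hgx : g⁻¹ x1 = x ^ j := by
    rw [hj', hg, ← map_inv, inv_inv, MulAut.conj_apply]
  have h1 : (g * b * g⁻¹) x1 = x1 := by
    rw [MulAut.mul_apply, MulAut.mul_apply, hgx, map_zpow, hbx, ← hgx, MulAut.apply_inv_self]
  have h2 : (g * b * g⁻¹) (g y) = g y := by
    rw [MulAut.mul_apply, MulAut.mul_apply, MulAut.inv_apply_self, hby]
  have ho : orderOf (g * b * g⁻¹) = orderOf b :=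
    orderOf_injective (MulAut.conj g).toMonoidHom (MulAut.conj g).injective b
  have hyo : orderOf (g y) = l2 := by rw [MulEquiv.orderOf_eq, hy]
  have hsec := fun (i : ℤ) => eq_one (i := i) hqe D1 D2 hgcd hne hyo
  obtain ⟨i, hi⟩ := fix_form D1 hqe (y := g y) hsec h1 (by rw [ho]; exact hb.odd_of_ne_two hb2)
  have h3 : t ^ i = 1 := by
    apply hsec i
    have h4 := hi (g y)
    rw [h2] at h4
    conv_rhs => rw [h4]
    rw [inv_mul_cancel_right]
  have h5 : g * b * g⁻¹ = 1 := by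
    refine MulEquiv.ext fun w => ?_
    apply embT_injective f hq hF
    show embT f hq hF ((g * b * g⁻¹) w) = embT f hq hF w
    rw [hi, h3]
    group
  rw [h5, orderOf_one] at ho
  rw [← ho] at hb
  exact Nat.not_prime_one hb

/-- **`NoOdd`** -/
theorem noOdd (D1 : TD f hq hF p e B N c l z t u x0 x1)
    (D2 : TD f hq hF p e B2 N2 c2 l2 z2 t2 u2 x02 x12) (hgcd : Nat.gcd N N2 ∣ 3) (hl3 : l ≠ 3) (hl23 : l2 ≠ 3)
    (h1 : c < l2) (h2 : c2 < l) : NoOdd ↥(twistedE6 F q) l l2 := by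
  have hln : ∀ {B : Fin 6 → Fin 6 → ℤ} {N c l : ℕ} {z t : ↥(chevE6.group k)} {u : k} {x0 x1 : ↥(twistedE6 F q)},
      TD f hq hF p e B N c l z t u x0 x1 → l ∣ Nat.card ↥(Subgroup.centralizer {x1}) ∧
        Nat.card ↥(Subgroup.centralizer {x1}) ∣ N := by
    intro B N c l z t u x0 x1 D
    constructor
    · rw [D.cent, ← D.iso.ord]
      have := orderOf_dvd_natCard (⟨x1, D.mem⟩ : ↥(Subgroup.zpowers x0))
      rwa [Subgroup.orderOf_mk] at this
    · rw [D.cent, ← D.card]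
      exact dvd_mul_right _ _
  obtain ⟨a1, a2⟩ := hln D1
  obtain ⟨b1, b2⟩ := hln D2
  have key : ∀ r : ℕ, r.Prime → r ≠ 3 → r ∣ N → r ∣ N2 → False := by
    intro r hr hr3 h3 h4
    exact hr3 ((Nat.prime_dvd_prime_iff_eq hr Nat.prime_three).1 ((Nat.dvd_gcd h3 h4).trans hgcd))
  refine D1.iso.noOdd D2.iso ?_ (fun h => key l2 D2.iso.prime hl23 (h.trans a2) (b1.trans b2))
    (fun h => key l D1.iso.prime hl3 (a1.trans a2) (h.trans b2)) h1 h2
  rintro rfl
  exact key l D1.iso.prime hl3 (a1.trans a2) (b1.trans b2)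

/-- **`Good`** -/
theorem good (hqe : q = p ^ e) (he : 1 ≤ e) (D1 : TD f hq hF p e B N c l z t u x0 x1) (hl3 : 3 < l) (hle : e < l) :
    _root_.Cfsg.Agent.H160.PD.Good ↥(twistedE6 F q) l := by
  have hcF : CharP F p := RingHom.charP f f.injective p
  refine D1.iso.good (by omega) ?_
  have hout := index_out hqe he hF
  show ¬ l ∣ (MulAut.conj : ↥(twistedE6 F q) →* MulAut ↥(twistedE6 F q)).range.index
  rw [hout]
  intro h
  rcases D1.iso.prime.dvd_mul.1 h with h | h
  · rcases D1.iso.prime.dvd_mul.1 h with h | h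
    · have := Nat.le_of_dvd (by norm_num) h
      omega
    · have := Nat.le_of_dvd (by norm_num) (h.trans (Nat.gcd_dvd_left _ _))
      omega
  · have := Nat.le_of_dvd (by omega) h
    omega

end

/-- **`Row (²E₆(q))`.** -/
theorem row_tw {F : Type u} [Field F] [Fintype F] {q : ℕ} (hq : IsPrimePow q) (hF : Fintype.card F = q ^ 2) :
    H160.PD.Row ↥(twistedE6 F q) := by
  classical
  obtain ⟨r, e', hrF, hcF, hck, -, hre, hk⟩ := _root_.Cfsg.Agent.H129.TorusUntw.exists_closure hF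
  obtain ⟨r', e, hr', he, hqe'⟩ := id hq
  have hrr : r' = r := by
    have h1 : r' ∣ r ^ e' := by
      rw [← hre, ← hqe']
      exact dvd_pow (dvd_pow_self r' he.ne') (by norm_num)
    exact (Nat.prime_dvd_prime_iff_eq hr'.nat_prime hrF.out).1 (hr'.nat_prime.dvd_of_dvd_pow h1)
  subst hrr
  have hqe : q = r' ^ e := hqe'.symm
  have hq1 := hq.one_lt.le
  obtain ⟨hsim, hna⟩ := S1070.result hq hF
  have hZ : Subgroup.center ↥(twistedE6 F q) = ⊥ := center_eq_bot hna
  -- the primes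
  obtain ⟨lA, hlA, hoA, hdA, hleA⟩ := H83.NumE6.exists_l hrF.out (f := e) (by omega)
  obtain ⟨lB, hlB, hoB, hdB, hleB⟩ := PDTwE6Num.exists_l12 hrF.out (f := e) (by omega)
  obtain ⟨lC, hlC, hoC, hdC, hleC⟩ := PDTwE6Num.exists_l8 hrF.out (f := e) (by omega)
  rw [← hqe] at hdA hdB hdC
  -- `16 < lC`
  have hlC17 : 16 < lC := by
    have hlf : Fact lC.Prime := ⟨hlC⟩
    have h0 : ((r' : ℕ) : ZMod lC) ≠ 0 := by
      intro h0
      rw [h0, orderOf_zero] at hoC
      omega
    have h1 : orderOf ((r' : ℕ) : ZMod lC) ∣ lC - 1 := ZMod.orderOf_dvd_card_sub_one h0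
    rw [hoC] at h1
    obtain ⟨j, hj⟩ := (Dvd.intro e rfl : 8 ∣ 8 * e).trans h1
    have h2 := hlC.two_le
    by_contra h3
    have h4 : lC = 9 := by omega
    rw [h4] at hlC
    norm_num at hlC
  -- the tori
  obtain ⟨dA, zA, tA, uA, xA, TA⟩ := torA (algebraMap F (AlgebraicClosure F)) hq hF hk hqe
  obtain ⟨dB, zB, tB, uB, xB, TB⟩ := torB (algebraMap F (AlgebraicClosure F)) hq hF hk hqe
  obtain ⟨dC, zC, tC, uC, xC, TC⟩ := torC (algebraMap F (AlgebraicClosure F)) hq hF hk hqe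
  obtain ⟨hWA, hrA⟩ := regA hq1 hlA hdA (by omega)
  obtain ⟨hWB, hrB⟩ := regB hq1 hlB hdB
  obtain ⟨hWC, hrC⟩ := regC hq1 hlC (by omega) hdC
  have hq4 : 2 ^ 2 ≤ q ^ 2 := Nat.pow_le_pow_left hq.two_le 2
  obtain ⟨yA, DA⟩ := mkTD hqe (by omega) TA (by omega) (H83.NumE6.eq1 hq1) hlA (by omega) hdA hWA hrA (c' := 3) (m' := 9)
    (by norm_num) (by omega) (H83.NumE6.mod1 hq1 hdA) (by rw [hqe]; exact ord_A (by omega) hoA) (by norm_num) (c := 9)
    (by norm_num) (by omega) (H83.NumE6.mod1 hq1 hdA) hoA (by omega) (by omega)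
  obtain ⟨yB, DB⟩ := mkTD hqe (by omega) TB (Nat.mul_ne_zero (by omega) (by omega)) (H83.NumE6.eq2 hq1) hlB (by omega)
    (hdB.mul_right _) hWB hrB (c' := 4) (m' := 6)
    (by norm_num) (by omega) (H83.NumE6.mod2 hq1 hdB) (ord_B hq1 hlB hdB) (by norm_num) (c := 12)
    (by norm_num) (by omega) (H83.NumE6.mod2 hq1 hdB) hoB (by omega) (by omega)
  obtain ⟨c', hc'0, hc'l, hc'm, hc'4⟩ := PDTwE6Num.exists_c (hlC.odd_of_ne_two (by omega)) hlC17 (by
    intro h
    have := (Nat.prime_dvd_prime_iff_eq Nat.prime_three hlC).1 h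
    omega)
  obtain ⟨yC, DC⟩ := mkTD hqe (by omega) TC (Nat.mul_ne_zero (by omega) (by omega)) (PDTwE6Num.eq3 hq1) hlC (by omega)
    (hdC.mul_right _) hWC hrC (c' := c') (m' := 4)
    hc'0 hc'l ((PDTwE6Num.mod3 hq1 hdC).trans hc'm) (PDTwE6Num.ord_C hlC (by omega) hdC) hc'4 (c := 8)
    (by norm_num) (by omega) (PDTwE6Num.mod3 hq1 hdC) hoC (by omega) (by omega)
  have gAB := gcd_AB hq1
  have gAC := PDTwE6Num.gcd_AC hq1
  have gBC := PDTwE6Num.gcd_BC hq1
  -- the prime 3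
  have hthree : Nat.gcd 3 (q + 1) = 3 ∨ ¬ 3 ∣ q + 1 := by
    by_cases h : 3 ∣ q + 1
    · left
      exact Nat.gcd_eq_left h
    · right
      exact h
  have one_of : ∀ {n : ℕ}, n ∣ 3 → ¬ 3 ∣ n → n = 1 := by
    intro n h1 h2
    rcases (Nat.dvd_prime Nat.prime_three).1 h1 with h | h
    · exact h
    · exact absurd (by rw [h]) h2
  have nAB : Nat.gcd (q ^ 6 - q ^ 3 + 1) ((q ^ 4 - q ^ 2 + 1) * (q ^ 2 - q + 1)) = 1 ∨
      Nat.card {r : Fin chevE6.nroots // ¬ (3 : ℤ) ∣ Gq H83.TwEA.B q (vec chevE6 6 r)} ≠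
        Nat.card {r : Fin chevE6.nroots // ¬ (3 : ℤ) ∣ Gq H83.TwEB.B q (vec chevE6 6 r)} := by
    rcases hthree with h | h
    · right
      have h3 := gcd_three h
      rw [count h3 H83.TwEA.card_three, count h3 H83.TwEB.card_three]
      norm_num
    · left
      exact one_of gAB fun h' => h (PDTwE6Num.three_N1 hq1 (h'.trans (Nat.gcd_dvd_left _ _)))
  have nAC : Nat.gcd (q ^ 6 - q ^ 3 + 1) ((q ^ 4 + 1) * (q ^ 2 - 1)) = 1 ∨
      Nat.card {r : Fin chevE6.nroots // ¬ (3 : ℤ) ∣ Gq H83.TwEA.B q (vec chevE6 6 r)} ≠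
        Nat.card {r : Fin chevE6.nroots // ¬ (3 : ℤ) ∣ Gq H83.TwEC.B q (vec chevE6 6 r)} := by
    rcases hthree with h | h
    · right
      have h3 := gcd_three h
      rw [count h3 H83.TwEA.card_three, count h3 H83.TwEC.card_three]
      norm_num
    · left
      exact one_of gAC fun h' => h (PDTwE6Num.three_N1 hq1 (h'.trans (Nat.gcd_dvd_left _ _)))
  have nBC : Nat.gcd ((q ^ 4 - q ^ 2 + 1) * (q ^ 2 - q + 1)) ((q ^ 4 + 1) * (q ^ 2 - 1)) = 1 ∨
      Nat.card {r : Fin chevE6.nroots // ¬ (3 : ℤ) ∣ Gq H83.TwEB.B q (vec chevE6 6 r)} ≠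
        Nat.card {r : Fin chevE6.nroots // ¬ (3 : ℤ) ∣ Gq H83.TwEC.B q (vec chevE6 6 r)} := by
    rcases hthree with h | h
    · right
      have h3 := gcd_three h
      rw [count h3 H83.TwEB.card_three, count h3 H83.TwEC.card_three]
      norm_num
    · left
      exact one_of gBC fun h' => h (PDTwE6Num.three_N2 hq1 (h'.trans (Nat.gcd_dvd_left _ _)))
  exact H160.PD.row_three hZ (good hqe (by omega) DA (by omega) (by omega)) (good hqe (by omega) DB (by omega) (by omega))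
    (good hqe (by omega) DC (by omega) (by omega))
    (noOdd DA DB gAB (by omega) (by omega) (by omega) (by omega))
    (noOdd DA DC gAC (by omega) (by omega) (by omega) (by omega))
    (noOdd DB DC gBC (by omega) (by omega) (by omega) (by omega))
    (inc hqe DA DB gAB nAB) (inc hqe DA DC gAC nAC) (inc hqe DB DC gBC nBC)

/-- **The row of `²E₆(q)` for S4246.** -/
theorem row_2e6 (K : Type u) [Group K] (h : Iso2E6 K) : H160.PD.Row K := by
  obtain ⟨F, _, _, q, hq, hF, ⟨e⟩⟩ := h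
  exact (row_tw hq hF).congr e

end Cfsg.Agent.H29.PDTwE6
end

private theorem dce_955658b79751 : _root_.True := by
  try have : _root_.True := by simp only [_root_.Cfsg.Agent.H29.PDTwE6Num.M3.eq_1]
  exact _root_.True.intro
end

-- part: H5/PD/RowF4_mg
section
prune_inst 0x41000040008200000000058211202004440001b000200000880108400200212000822140048010054a28020100010020001000d00000000000000000000101208008140411000008860081000084000000000000000000000000000000000004000000002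
set_option linter.all false
open scoped Cfsg.Agent.FastGrp

-- part: H5/PD/Norm
section
/-!
# Normalisers of semisimple elements of prime order in `D.group F` (helper5)

* `pow_comm` : if `y` normalises `⟨x⟩`, `x` of prime order `ℓ ∤ |F|`, then `y ^ |W|` centralises `x`.
-/

set_option autoImplicit false
set_option linter.unusedSectionVars false

namespace Cfsg.Agent.H5.PD

open CoxeterSystem Subgroup Cfsg Cfsg.Lie Cfsg.Lie.ChevalleyDatum
open Cfsg.Agent.ChevalleyStructure Cfsg.Agent.ChevalleyStructure.Elts Cfsg.Agent.ChevalleyStructure.CoxeterGeom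
  Cfsg.Agent.ChevalleyStructure.CoxeterGeomTypes Cfsg.Agent.ChevalleyStructure.NPerm
open Cfsg.Agent.Tits.Roots Cfsg.Agent.Tits.Core Cfsg.Agent.Nodes.Reps Cfsg.Agent.Nodes.BNOf
  Cfsg.Agent.Nodes.RGDChev Cfsg.Agent.Nodes.Bruhat
open Cfsg.Agent.KFacts.RgdField Cfsg.Agent.KFacts.RgdChevCoord Cfsg.Agent.BpExc.TorCent Cfsg.Agent.BpExc.TorChev
open Cfsg.Agent.BpExc.Tow Cfsg.Agent.BpExc.TowChev Cfsg.Agent.BpExc.FamExt Cfsg.Agent.BpExc.FamUntw
  Cfsg.Agent.BpExc.FamInst Cfsg.Agent.BpExc.LangFr Cfsg.Agent.BpExc.FamField Cfsg.Agent.BpExc.RowsUntw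
open Cfsg.Agent.GpExc.Field (glMap emb coe_emb glMap_xG emb_injective coe_glMap)
open Cfsg.Agent.H378.TorDual Cfsg.Agent.H378.TorChar Cfsg.Agent.H378.TorFin Cfsg.Agent.H378.LatRoot
  Cfsg.Agent.H378.Regular Cfsg.Agent.H378.ExcAdj Cfsg.Agent.H378.ExcNear

universe u v

theorem rp_pow {Y W : Type*} [Group Y] [Group W] {l : ℕ} {M : CoxeterMatrix (Fin l)} {cs : CoxeterSystem M W}
    {T : Subgroup Y} {nn : Fin l → Y} {hN : NSys M T nn} {w : W} {g : Y} (h : Rp cs hN w g) (n : ℕ) :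
    Rp cs hN (w ^ n) (g ^ n) := by
  induction n with
  | zero => rw [pow_zero, pow_zero]; exact rp_one
  | succ n ih => rw [pow_succ, pow_succ]; exact ih.mul h

variable {D : ChevalleyDatum} {l : ℕ} {M : CoxeterMatrix (Fin l)} (hp : IsType D l M)
  {W : Type*} [Group W] (cs : CoxeterSystem M W)

theorem conj_pow_iter {Y : Type*} [Group Y] {g t : Y} {j : ℕ} (h : g * t * g⁻¹ = t ^ j) (n : ℕ) :
    g ^ n * t * (g ^ n)⁻¹ = t ^ (j ^ n) := by
  induction n with
  | zero => simp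
  | succ n ih =>
    have h1 : g ^ (n + 1) * t * (g ^ (n + 1))⁻¹ = g ^ n * (g * t * g⁻¹) * (g ^ n)⁻¹ := by
      rw [pow_succ]; group
    rw [h1, h]
    have h2 : g ^ n * t ^ j * (g ^ n)⁻¹ = (g ^ n * t * (g ^ n)⁻¹) ^ j := conj_pow.symm
    rw [h2, ih, ← pow_mul, pow_succ]

include hp cs in
/-- **The powers of the elements of the normaliser.** -/
theorem pow_comm [Finite W] {F : Type u} [Field F] [Finite F] {x y : ↥(D.group F)} {ℓ : ℕ} (hℓ : ℓ.Prime)
    (hℓF : ¬ ℓ ∣ Nat.card F) (hx : orderOf x = ℓ) {j : ℕ} (h : y * x * y⁻¹ = x ^ j) :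
    Commute (y ^ Nat.card W) x := by
  obtain ⟨k, _, _, f, r, _, _, n, hk, hka, hn0, hn⟩ := exists_closure F
  have hℓr : ℓ ≠ r := by
    rintro rfl
    apply hℓF
    rw [hn]
    exact dvd_pow_self _ hn0.ne'
  have hxℓ : x ^ ℓ = 1 := by rw [← hx]; exact pow_orderOf_eq_one x
  have hemb := emb_injective hp.inList f
  obtain ⟨z, hz⟩ := BpExc.TorAll.exists_toral hp r hka hℓ hℓr (y := emb hp.inList f x)
    (by rw [← map_pow, hxℓ, map_one])
  set! t := z⁻¹ * emb hp.inList f x * z with ht; rewrite [← ht] at hz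
  set! c := z⁻¹ * emb hp.inList f y * z with hc
  have h1 : c * t * c⁻¹ = t ^ j := by
    have h2 : c * t * c⁻¹ = z⁻¹ * emb hp.inList f (y * x * y⁻¹) * z := by
      rw [map_mul, map_mul, map_inv, hc, ht]; group
    have h3 : t ^ j = z⁻¹ * (emb hp.inList f x) ^ j * z := by
      have h4 := conj_pow (a := z⁻¹) (b := emb hp.inList f x) (i := j)
      rwa [inv_inv] at h4
    rw [h2, h3, h, map_pow]
  have e1 : c * t = t ^ j * c := by rw [← h1]; group
  obtain ⟨m, hm, w, g, hg, hgs, -⟩ := exists_form' hp cs hk r hz (pow_mem hz j) e1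
  have h2 : g * t * g⁻¹ = t ^ j := by rw [hgs]; group
  have h3 := conj_pow_iter h2 (Nat.card W)
  have h4 := rp_pow hg (Nat.card W)
  rw [pow_card_eq_one'] at h4
  have h5 := TT_comm hp _ h4.mem_of_one t hz
  rw [h5, mul_inv_cancel_right] at h3
  have h6 := conj_pow_iter h (Nat.card W)
  have h7 : x ^ j ^ Nat.card W = x := by
    apply hemb
    have h8 : emb hp.inList f x = z * t * z⁻¹ := by rw [ht]; group
    rw [map_pow, h8]
    have h9 : (z * t * z⁻¹) ^ j ^ Nat.card W = z * t ^ j ^ Nat.card W * z⁻¹ := conj_pow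
    rw [h9, ← h3]
  rw [h7] at h6
  exact mul_inv_eq_iff_eq_mul.1 h6

end Cfsg.Agent.H5.PD
end

-- part: H5/PD/Gen
section
/-!
# S4246: the criterion `Two` for groups with two isolated tori (helper5)
-/

set_option autoImplicit false
set_option linter.unusedSectionVars false

namespace Cfsg.Agent.H5.PD

open Subgroup Cfsg.Agent.H160.PD

universe u

variable {S : Type u} [Group S]

theorem Fx_conj (s : S) : Fx (MulAut.conj s) = centralizer {s} := by
  ext x
  rw [mem_Fx, mem_centralizer_singleton_iff, MulAut.conj_apply, mul_inv_eq_iff_eq_mul]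
  exact eq_comm

variable [Finite S]

theorem orderOf_conj (hZ : center S = ⊥) (s : S) : orderOf (MulAut.conj s) = orderOf s :=
  orderOf_injective (MulAut.conj : S →* MulAut S) (_root_.Cfsg.Agent.H160.PD.conj_injective hZ) s

theorem v_zero_of_dvd {X : Type*} [Finite X] [Nonempty X] {p N : ℕ} (h : Nat.card X ∣ N) (hN : ¬ p ∣ N) : v p X = 0 :=
  Nat.factorization_eq_zero_of_not_dvd fun h1 => hN (h1.trans h)

theorem v_le_of_dvd {X : Type*} [Finite X] {t N : ℕ} (h : Nat.card X ∣ N) (hN : N ≠ 0) [Nonempty X] :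
    v t X ≤ N.factorization t :=
  (Nat.factorization_le_iff_dvd Nat.card_pos.ne' hN).2 h t

/-- cyclic Sylow subgroups -/
theorem uniq_of_sylow {r : ℕ} [hr : Fact r.Prime] (h : ∃ P : Sylow r S, IsCyclic ↥(P : Subgroup S)) : Uniq S r := by
  obtain ⟨P, hP⟩ := h
  intro x y hx hy hxy
  have hA : IsPGroup r ↥(zpowers x ⊔ zpowers y) :=
    (isPGroup_zpowers hx).to_sup_of_normal_right' (isPGroup_zpowers hy) (zpowers_le_normalizer_of_comm hxy)
  obtain ⟨Q, hQ⟩ := hA.exists_le_sylow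
  have hQc : IsCyclic ↥(Q : Subgroup S) :=
    isCyclic_of_surjective (Sylow.equiv P Q).toMonoidHom (Sylow.equiv P Q).surjective
  have hxQ : x ∈ (Q : Subgroup S) := hQ (mem_sup_left (mem_zpowers x))
  have hyQ : y ∈ (Q : Subgroup S) := hQ (mem_sup_right (mem_zpowers y))
  have h1 : orderOf (⟨x, hxQ⟩ : (Q : Subgroup S)) = orderOf (⟨y, hyQ⟩ : (Q : Subgroup S)) := by
    rw [Subgroup.orderOf_mk, Subgroup.orderOf_mk, hx, hy]
  obtain ⟨k, hk⟩ := mem_zpowers_of_cyclic h1
  exact ⟨k, congrArg Subtype.val hk⟩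

/-- the normaliser of `⟨x⟩` -/
theorem pow_mem_of {x : S} {w : ℕ} (h : ∀ (y : S) (j : ℕ), y * x * y⁻¹ = x ^ j → Commute (y ^ w) x) :
    ∀ y ∈ normalizer ((zpowers x : Subgroup S) : Set S), y ^ w ∈ centralizer ({x} : Set S) := by
  intro y hy
  have h1 : y * x * y⁻¹ ∈ zpowers x := (mem_normalizer_iff.1 hy x).1 (mem_zpowers x)
  rw [← mem_powers_iff_mem_zpowers] at h1
  obtain ⟨j, hj⟩ := h1
  rw [mem_centralizer_singleton_iff]
  exact h y j hj.symm

variable {p r₀ r₁ N₀ N₁ w m : ℕ}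

/-- one of the two tori -/
structure Tor (S : Type*) [Group S] (p r N w : ℕ) : Prop where
  prime : r.Prime
  odd : r ≠ 2
  ne : r ≠ p
  dvd : r ∣ Nat.card S
  cent : ∀ x : S, orderOf x = r → Nat.card (centralizer ({x} : Set S)) ∣ N
  notDvd : ¬ p ∣ N
  uniq : Uniq S r
  norm : ∀ x : S, orderOf x = r → ∀ y ∈ normalizer ((zpowers x : Subgroup S) : Set S),
    y ^ w ∈ centralizer ({x} : Set S)
  noNorm : ∀ x : S, orderOf x = r → H568.NoNorm p x
  inner : ∀ b : MulAut S, (orderOf b).Prime → orderOf b ≠ 2 → ∀ x : S, orderOf x = r → b x = x →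
    ∃ s, b = MulAut.conj s
  syl : ∀ s : S, (orderOf s).Prime → orderOf s ≠ 2 → orderOf s ≠ p → ∀ x : S, orderOf x = r → Commute s x →
    v p (centralizer ({s} : Set S)) + (out S).factorization p < v p S

theorem Tor.card_norm (h : Tor S p r₀ N₀ w) {x : S} (hx : orderOf x = r₀) :
    Nat.card ↥(normalizer ((zpowers x : Subgroup S) : Set S)) ∣ N₀ * w :=
  (card_normalizer_dvd h.prime hx (h.norm x hx)).trans (Nat.mul_dvd_mul_right (h.cent x hx) w)

theorem Tor.odd_le (h : Tor S p r₀ N₀ w) (hp : p.Prime) (hw : w ≠ 0) (hwm : w.factorization p ≤ m)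
    (H : Subgroup S) (hH : Odd (Nat.card H)) (hrH : r₀ ∣ Nat.card H) : v p H ≤ m := by
  have h1 := odd_bound_of_uniq (a := 0) (b := m) hp h.prime h.ne.symm h.uniq (fun X hX x hx hxo => ?_)
    (fun x hx => ?_) H hH hrH
  · rwa [zero_add] at h1
  · rw [h.noNorm x hxo X hX hx]
    show (Nat.card (⊥ : Subgroup S)).factorization p ≤ 0
    rw [Subgroup.card_bot]; simp
  · have hN : N₀ ≠ 0 := by rintro rfl; exact h.notDvd (dvd_zero p)
    refine (v_le_of_dvd (h.card_norm hx) (mul_ne_zero hN hw)).trans ?_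
    rw [Nat.factorization_mul hN hw, Finsupp.add_apply, Nat.factorization_eq_zero_of_not_dvd h.notDvd, zero_add]
    exact hwm

theorem Tor.cent_zero (h : Tor S p r₀ N₀ w) {x : S} (hx : orderOf x = r₀) :
    v p (centralizer ({x} : Set S)) = 0 := v_zero_of_dvd (h.cent x hx) h.notDvd

theorem Tor.syl_fx (hZ : center S = ⊥) (h : Tor S p r₀ N₀ w) (b : MulAut S) (hb : (orderOf b).Prime)
    (hb2 : orderOf b ≠ 2) (hbp : orderOf b ≠ p) (x : S) (hx : orderOf x = r₀) (hbx : b x = x) :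
    v p (Fx b) + max 0 0 + (out S).factorization p < v p S := by
  obtain ⟨s, rfl⟩ := h.inner b hb hb2 x hx hbx
  rw [orderOf_conj hZ] at hb hb2 hbp
  rw [Fx_conj, max_self, add_zero]
  refine h.syl s hb hb2 hbp x hx ?_
  rw [MulAut.conj_apply, mul_inv_eq_iff_eq_mul] at hbx
  exact hbx

/-- **The criterion.** -/
theorem two_gen (hZ : center S = ⊥) (hp : p.Prime) (h0 : Tor S p r₀ N₀ w) (h1 : Tor S p r₁ N₁ w)
    (hcop : N₀.Coprime N₁) (hw : w ≠ 0) (hr0 : ¬ r₁ ∣ N₀ * w) (hr1 : ¬ r₀ ∣ N₁ * w)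
    (hout : ∀ t, t.Prime → t ≠ 2 → t ≠ p → t ∣ Nat.card S → (out S).factorization t < v t S)
    (hnum : ∀ t, t.Prime → t ≠ 2 → t ≠ p → t ∣ Nat.card S → (∀ y : S, orderOf y = t →
      v p (centralizer ({y} : Set S)) = 0) ∨
      N₀.factorization t + N₁.factorization t + (out S).factorization t < v t S)
    (hwm : w.factorization p ≤ m) (hm : 2 * m + (out S).factorization p < v p S) :
    Two S p r₀ r₁ 0 0 0 m m := by
  have hN0 : N₀ ≠ 0 := by rintro rfl; exact h0.notDvd (dvd_zero p)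
  have hN1 : N₁ ≠ 0 := by rintro rfl; exact h1.notDvd (dvd_zero p)
  have hr01 : r₀ ≠ r₁ := by
    rintro rfl
    have h2 : r₀ ∣ N₁ := by
      have := Fact.mk h1.prime
      obtain ⟨x, hx⟩ := exists_prime_orderOf_dvd_card' r₀ h1.dvd
      refine dvd_trans ?_ (h1.cent x hx)
      rw [← hx]
      have hmem : x ∈ centralizer ({x} : Set S) := mem_centralizer_singleton_iff.2 rfl
      exact (Subgroup.orderOf_mk x hmem) ▸ _root_.orderOf_dvd_natCard (⟨x, hmem⟩ : centralizer ({x} : Set S))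
    exact hr1 (h2.mul_right w)
  refine
    { prime := hp
      good₀ := ⟨h0.prime, h0.odd, hout _ h0.prime h0.odd h0.ne h0.dvd⟩
      good₁ := ⟨h1.prime, h1.odd, hout _ h1.prime h1.odd h1.ne h1.dvd⟩
      cent₀ := fun x hx => (h0.cent_zero hx).le
      cent₁ := fun x hx => (h1.cent_zero hx).le
      noOdd := ?_
      inc := ?_
      syl₀ := h0.syl_fx hZ
      syl₁ := h1.syl_fx hZ
      cc := by omega
      num := ?_
      odd₀ := fun _ => h0.odd_le hp hw hwm
      odd₁ := fun _ => h1.odd_le hp hw hwm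
      n₀ := fun _ => by omega
      n₁ := fun _ => by omega
      n₀₁ := fun _ => by omega }
  · exact noOdd_of_uniq h0.prime h1.prime hr01 h0.uniq h1.uniq
      (fun x hx hd => hr0 (hd.trans (h0.card_norm hx))) (fun x hx hd => hr1 (hd.trans (h1.card_norm hx)))
  · intro b hb hb2 x hx hbx y hy hby
    obtain ⟨s, rfl⟩ := h0.inner b hb hb2 x hx hbx
    rw [orderOf_conj hZ] at hb
    rw [MulAut.conj_apply, mul_inv_eq_iff_eq_mul] at hbx hby
    have e0 : orderOf s ∣ N₀ := by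
      have hmem : s ∈ centralizer ({x} : Set S) := mem_centralizer_singleton_iff.2 hbx
      exact ((Subgroup.orderOf_mk s hmem) ▸ _root_.orderOf_dvd_natCard (⟨s, hmem⟩ : centralizer ({x} : Set S))).trans
        (h0.cent x hx)
    have e1 : orderOf s ∣ N₁ := by
      have hmem : s ∈ centralizer ({y} : Set S) := mem_centralizer_singleton_iff.2 hby
      exact ((Subgroup.orderOf_mk s hmem) ▸ _root_.orderOf_dvd_natCard (⟨s, hmem⟩ : centralizer ({y} : Set S))).trans
        (h1.cent y hy)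
    exact hb.one_lt.ne' (Nat.eq_one_of_dvd_coprimes hcop e0 e1)
  · intro t ht ht2 htp htS _ _
    rcases hnum t ht ht2 htp htS with h | h
    · exact Or.inl ⟨hout t ht ht2 htp htS, fun y hy => (h y hy).le⟩
    · right
      intro x y hx hy
      have e0 := v_le_of_dvd (t := t) (h0.cent x hx) hN0
      have e1 := v_le_of_dvd (t := t) (h1.cent y hy) hN1
      omega

end Cfsg.Agent.H5.PD
end

-- part: H5/PD/Tor
section
/-!
# S4246: the tori of the exceptional Chevalley groups (helper5)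
-/

set_option autoImplicit false
set_option linter.unusedSectionVars false

namespace Cfsg.Agent.H5.PD

open CoxeterSystem Subgroup Cfsg Cfsg.Lie Cfsg.Lie.ChevalleyDatum
open Cfsg.Agent.ChevalleyStructure Cfsg.Agent.ChevalleyStructure.Elts Cfsg.Agent.ChevalleyStructure.CoxeterGeom
  Cfsg.Agent.ChevalleyStructure.CoxeterGeomTypes Cfsg.Agent.Nodes.RGDChev
open Cfsg.Agent.H378.ExcAdj Cfsg.Agent.H568.FldExc Cfsg.Agent.H70.OutCount
open Cfsg.Agent.H160.PD

universe u

/-! ### numbers -/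

/-- the value of the cyclotomic polynomial -/
noncomputable def cyc (m q : ℕ) : ℕ := ((Polynomial.cyclotomic m ℤ).eval ((q : ℕ) : ℤ)).natAbs

theorem od_eq_of_dvd {q t m : ℕ} (ht : t.Prime) (htm : ¬ t ∣ m) (h : t ∣ cyc m q) : od q t = m := by
  have := Fact.mk ht
  have : NeZero ((m : ℕ) : ZMod t) := ⟨fun h0 => htm ((ZMod.natCast_eq_zero_iff m t).1 h0)⟩
  have h1 : (t : ℤ) ∣ (Polynomial.cyclotomic m ℤ).eval ((q : ℕ) : ℤ) := Int.natCast_dvd.2 h
  rw [← ZMod.intCast_zmod_eq_zero_iff_dvd] at h1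
  have h3 : (((Polynomial.cyclotomic m ℤ).eval ((q : ℕ) : ℤ) : ℤ) : ZMod t) =
      (Polynomial.cyclotomic m (ZMod t)).eval ((q : ℕ) : ZMod t) := by
    rw [← Polynomial.map_cyclotomic_int m (ZMod t)]
    have h4 := Polynomial.eval_intCast_map (Int.castRingHom (ZMod t)) (Polynomial.cyclotomic m ℤ) ((q : ℕ) : ℤ)
    rw [Int.cast_natCast] at h4
    rw [h4]
    rfl
  rw [h3] at h1
  exact (Polynomial.isRoot_cyclotomic_iff.1 h1).eq_orderOf.symm

theorem cyc_dvd (m : ℕ) {q : ℕ} (hq : 1 ≤ q) : cyc m q ∣ q ^ m - 1 := by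
  have h2 := Polynomial.eval_dvd (x := ((q : ℕ) : ℤ)) (Polynomial.cyclotomic.dvd_X_pow_sub_one m ℤ)
  have h3 : ((q ^ m - 1 : ℕ) : ℤ) = (Polynomial.X ^ m - 1 : Polynomial ℤ).eval ((q : ℕ) : ℤ) := by
    rw [Nat.cast_sub (Nat.one_le_pow _ _ hq)]
    simp
  rw [← h3] at h2
  exact Int.natCast_dvd_natCast.1 (by rw [cyc, Int.natCast_natAbs, abs_dvd]; exact h2)

theorem not_dvd_sub_one {p q i : ℕ} (hp : p.Prime) (hq : 1 ≤ q) (hpq : p ∣ q) (hi : 0 < i) : ¬ p ∣ q ^ i - 1 := by
  intro h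
  have h1 : p ∣ q ^ i := hpq.trans (dvd_pow_self q hi.ne')
  have h2 := (Nat.dvd_sub_iff_right (Nat.one_le_pow _ _ hq) h1).1 h
  exact hp.one_lt.ne' (Nat.dvd_one.1 h2)

theorem not_dvd_cyc {p q m : ℕ} (hp : p.Prime) (hq : 1 ≤ q) (hpq : p ∣ q) (hm : 0 < m) : ¬ p ∣ cyc m q := fun h =>
  not_dvd_sub_one hp hq hpq hm (h.trans (cyc_dvd m hq))

theorem lt_of_od {q r m : ℕ} (hr : r.Prime) (h : od q r = m) (hm : 0 < m) : m < r := by
  have h1 := Nat.le_of_dvd (by have := hr.two_le; omega) (H378.ExcNear.mod_of_od hr h hm)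
  have := hr.two_le
  omega

/-- `t ^ (v_t(f) + 1)` divides `q ^ i - 1` if `t` does, `q = p ^ f` -/
theorem lte {p f t i : ℕ} (hp : 1 ≤ p) (ht : t.Prime) (h : t ∣ (p ^ f) ^ i - 1) :
    t ^ (f.factorization t + 1) ∣ (p ^ f) ^ i - 1 := by
  have := Fact.mk ht
  set k := f.factorization t with hk
  obtain ⟨f', hf'⟩ : ∃ f', f = t ^ k * f' := Nat.ordProj_dvd f t
  have e1 : (p ^ f) ^ i = (p ^ (f' * i)) ^ (t ^ k) := by
    rw [← pow_mul, ← pow_mul]
    congr 1
    nth_rw 1 [hf']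
    ring
  have h1 : ∀ n : ℕ, ((p ^ n - 1 : ℕ) : ℤ) = (p : ℤ) ^ n - 1 := fun n => by
    rw [Nat.cast_sub (Nat.one_le_pow _ _ hp)]; push_cast; ring
  have e2 : (((p ^ f) ^ i - 1 : ℕ) : ℤ) = ((p : ℤ) ^ (f' * i)) ^ (t ^ k) - 1 ^ (t ^ k) := by
    rw [e1, ← pow_mul, h1, ← pow_mul, one_pow]
  have h2 : (t : ℤ) ∣ ((p : ℤ) ^ (f' * i)) ^ (t ^ k) - 1 ^ (t ^ k) := e2 ▸ Int.natCast_dvd_natCast.2 h
  have h3 : (t : ℤ) ∣ (p : ℤ) ^ (f' * i) - 1 := by
    rw [← ZMod.intCast_zmod_eq_zero_iff_dvd] at h2 ⊢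
    push_cast at h2 ⊢
    rw [one_pow] at h2
    rwa [ZMod.pow_card_pow] at h2
  have h4 := dvd_sub_pow_of_dvd_sub h3 k
  rw [← e2] at h4
  exact_mod_cast h4

/-! ### the torus -/

variable {D : ChevalleyDatum} {l : ℕ} {M : CoxeterMatrix (Fin l)}

theorem tor_chev (hp : IsType D l M) {B B' : Fin l → Fin l → ℤ} (hB : Cfsg.Agent.BpExc.FamExt.InvC D l 1 B)
    (hB' : Cfsg.Agent.H129.TorusChar.InvC D l 1 B') {F : Type u} [Field F] [Fintype F] {p f : ℕ} [Fact p.Prime]
    [CharP F p] (hq : Fintype.card F = p ^ f) (hf : 0 < f) (hR : ∀ π ∈ realised hp.inList F, π * π = 1)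
    {degs : List ℕ} (hO : OrdF.{u} D degs) {r m : ℕ} (hr : r.Prime) (hod : od (Nat.card F) r = m)
    (hl : m.totient = l) (hlm : l < m) (hm3 : 3 ≤ m) (hrd : r ∣ Nat.card ↥(D.group F))
    (hcyc : ∃ P : Sylow r ↥(D.group F), (IsCyclic ↥(P : Subgroup ↥(D.group F)) :))
    (hnn : ∀ x : ↥(D.group F), orderOf x = r → (∀ y : ↥(D.group F), orderOf y = p → x * y ≠ y * x) →
      H568.NoNorm p x)
    (hprim : (∃ h, (∀ k, r ∣ p ^ k - 1 → f * h ∣ k) ∧ ∀ d ∈ degs, 0 < d ∧ d < 3 * h) ∨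
      (∀ t, t.Prime → t ≠ 2 → ¬ t ∣ f))
    (hpS : (out ↥(D.group F)).factorization p < v p ↥(D.group F))
    (hspec : ∀ s : ↥(D.group F), (orderOf s).Prime → orderOf s ≠ 2 → orderOf s ≠ p → orderOf s ∣ m →
      orderOf s ∣ cyc m (Nat.card F) → ∀ x : ↥(D.group F), orderOf x = r → Commute s x →
      v p (centralizer ({s} : Set ↥(D.group F))) + (out ↥(D.group F)).factorization p < v p ↥(D.group F)) :
    Tor ↥(D.group F) p r (cyc m (Nat.card F)) (Nat.card M.Group) := by
  have hpp : p.Prime := Fact.out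
  have hm : 0 < m := by omega
  have hrF := Fact.mk hr
  have hfin : Finite ↥(D.group F) := by
    have : Finite (Matrix.GeneralLinearGroup D.Idx F) := inferInstance
    infer_instance
  have hW : Finite M.Group := finite_W hp M.toCoxeterSystem
  have hmr := lt_of_od hr hod hm
  have hq1 : 1 ≤ Nat.card F := Nat.card_pos
  have hpq : p ∣ Nat.card F := by rw [Nat.card_eq_fintype_card, hq]; exact dvd_pow_self p hf.ne'
  have hrF' : ¬ r ∣ Nat.card F := H378.RegFin.not_dvd_q hr hod hm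
  have hrp : r ≠ p := by rintro rfl; exact hrF' hpq
  have hN : ¬ p ∣ cyc m (Nat.card F) := not_dvd_cyc hpp hq1 hpq hm
  have hcent : ∀ {t : ℕ}, t.Prime → od (Nat.card F) t = m → ∀ x : ↥(D.group F), orderOf x = t →
      Nat.card (centralizer ({x} : Set ↥(D.group F))) ∣ cyc m (Nat.card F) := fun ht h x hx =>
    (H378.RegFin.cent_od hp hB one_ne_zero ht hx h hl hlm).2
  refine ⟨hr, by omega, hrp, hrd, hcent hr hod, hN, uniq_of_sylow hcyc, ?_, ?_, ?_, ?_⟩
  · intro x hx
    exact pow_mem_of fun y j hj => pow_comm hp M.toCoxeterSystem hr hrF' hx hj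
  · intro x hx
    refine hnn x hx fun y hy hxy => hN ?_
    have hmem : y ∈ centralizer ({x} : Set ↥(D.group F)) := mem_centralizer_singleton_iff.2 hxy.symm
    rw [← hy]
    exact ((Subgroup.orderOf_mk y hmem) ▸ _root_.orderOf_dvd_natCard (⟨y, hmem⟩ :
      centralizer ({x} : Set ↥(D.group F)))).trans (hcent hr hod x hx)
  · intro b hb hb2 x hx hbx
    rcases H719.dich hp hq hf hB' one_ne_zero hR hO hb hb2 (Or.inl (Nat.coprime_one_right _))
      (pow_orderOf_eq_one b) with h1 | ⟨h1, h2⟩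
    · exact h1
    · exfalso
      rcases hprim with ⟨h, h3, h4⟩ | h3
      · exact h2 x ⟨hx.symm ▸ hr, hx.symm ▸ hrp, Nat.coprime_one_right _, h, by rw [hx]; exact h3, h4⟩ hbx
      · exact h3 _ hb hb2 h1
  · intro s hs hs2 hsp x hx hsx
    have hmem : s ∈ centralizer ({x} : Set ↥(D.group F)) := mem_centralizer_singleton_iff.2 hsx
    have h1 : orderOf s ∣ cyc m (Nat.card F) := ((Subgroup.orderOf_mk s hmem) ▸ _root_.orderOf_dvd_natCard (⟨s, hmem⟩ :
      centralizer ({x} : Set ↥(D.group F)))).trans (hcent hr hod x hx)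
    by_cases h2 : orderOf s ∣ m
    · exact hspec s hs hs2 hsp h2 h1 x hx hsx
    · rw [v_zero_of_dvd (hcent hs (od_eq_of_dvd hs h2 h1) s rfl) hN, zero_add]
      exact hpS

end Cfsg.Agent.H5.PD
end

-- part: H5/PD/St
section
/-!
# S4246: centralisers of semisimple elements commuting with an isolated element (helper5)

* `cent_lt` : a nontrivial `p'`-element does not centralise a Sylow `p`-subgroup;
* `fixed_congr` : `#Fix(s) ≡ #Fix(s x)` modulo `ℓ` for commuting `s`, `x`, `x` of prime order `ℓ`;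
* `st_sq` : `ℓ` divides `p ^ (2 a) - 1`, `p ^ a` the `p`-part of `C(s)`, if `p ∤ |C(x)|` (Steinberg character).
-/

set_option autoImplicit false
set_option linter.unusedSectionVars false

namespace Cfsg.Agent.H5.PD

open Subgroup Cfsg Cfsg.Agent.H160.PD

universe u

/-! ### Sylow subgroups are not centralised -/

theorem cent_lt {G : Type*} [Group G] [Finite G] [IsSimpleGroup G] {p : ℕ} [Fact p.Prime]
    (hG : KFacts.RgdFilt.HasFilt p G) (hc : ∃ a b : G, a * b ≠ b * a) {s : G} (hs : (orderOf s).Prime)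
    (hsp : orderOf s ≠ p) (hpG : p ∣ Nat.card G) : v p (centralizer ({s} : Set G)) < v p G := by
  have hp : p.Prime := Fact.out
  by_contra hcon
  obtain ⟨P⟩ : Nonempty (Sylow p ↥(centralizer ({s} : Set G))) := inferInstance
  set! K : Subgroup G := (P : Subgroup ↥(centralizer ({s} : Set G))).map (centralizer ({s} : Set G)).subtype with hK
  have hKp : IsPGroup p K := P.isPGroup'.map _
  have hKc : Nat.card K = p ^ v p (centralizer ({s} : Set G)) := by
    rw [hK, card_map_subtype, P.card_eq_multiplicity]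
  have hpos : 0 < v p G := (v_pos hp).2 hpG
  have hK1 : K ≠ ⊥ := by
    intro h0
    rw [h0, Subgroup.card_bot] at hKc
    exact hp.one_lt.ne' ((Nat.pow_eq_one.1 hKc.symm).resolve_right (by omega))
  obtain ⟨V, -, hV, hKV, -, -, -, hVc⟩ := hG.exists_par hc hKp hK1
  obtain ⟨k, hk⟩ := IsPGroup.iff_card.1 hV
  have h1 : k ≤ v p G := (hp.pow_dvd_iff_le_factorization Nat.card_pos.ne').1 (hk ▸ card_subgroup_dvd_card V)
  have h2 : K = V := by
    apply Subgroup.eq_of_le_of_card_ge hKV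
    rw [hk, hKc]
    exact Nat.pow_le_pow_right hp.pos (by omega)
  have h3 : s ∈ V := by
    apply hVc
    rw [mem_centralizer_iff]
    intro y hy
    rw [← h2] at hy
    exact mem_centralizer_singleton_iff.1 (map_subtype_le _ hy)
  obtain ⟨j, hj⟩ := hV ⟨s, h3⟩
  have h4 : s ^ p ^ j = 1 := congrArg Subtype.val hj
  exact hsp ((Nat.prime_dvd_prime_iff_eq hs hp).1 (hs.dvd_of_dvd_pow (orderOf_dvd_of_pow_eq_one h4)))

/-! ### the Steinberg character -/

theorem exists_pow_of_coprime {G : Type*} [Group G] {s x : G} (hc : Commute s x)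
    (hs : (orderOf s).Coprime (orderOf x)) : (∃ k, (s * x) ^ k = s) ∧ ∃ k, (s * x) ^ k = x := by
  constructor
  · obtain ⟨k, hk1, hk2⟩ := Nat.chineseRemainder hs 1 0
    refine ⟨k, ?_⟩
    rw [hc.mul_pow, pow_eq_pow_iff_modEq.2 hk1, pow_eq_pow_iff_modEq.2 hk2, pow_one, pow_zero, mul_one]
  · obtain ⟨k, hk1, hk2⟩ := Nat.chineseRemainder hs 0 1
    refine ⟨k, ?_⟩
    rw [hc.mul_pow, pow_eq_pow_iff_modEq.2 hk1, pow_eq_pow_iff_modEq.2 hk2, pow_one, pow_zero, one_mul]

theorem pow_smul_eq {G α : Type*} [Group G] [MulAction G α] {g : G} {y : α} (h : g • y = y) (k : ℕ) :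
    g ^ k • y = y := by
  induction k with
  | zero => rw [pow_zero, one_smul]
  | succ k ih => rw [pow_succ, mul_smul, h, ih]

theorem fixed_congr {G α : Type*} [Group G] [MulAction G α] [Finite α] {s x : G} (hc : Commute s x) {ℓ : ℕ}
    (hℓ : ℓ.Prime) (hx : orderOf x = ℓ) (hs : (orderOf s).Coprime ℓ) :
    Nat.card (MulAction.fixedBy α s) ≡ Nat.card (MulAction.fixedBy α (s * x)) [MOD ℓ] := by
  classical
  have := Fact.mk hℓ
  obtain ⟨⟨k1, hk1⟩, ⟨k2, hk2⟩⟩ := exists_pow_of_coprime hc (hx.symm ▸ hs)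
  have hf : ∀ y : MulAction.fixedBy α s, x • (y : α) ∈ MulAction.fixedBy α s := fun y => by
    rw [MulAction.mem_fixedBy, ← mul_smul, hc.eq, mul_smul, (MulAction.mem_fixedBy.1 y.2)]
  let f : Function.End (MulAction.fixedBy α s) := fun y => ⟨x • (y : α), hf y⟩
  have hfn : ∀ (n : ℕ) (y : MulAction.fixedBy α s), (((f ^ n) y : MulAction.fixedBy α s) : α) = x ^ n • (y : α) := by
    intro n
    induction n with
    | zero => intro y; rw [pow_zero, pow_zero, one_smul]; rfl
    | succ n ih =>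
      intro y
      rw [pow_succ, pow_succ, mul_smul]
      exact ih (f y)
  have hfℓ : f ^ ℓ ^ 1 = 1 := by
    funext y
    apply Subtype.ext
    rw [hfn, pow_one, ← hx, pow_orderOf_eq_one, one_smul]
    rfl
  have : Fintype (MulAction.fixedBy α s) := Fintype.ofFinite _
  have h1 := Equiv.Perm.card_fixedPoints_modEq hfℓ
  rw [← Nat.card_eq_fintype_card, ← Nat.card_eq_fintype_card] at h1
  refine h1.trans ?_
  rw [Nat.card_congr (β := MulAction.fixedBy α (s * x))]
  exact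
    { toFun := fun y => ⟨y.1.1, by
        have h2 : x • (y.1.1 : α) = y.1.1 := congrArg Subtype.val y.2
        rw [MulAction.mem_fixedBy, mul_smul, h2]
        exact MulAction.mem_fixedBy.1 y.1.2⟩
      invFun := fun z => ⟨⟨z.1, by
        have h2 := pow_smul_eq (MulAction.mem_fixedBy.1 z.2) k1
        rw [hk1] at h2
        exact MulAction.mem_fixedBy.2 h2⟩, by
        have h2 := pow_smul_eq (MulAction.mem_fixedBy.1 z.2) k2
        rw [hk2] at h2
        exact Subtype.ext h2⟩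
      left_inv := fun y => rfl
      right_inv := fun z => rfl }

seal _root_.Finset.sum _root_.dotProduct in
/-- **The Steinberg character modulo `ℓ`.** -/
theorem st_sq {D : Cfsg.Lie.ChevalleyDatum} (hD : D ∈ [Cfsg.Lie.chevG2, Cfsg.Lie.chevB2, Cfsg.Lie.chevD4,
      Cfsg.Lie.chevF4, Cfsg.Lie.chevE6, Cfsg.Lie.chevE7, Cfsg.Lie.chevE8]) {F : Type u} [Field F] [Fintype F]
    {p : ℕ} [Fact p.Prime] [CharP F p] {s x : ↥(D.group F)} (hc : Commute s x) {ℓ : ℕ} (hℓ : ℓ.Prime)
    (hx : orderOf x = ℓ) (hℓp : ℓ ≠ p) (hs : (orderOf s).Prime) (hsℓ : orderOf s ≠ ℓ) (hsp : orderOf s ≠ p)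
    (hcx : ¬ p ∣ Nat.card (centralizer ({x} : Set ↥(D.group F)))) :
    ℓ ∣ p ^ (2 * v p (centralizer ({s} : Set ↥(D.group F)))) - 1 := by
  have hp : p.Prime := Fact.out
  have hfin : Finite ↥(D.group F) := by
    have : Finite (Matrix.GeneralLinearGroup D.Idx F) := inferInstance
    infer_instance
  have hcop : (orderOf s).Coprime ℓ := (Nat.coprime_primes hs hℓ).2 hsℓ
  obtain ⟨-, ⟨k2, hk2⟩⟩ := exists_pow_of_coprime hc (hx.symm ▸ hcop)
  -- the orders
  have ho : orderOf (s * x) = orderOf s * ℓ := by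
    rw [hc.orderOf_mul_eq_mul_orderOf_of_coprime (hx.symm ▸ hcop), hx]
  have hps : ¬ p ∣ orderOf s := fun h => hsp ((Nat.prime_dvd_prime_iff_eq hp hs).1 h).symm
  have hpsx : ¬ p ∣ orderOf (s * x) := by
    rw [ho, hp.dvd_mul]
    rintro (h | h)
    · exact hps h
    · exact hℓp ((Nat.prime_dvd_prime_iff_eq hp hℓ).1 h).symm
  have hv0 : v p (centralizer ({s * x} : Set ↥(D.group F))) = 0 := by
    apply v_eq_zero
    intro h
    apply hcx
    refine h.trans (card_dvd_of_le fun y hy => ?_)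
    rw [mem_centralizer_singleton_iff] at hy ⊢
    rw [← hk2]
    exact ((show Commute y (s * x) from hy).pow_right k2).eq
  -- the integers
  let A : ↥(D.group F) → ℤ := fun g => ∑ J ∈ (Finset.range D.rank).powerset,
    (-1 : ℤ) ^ J.card * (Nat.card ((MulAction.fixedBy (↥(D.group F) ⧸ D.parabolicIn F J) g :)) : ℤ)
  have hA : ∀ g, (A g : ℂ) = D.steinbergCharacter F g := by
    intro g
    show ((∑ J ∈ (Finset.range D.rank).powerset,
      (-1 : ℤ) ^ J.card * (Nat.card ((MulAction.fixedBy (↥(D.group F) ⧸ D.parabolicIn F J) g :)) : ℤ) : ℤ) : ℂ) =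
      ∑ J ∈ (Finset.range D.rank).powerset, (-1 : ℂ) ^ J.card * fixedPointCharacter (D.parabolicIn F J) g
    push_cast
    rfl
  have hdvd : (ℓ : ℤ) ∣ A s - A (s * x) := by
    show (ℓ : ℤ) ∣ (∑ J ∈ (Finset.range D.rank).powerset,
      (-1 : ℤ) ^ J.card * (Nat.card ((MulAction.fixedBy (↥(D.group F) ⧸ D.parabolicIn F J) s :)) : ℤ)) -
      ∑ J ∈ (Finset.range D.rank).powerset,
      (-1 : ℤ) ^ J.card * (Nat.card (MulAction.fixedBy (↥(D.group F) ⧸ D.parabolicIn F J) (s * x)) : ℤ)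
    rw [← Finset.sum_sub_distrib]
    refine Finset.dvd_sum fun J _ => ?_
    rw [← mul_sub]
    refine Dvd.dvd.mul_left ?_ _
    exact (Nat.modEq_iff_dvd.1 (fixed_congr (α := ↥(D.group F) ⧸ D.parabolicIn F J) hc hℓ hx hcop).symm)
  have hsq : ∀ (g : ↥(D.group F)), ¬ p ∣ orderOf g →
      A g ^ 2 = (p : ℤ) ^ (2 * v p (centralizer ({g} : Set ↥(D.group F)))) := by
    intro g hg
    have h1 := Cfsg.Agent.S2312.result p D hD g hg
    rw [← hA] at h1
    have h2 : A g = ((p ^ v p (centralizer ({g} : Set ↥(D.group F))) : ℕ) : ℤ) ∨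
        A g = -((p ^ v p (centralizer ({g} : Set ↥(D.group F))) : ℕ) : ℤ) := by
      rcases h1 with h1 | h1
      · left
        exact_mod_cast h1
      · right
        exact_mod_cast h1
    rcases h2 with h2 | h2
    · rw [h2]; push_cast; ring
    · rw [h2]; push_cast; ring
  have h1 := hsq s hps
  have h2 := hsq (s * x) hpsx
  rw [hv0, mul_zero, pow_zero] at h2
  have h3 : (ℓ : ℤ) ∣ (p : ℤ) ^ (2 * v p (centralizer ({s} : Set ↥(D.group F)))) - 1 := by
    rw [← h1, ← h2]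
    have h4 : A s ^ 2 - A (s * x) ^ 2 = (A s - A (s * x)) * (A s + A (s * x)) := by ring
    rw [h4]
    exact Dvd.dvd.mul_right hdvd _
  have h5 : ((p ^ (2 * v p (centralizer ({s} : Set ↥(D.group F)))) - 1 : ℕ) : ℤ) =
      (p : ℤ) ^ (2 * v p (centralizer ({s} : Set ↥(D.group F)))) - 1 := by
    rw [Nat.cast_sub (Nat.one_le_pow _ _ hp.pos)]
    push_cast
    ring
  rw [← h5] at h3
  exact Int.natCast_dvd_natCast.1 h3

end Cfsg.Agent.H5.PD
end

-- part: H5/PD/RowG2
section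
/-!
# S4246: the row of `G₂(q)` (helper5)

`Two` with the primes of order 3 and 6.
-/

set_option autoImplicit false
set_option linter.unusedSectionVars false

namespace Cfsg.Agent.H5.PD

open CoxeterSystem Subgroup Cfsg Cfsg.Lie Cfsg.Lie.ChevalleyDatum
open Cfsg.Agent.ChevalleyStructure Cfsg.Agent.ChevalleyStructure.Elts Cfsg.Agent.ChevalleyStructure.CoxeterGeom
  Cfsg.Agent.ChevalleyStructure.CoxeterGeomTypes Cfsg.Agent.Nodes.RGDChev
open Cfsg.Agent.H378.ExcAdj Cfsg.Agent.H568.FldExc Cfsg.Agent.H70.OutCount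
open Cfsg.Agent.H160.PD

universe u

/-! ### numbers -/

theorem cyc3 (q : ℕ) : (cyc 3 q : ℤ) = 1 + (q : ℤ) + (q : ℤ) ^ 2 := by
  rw [cyc, Int.natCast_natAbs, Polynomial.cyclotomic_three]
  simp only [Polynomial.eval_add, Polynomial.eval_pow, Polynomial.eval_X, Polynomial.eval_one]
  rw [abs_of_nonneg (by positivity)]
  ring

theorem cyc6 (q : ℕ) : (cyc 6 q : ℤ) = 1 - (q : ℤ) + (q : ℤ) ^ 2 := by
  rw [cyc, Int.natCast_natAbs, Polynomial.cyclotomic_six]
  simp only [Polynomial.eval_add, Polynomial.eval_sub, Polynomial.eval_pow, Polynomial.eval_X, Polynomial.eval_one]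
  rw [abs_of_nonneg (by linarith only [sq_nonneg ((q : ℤ) - 1)])]
  ring

theorem fac_two_mul {t f : ℕ} (ht2 : t ≠ 2) (hf : f ≠ 0) :
    (2 * f).factorization t = f.factorization t := by
  rw [Nat.factorization_mul two_ne_zero hf, Finsupp.add_apply, Nat.Prime.factorization Nat.prime_two,
    Finsupp.single_apply, if_neg ht2.symm, zero_add]

theorem fac_mul_pow {p f n A : ℕ} (hp : p.Prime) (hA : ¬ p ∣ A) : ((p ^ f) ^ n * A).factorization p = f * n := by
  have hA0 : A ≠ 0 := by rintro rfl; exact hA (dvd_zero p)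
  rw [← pow_mul, Nat.factorization_mul (pow_ne_zero _ hp.ne_zero) hA0, Finsupp.add_apply,
    hp.factorization_pow, Finsupp.single_eq_same, Nat.factorization_eq_zero_of_not_dvd hA, add_zero]

/-- a primitive prime divisor -/
theorem exists_prim' {r e h : ℕ} (hr : r.Prime) (he : 0 < e) (hh : 3 ≤ h) (h6 : ¬ (r = 2 ∧ e * h = 6)) :
    ∃ l : ℕ, l.Prime ∧ (∀ m, l ∣ r ^ m - 1 ↔ e * h ∣ m) ∧ orderOf ((r ^ e : ℕ) : ZMod l) = h := by
  have hn : 3 ≤ e * h := hh.trans (Nat.le_mul_of_pos_left h he)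
  obtain ⟨l, hl, h1, h2, h3⟩ := Cfsg.Agent.Lib.Zsigmondy.exists_primitive (a := r) (n := e * h) hr.two_le (by omega)
    (by omega) h6
  refine ⟨l, hl, h1, ?_⟩
  have hr1 : 1 ≤ r ^ e := Nat.one_le_pow _ _ hr.pos
  have key : ∀ m, orderOf ((r ^ e : ℕ) : ZMod l) ∣ m ↔ h ∣ m := by
    intro m
    rw [← Cfsg.Agent.Lib.Zsigmondy.dvd_pow_sub_one_iff hr1, ← pow_mul, h1]
    exact Nat.mul_dvd_mul_iff_left he
  exact Nat.dvd_antisymm ((key h).2 dvd_rfl) ((key _).1 dvd_rfl)

theorem prime_dvd_six {t : ℕ} (ht : t.Prime) (ht2 : t ≠ 2) (h : t ∣ 6) : t = 3 := by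
  rcases ht.dvd_mul.1 (show t ∣ 2 * 3 from h) with h1 | h1
  · exact absurd ((Nat.prime_dvd_prime_iff_eq ht Nat.prime_two).1 h1) ht2
  · exact (Nat.prime_dvd_prime_iff_eq ht Nat.prime_three).1 h1

section G2

variable {F : Type u} [Field F] [Fintype F] {p f : ℕ} [hpF : Fact p.Prime] [CharP F p]

theorem card_G2 (hq : Fintype.card F = p ^ f) :
    Nat.card ↥(chevG2.group F) = (p ^ f) ^ 6 * (((p ^ f) ^ 2 - 1) * ((p ^ f) ^ 6 - 1)) := by
  rw [Cfsg.Agent.S1059.result hq, mul_assoc]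

theorem v_G2 (hq : Fintype.card F = p ^ f) (hf : 0 < f) : v p ↥(chevG2.group F) = f * 6 := by
  have hp : p.Prime := Fact.out
  show (Nat.card ↥(chevG2.group F)).factorization p = f * 6
  rw [card_G2 hq, fac_mul_pow hp]
  have hq1 : 1 ≤ p ^ f := Nat.one_le_pow _ _ hp.pos
  have hpq : p ∣ p ^ f := dvd_pow_self p hf.ne'
  rw [hp.dvd_mul]
  rintro (h | h)
  · exact not_dvd_sub_one hp hq1 hpq (by norm_num) h
  · exact not_dvd_sub_one hp hq1 hpq (by norm_num) h

theorem out_G2 (hq : Fintype.card F = p ^ f) (hq3 : 3 ≤ p ^ f) :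
    out ↥(chevG2.group F) = if p = 3 then 2 * f else f :=
  Cfsg.Agent.S2121.result p f hq hq3

theorem fac_out_G2 (hq : Fintype.card F = p ^ f) (hq3 : 3 ≤ p ^ f) (hf : 0 < f) {t : ℕ}
    (h : t ≠ 2 ∨ p ≠ 3) : (out ↥(chevG2.group F)).factorization t = f.factorization t := by
  rw [out_G2 hq hq3]
  split_ifs with h1
  · exact fac_two_mul (by rcases h with h | h; exact h; exact absurd h1 h) hf.ne'
  · rfl

theorem out_lt_G2 (hq : Fintype.card F = p ^ f) (hq3 : 3 ≤ p ^ f) (hf : 0 < f) :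
    (out ↥(chevG2.group F)).factorization p < f := by
  rw [fac_out_G2 hq hq3 hf (by by_cases h : p = 3; left; omega; right; exact h)]
  exact Nat.factorization_lt _ hf.ne'

theorem hout_G2 (hq : Fintype.card F = p ^ f) (hq3 : 3 ≤ p ^ f) (hf : 0 < f) {t : ℕ} (ht : t.Prime) (ht2 : t ≠ 2)
    (htp : t ≠ p) (htS : t ∣ Nat.card ↥(chevG2.group F)) :
    (out ↥(chevG2.group F)).factorization t < v t ↥(chevG2.group F) := by
  have hp : p.Prime := Fact.out
  have hfin : Finite ↥(chevG2.group F) := by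
    have : Finite (Matrix.GeneralLinearGroup chevG2.Idx F) := inferInstance
    infer_instance
  rw [fac_out_G2 hq hq3 hf (Or.inl ht2)]
  have h0 : ∀ i, t ∣ (p ^ f) ^ i - 1 → (p ^ f) ^ i - 1 ∣ Nat.card ↥(chevG2.group F) →
      f.factorization t < v t ↥(chevG2.group F) := fun i h1 h2 =>
    Nat.lt_of_succ_le ((ht.pow_dvd_iff_le_factorization Nat.card_pos.ne').1 ((lte hp.pos ht h1).trans h2))
  rw [card_G2 hq, ht.dvd_mul, ht.dvd_mul] at htS
  rcases htS with h | h | h
  · exact absurd ((Nat.prime_dvd_prime_iff_eq ht hp).1 (ht.dvd_of_dvd_pow (ht.dvd_of_dvd_pow h))) htp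
  · exact h0 2 h (by rw [card_G2 hq]; exact Dvd.dvd.mul_left (dvd_mul_right _ _) _)
  · exact h0 6 h (by rw [card_G2 hq]; exact Dvd.dvd.mul_left (dvd_mul_left _ _) _)

theorem ne_comm_G2 (hq3 : 3 ≤ Fintype.card F) : ∃ a b : ↥(chevG2.group F), a * b ≠ b * a := by
  by_contra hcon
  push Not at hcon
  exact (Cfsg.Agent.S1055.result (H719.ne_one hq3)).2 ⟨⟨hcon⟩⟩

theorem tor_G2 (hq : Fintype.card F = p ^ f) (hq3 : 3 ≤ p ^ f) (hf : 0 < f) {r m h₀ : ℕ} (hr : r.Prime)
    (hod : od (Nat.card F) r = m) (hm : m = 3 ∨ m = 6) (hh0 : ∀ k, r ∣ p ^ k - 1 → h₀ ∣ k)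
    (hh : 2 * f.factorization p < h₀)
    (hprim : (∃ h, (∀ k, r ∣ p ^ k - 1 → f * h ∣ k) ∧ ∀ d ∈ [2, 6], 0 < d ∧ d < 3 * h) ∨
      (∀ t, t.Prime → t ≠ 2 → ¬ t ∣ f)) :
    Tor ↥(chevG2.group F) p r (cyc m (Nat.card F)) 12 := by
  have hp : p.Prime := Fact.out
  have hrF := Fact.mk hr
  have hfin : Finite ↥(chevG2.group F) := by
    have : Finite (Matrix.GeneralLinearGroup chevG2.Idx F) := inferInstance
    infer_instance
  have hsimp : IsSimpleGroup ↥(chevG2.group F) := (Cfsg.Agent.S1055.result (H719.ne_one (by omega))).1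
  have hW : Nat.card CoxeterMatrix.G₂.Group = 12 := Cfsg.Agent.S1092.result (⟨2, CoxeterMatrix.G₂⟩, 12) (by simp)
  have hty : IsType chevG2 2 CoxeterMatrix.G₂ := by simp [IsType, typeList]
  have hqN : Nat.card F = p ^ f := by rw [Nat.card_eq_fintype_card, hq]
  have hq1 : 1 ≤ Nat.card F := Nat.card_pos
  have hmr : m < r := lt_of_od hr hod (by omega)
  have hrd6 : r ∣ Nat.card F ^ 6 - 1 := dvd_of_od_dvd hq1 (by rcases hm with rfl | rfl <;> (rw [hod]; try norm_num))
  have hcard : Nat.card F ^ 6 - 1 ∣ Nat.card ↥(chevG2.group F) := by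
    rw [card_G2 hq, hqN]; exact Dvd.dvd.mul_left (dvd_mul_left _ _) _
  have hv := v_G2 hq hf
  have ho := out_lt_G2 hq hq3 hf
  rw [← hW]
  refine tor_chev hty BpExc.FamInst.inv_G2 H129.TorusChar.invC_G2 hq hf (H719.AutInv.inv_G2 _) ordF_G2 hr hod ?_ ?_ ?_
    (hrd6.trans hcard) ?_ ?_ hprim ?_ ?_
  · rcases hm with rfl | rfl <;> decide
  · omega
  · omega
  · rcases hm with rfl | rfl
    · refine (H719.hasT_G2_3 (F := F) (q := Nat.card F) (Nat.card_eq_fintype_card).symm (cyc3 _)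
        (cyc3 _)).cyclic_sylow (H719.dvd_red (by norm_num) hr (by omega) ?_)
      exact Int.natCast_dvd.1 (H378.RegFin.cyclotomic_dvd hr hod (by norm_num))
    · refine (H719.hasT_G2_6 (F := F) (q := Nat.card F) (Nat.card_eq_fintype_card).symm (cyc6 _)
        (cyc6 _)).cyclic_sylow (H719.dvd_red (by norm_num) hr (by omega) ?_)
      exact Int.natCast_dvd.1 (H378.RegFin.cyclotomic_dvd hr hod (by norm_num))
  · intro x hx hcen
    refine H568.noNorm_G2 p hr hx hcen hm fun k hk => ?_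
    rw [← hod]
    exact od_dvd hq1 hk
  · omega
  · intro s hs hs2 hsp hsm _ x hx hsx
    have hs3 : orderOf s = 3 := by
      refine prime_dvd_six hs hs2 ?_
      rcases hm with rfl | rfl
      · exact hsm.trans (by norm_num)
      · exact hsm
    have hp3 : p ≠ 3 := by rw [← hs3]; exact hsp.symm
    rw [fac_out_G2 hq hq3 hf (Or.inr hp3), hv]
    have hpS : p ∣ Nat.card ↥(chevG2.group F) := by
      rw [← v_pos hp, hv]; omega
    have h1 := cent_lt (KFacts.RgdFiltChev.hasFilt_G2 F p) (ne_comm_G2 (by omega)) hs hsp hpS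
    rw [hv] at h1
    have hrp : r ≠ p := by
      rintro rfl
      exact H378.RegFin.not_dvd_q hr hod (by omega) (by rw [hqN]; exact dvd_pow_self _ hf.ne')
    have hcx : ¬ p ∣ Nat.card (centralizer ({x} : Set ↥(chevG2.group F))) := by
      intro hd
      have h2 := (H378.RegFin.cent_od hty BpExc.FamInst.inv_G2 one_ne_zero hr hx hod
        (by rcases hm with rfl | rfl <;> decide) (by (clear * - hm; omega))).2
      exact not_dvd_cyc hp hq1 (by rw [hqN]; exact dvd_pow_self _ hf.ne') (by omega) (hd.trans h2)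
    have h2 := st_sq (by simp) hsx hr hx hrp hs (by (clear * - hm hmr hs3; omega)) hsp hcx
    have h3 := hh0 _ h2
    have h4 : h₀ ∣ 2 * (f * 6) := by
      refine (hh0 (f * 6) ?_).trans (dvd_mul_left _ _)
      rw [pow_mul, ← hqN]
      exact hrd6
    have h5 : h₀ ∣ 2 * (f * 6) - 2 * v p (centralizer ({s} : Set ↥(chevG2.group F))) := Nat.dvd_sub h4 h3
    have h6 := Nat.le_of_dvd (by omega) h5
    omega

/-- the prime for the torus of order `q ^ 2 + q + 1` -/
theorem exists_r₀ (hp : p.Prime) (hf : 0 < f) : ∃ r h₀, r.Prime ∧ od (p ^ f) r = 3 ∧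
    (∀ k, r ∣ p ^ k - 1 → h₀ ∣ k) ∧ 2 * f.factorization p < h₀ ∧
    ((∃ h, (∀ k, r ∣ p ^ k - 1 → f * h ∣ k) ∧ ∀ d ∈ [2, 6], 0 < d ∧ d < 3 * h) ∨
      (∀ t, t.Prime → t ≠ 2 → ¬ t ∣ f)) := by
  by_cases h6 : p = 2 ∧ f * 3 = 6
  · obtain ⟨rfl, h6⟩ := h6
    have hf2 : f = 2 := by omega
    subst hf2
    have h7 : orderOf ((4 : ℕ) : ZMod 7) = 3 := by
      have := Fact.mk Nat.prime_three
      exact orderOf_eq_prime (by decide) (by decide)
    have h72 : orderOf ((2 : ℕ) : ZMod 7) = 3 := by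
      have := Fact.mk Nat.prime_three
      exact orderOf_eq_prime (by decide) (by decide)
    refine ⟨7, 3, by norm_num, h7, fun k hk => ?_, ?_, Or.inr fun t ht ht2 h => ?_⟩
    · rw [Cfsg.Agent.Lib.Zsigmondy.dvd_pow_sub_one_iff (by norm_num), h72] at hk
      exact hk
    · have := Nat.factorization_lt 2 (n := 2) (by norm_num)
      omega
    · exact ht2 ((Nat.prime_dvd_prime_iff_eq ht Nat.prime_two).1 h)
  · obtain ⟨r, hr, h1, h2⟩ := exists_prim' hp hf (le_refl 3) h6
    refine ⟨r, f * 3, hr, h2, fun k hk => (h1 k).1 hk, ?_, Or.inl ⟨3, fun k hk => (h1 k).1 hk, by decide⟩⟩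
    have := Nat.factorization_lt p hf.ne'
    omega

/-- the prime for the torus of order `q ^ 2 - q + 1` -/
theorem exists_r₁ (hp : p.Prime) (hf : 0 < f) (hq3 : 3 ≤ p ^ f) : ∃ r h₀, r.Prime ∧ od (p ^ f) r = 6 ∧
    (∀ k, r ∣ p ^ k - 1 → h₀ ∣ k) ∧ 2 * f.factorization p < h₀ ∧
    ((∃ h, (∀ k, r ∣ p ^ k - 1 → f * h ∣ k) ∧ ∀ d ∈ [2, 6], 0 < d ∧ d < 3 * h) ∨
      (∀ t, t.Prime → t ≠ 2 → ¬ t ∣ f)) := by
  obtain ⟨r, hr, h1, h2⟩ := exists_prim' (h := 6) hp hf (by norm_num) (by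
    rintro ⟨rfl, h⟩
    have h1 : f = 1 := by omega
    rw [h1] at hq3
    norm_num at hq3)
  refine ⟨r, f * 6, hr, h2, fun k hk => (h1 k).1 hk, ?_, Or.inl ⟨6, fun k hk => (h1 k).1 hk, by decide⟩⟩
  have := Nat.factorization_lt p hf.ne'
  omega

theorem not_dvd_twelve {r : ℕ} (hr : 3 < r) (h : r.Prime) : ¬ r ∣ 12 := by
  intro h1
  have h2 := prime_dvd_six h (by omega) (by
    rcases h.dvd_mul.1 (show r ∣ 2 * 6 from h1) with h2 | h2
    · exact absurd (Nat.le_of_dvd (by norm_num) h2) (by omega)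
    · exact h2)
  omega

theorem two_odd_cyc3 (q : ℕ) : ¬ 2 ∣ cyc 3 q := by
  refine H719.not_dvd_of_zmod (cyc3 q) ?_
  push_cast
  generalize (q : ZMod 2) = x
  revert x
  decide +kernel

theorem coprime_cyc36 (q : ℕ) : (cyc 3 q).Coprime (cyc 6 q) := by
  refine Nat.coprime_of_dvd fun k hk h1 h2 => ?_
  by_cases h : k = 2
  · subst h
    exact two_odd_cyc3 q h1
  · exact H719.RowG2.co (cyc3 q) (cyc6 q) hk h h1 h2

theorem fac_three (q : ℕ) : (cyc 3 q).factorization 3 + (cyc 6 q).factorization 3 ≤ 1 := by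
  have h0 : cyc 3 q ≠ 0 := fun h => two_odd_cyc3 q (h ▸ dvd_zero 2)
  have h1 : cyc 6 q ≠ 0 := by
    intro h
    have h2 := cyc6 q
    rw [h] at h2
    push_cast at h2
    linarith only [h2, sq_nonneg ((q : ℤ) - 1), sq_nonneg (q : ℤ)]
  rw [← Finsupp.add_apply, ← Nat.factorization_mul h0 h1]
  by_contra hcon
  push Not at hcon
  have h2 : 3 ^ 2 ∣ cyc 3 q * cyc 6 q :=
    (Nat.prime_three.pow_dvd_iff_le_factorization (mul_ne_zero h0 h1)).2 hcon
  have hz : ((cyc 3 q * cyc 6 q : ℕ) : ℤ) = (1 + (q : ℤ) + (q : ℤ) ^ 2) * (1 - (q : ℤ) + (q : ℤ) ^ 2) := by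
    rw [← cyc3, ← cyc6]; push_cast; ring
  refine H719.not_dvd_of_zmod hz ?_ h2
  push_cast
  generalize (q : ZMod (3 ^ 2)) = x
  revert x
  decide +kernel

/-- **`Two` for `G₂(q)`.** -/
theorem row_chevG2 (hq : Fintype.card F = p ^ f) (hq3 : 3 ≤ p ^ f) (hf : 0 < f) : Row ↥(chevG2.group F) := by
  have hp : p.Prime := Fact.out
  have hfin : Finite ↥(chevG2.group F) := by
    have : Finite (Matrix.GeneralLinearGroup chevG2.Idx F) := inferInstance
    infer_instance
  obtain ⟨hsimp, hna⟩ := Cfsg.Agent.S1055.result (F := F) (H719.ne_one (by omega))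
  have hZ := center_eq_bot hna
  have hqN : Nat.card F = p ^ f := by rw [Nat.card_eq_fintype_card, hq]
  have hq1 : 1 ≤ Nat.card F := Nat.card_pos
  have hpq : p ∣ Nat.card F := by rw [hqN]; exact dvd_pow_self p hf.ne'
  have hty : IsType chevG2 2 CoxeterMatrix.G₂ := by simp [IsType, typeList]
  obtain ⟨r₀, h₀, hr₀, ho₀, hh₀, hl₀, hp₀⟩ := exists_r₀ hp hf
  obtain ⟨r₁, h₁, hr₁, ho₁, hh₁, hl₁, hp₁⟩ := exists_r₁ hp hf hq3
  rw [← hqN] at ho₀ ho₁
  have T0 := tor_G2 hq hq3 hf hr₀ ho₀ (Or.inl rfl) hh₀ hl₀ hp₀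
  have T1 := tor_G2 hq hq3 hf hr₁ ho₁ (Or.inr rfl) hh₁ hl₁ hp₁
  have hv := v_G2 hq hf
  have ho := out_lt_G2 hq hq3 hf
  have hl0 := lt_of_od hr₀ ho₀ (by norm_num)
  have hl1 := lt_of_od hr₁ ho₁ (by norm_num)
  refine Two.row hZ (two_gen (m := 2) hZ hp T0 T1 (coprime_cyc36 _) (by norm_num) ?_ ?_
    (fun t ht ht2 htp htS => hout_G2 hq hq3 hf ht ht2 htp htS) ?_ ?_ ?_)
  · rw [hr₁.dvd_mul]
    rintro (h | h)
    · have h1 := H378.RegFin.od_of_dvd h
      rw [ho₁] at h1
      omega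
    · exact not_dvd_twelve (by omega) hr₁ h
  · rw [hr₀.dvd_mul]
    rintro (h | h)
    · have h1 := od_eq_of_dvd (m := 6) hr₀ (fun h6 => by
        have := prime_dvd_six hr₀ (by omega) h6
        omega) h
      rw [ho₀] at h1
      omega
    · exact not_dvd_twelve (by omega) hr₀ h
  · intro t ht ht2 htp htS
    have hN0 : ¬ p ∣ cyc 3 (Nat.card F) := not_dvd_cyc hp hq1 hpq (by norm_num)
    have hN1 : ¬ p ∣ cyc 6 (Nat.card F) := not_dvd_cyc hp hq1 hpq (by norm_num)
    have key : od (Nat.card F) t = 1 ∨ od (Nat.card F) t = 2 →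
        (cyc 3 (Nat.card F)).factorization t + (cyc 6 (Nat.card F)).factorization t +
          (out ↥(chevG2.group F)).factorization t < v t ↥(chevG2.group F) := by
      intro hod
      by_cases ht3 : t = 3
      · subst ht3
        have h1 := fac_three (Nat.card F)
        have h2 := fac_out_G2 hq hq3 hf (t := 3) (Or.inl ht2)
        have hd2 : od (Nat.card F) 3 ∣ 2 := by
          rcases hod with h | h
          · rw [h]; exact one_dvd _
          · rw [h]
        have h3 := lte (i := 2) hp.pos ht (by rw [← hqN]; exact dvd_of_od_dvd hq1 hd2)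
        have h4 := lte (i := 6) hp.pos ht (by
          rw [← hqN]; exact dvd_of_od_dvd hq1 (hd2.trans (by norm_num)))
        have h5 : 3 ^ (2 * (f.factorization 3 + 1)) ∣ Nat.card ↥(chevG2.group F) := by
          rw [card_G2 hq, two_mul, pow_add]
          exact Dvd.dvd.mul_left (Nat.mul_dvd_mul h3 h4) _
        have h6 := (ht.pow_dvd_iff_le_factorization Nat.card_pos.ne').1 h5
        simp only [v]
        omega
      · have h1 : (cyc 3 (Nat.card F)).factorization t = 0 := by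
          refine Nat.factorization_eq_zero_of_not_dvd fun h => ?_
          have h2 := od_eq_of_dvd ht (fun h3 => ht3 ((Nat.prime_dvd_prime_iff_eq ht Nat.prime_three).1 h3)) h
          omega
        have h2 : (cyc 6 (Nat.card F)).factorization t = 0 := by
          refine Nat.factorization_eq_zero_of_not_dvd fun h => ?_
          have h2 := od_eq_of_dvd ht (fun h3 => ht3 (prime_dvd_six ht ht2 h3)) h
          omega
        rw [h1, h2, zero_add, zero_add]
        exact hout_G2 hq hq3 hf ht ht2 htp htS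
    rcases od_G2 ht htS with h | h | h | h | h
    · rw [hqN] at h
      exact absurd ((Nat.prime_dvd_prime_iff_eq ht hp).1 (ht.dvd_of_dvd_pow h)) htp
    · exact Or.inr (key (Or.inl h))
    · exact Or.inr (key (Or.inr h))
    · left
      intro y hy
      exact v_zero_of_dvd (H378.RegFin.cent_od hty BpExc.FamInst.inv_G2 one_ne_zero ht hy h (by decide)
        (by norm_num)).2 hN0
    · left
      intro y hy
      exact v_zero_of_dvd (H378.RegFin.cent_od hty BpExc.FamInst.inv_G2 one_ne_zero ht hy h (by decide)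
        (by norm_num)).2 hN1
  · by_contra hcon
    push Not at hcon
    have h1 : p ^ 3 ∣ 12 := (hp.pow_dvd_iff_le_factorization (by norm_num)).2 hcon
    have h2 := Nat.le_of_dvd (by norm_num) h1
    have h3 : p < 3 := by
      by_contra h4
      push Not at h4
      have h5 : 3 ^ 3 ≤ p ^ 3 := Nat.pow_le_pow_left h4 3
      omega
    have h4 := hp.two_le
    have h5 : p = 2 := by omega
    rw [h5] at h1
    norm_num at h1
  · omega

end G2

/-- **The row of `G₂(q)`.** -/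
theorem row_g2 (K : Type u) [Group K] [Finite K] [IsSimpleGroup K] (h : Cfsg.Lie.IsoChevG2 K) : Row K := by
  obtain ⟨F, _, _, h3, ⟨e⟩⟩ := h
  obtain ⟨p, hpc⟩ := CharP.exists F
  obtain ⟨f, hp, hf⟩ := FiniteField.card F p
  have hpF := Fact.mk hp
  exact (row_chevG2 (F := F) (p := p) (f := f) hf (hf ▸ h3) f.pos).congr e

end Cfsg.Agent.H5.PD
end

-- part: H5/PD/RowF4
section
/-!
# S4246: the row of `F₄(q)` (helper5)

`Two` with the primes of order 12 and 8.
-/

set_option autoImplicit false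
set_option linter.unusedSectionVars false

namespace Cfsg.Agent.H5.PD

open CoxeterSystem Subgroup Cfsg Cfsg.Lie Cfsg.Lie.ChevalleyDatum
open Cfsg.Agent.ChevalleyStructure Cfsg.Agent.ChevalleyStructure.Elts Cfsg.Agent.ChevalleyStructure.CoxeterGeom
  Cfsg.Agent.ChevalleyStructure.CoxeterGeomTypes Cfsg.Agent.Nodes.RGDChev
open Cfsg.Agent.H378.ExcAdj Cfsg.Agent.H568.FldExc Cfsg.Agent.H70.OutCount
open Cfsg.Agent.H160.PD

universe u

/-! ### numbers -/

theorem cyc8 (q : ℕ) : (cyc 8 q : ℤ) = 1 + (q : ℤ) ^ 4 := by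
  have h : (Polynomial.cyclotomic 8 ℤ).eval (q : ℤ) = 1 + (q : ℤ) ^ 4 := by
    rw [show (8 : ℕ) = 2 ^ (2 + 1) by norm_num, Polynomial.cyclotomic_prime_pow_eq_geom_sum Nat.prime_two]
    simp [Finset.sum_range_succ]
  rw [cyc, Int.natCast_natAbs, h, abs_of_nonneg (by positivity)]

theorem cyc12 (q : ℕ) : (cyc 12 q : ℤ) = 1 - (q : ℤ) ^ 2 + (q : ℤ) ^ 4 := by
  have h : (Polynomial.cyclotomic 12 ℤ).eval (q : ℤ) = 1 - (q : ℤ) ^ 2 + (q : ℤ) ^ 4 := by
    have h := Polynomial.cyclotomic_expand_eq_cyclotomic Nat.prime_two (show 2 ∣ 6 by norm_num) ℤ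
    rw [show 6 * 2 = 12 from rfl, Polynomial.cyclotomic_six] at h
    rw [← h, Polynomial.expand_eval]
    simp only [_root_.Polynomial.eval_add, _root_.Polynomial.eval_sub, _root_.Polynomial.eval_pow, _root_.Polynomial.eval_X, _root_.Polynomial.eval_one]
    ring
  rw [cyc, Int.natCast_natAbs, h, abs_of_nonneg (by linarith only [sq_nonneg ((q : ℤ) ^ 2 - 1), sq_nonneg (q : ℤ)])]

theorem three_cyc12 (q : ℕ) : ¬ 3 ∣ cyc 12 q := by
  refine H719.not_dvd_of_zmod (cyc12 q) ?_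
  push_cast
  generalize (q : ZMod 3) = x
  revert x
  decide +kernel

theorem two_cyc12 (q : ℕ) : ¬ 2 ∣ cyc 12 q := by
  refine H719.not_dvd_of_zmod (cyc12 q) ?_
  push_cast
  generalize (q : ZMod 2) = x
  revert x
  decide +kernel

theorem coprime_cyc812 (q : ℕ) : (cyc 12 q).Coprime (cyc 8 q) := by
  refine Nat.coprime_of_dvd fun k hk h1 h2 => ?_
  by_cases h : k = 2
  · subst h
    exact two_cyc12 q h1
  · exact H719.RowF4.co (cyc12 q) (cyc8 q) hk h h1 h2

theorem eq_two_of_dvd_eight {t : ℕ} (ht : t.Prime) (h : t ∣ 8) : t = 2 :=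
  (Nat.prime_dvd_prime_iff_eq ht Nat.prime_two).1 (ht.dvd_of_dvd_pow (show t ∣ 2 ^ 3 from h))

theorem eq_three_of_dvd_twelve {t : ℕ} (ht : t.Prime) (ht2 : t ≠ 2) (h : t ∣ 12) : t = 3 := by
  rcases ht.dvd_mul.1 (show t ∣ 2 * 6 from h) with h1 | h1
  · exact absurd ((Nat.prime_dvd_prime_iff_eq ht Nat.prime_two).1 h1) ht2
  · exact prime_dvd_six ht ht2 h1

theorem not_dvd_1152 {r : ℕ} (hr : 3 < r) (h : r.Prime) : ¬ r ∣ 1152 := by
  intro h1
  rcases h.dvd_mul.1 (show r ∣ 2 ^ 7 * 3 ^ 2 by norm_num; exact h1) with h2 | h2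
  · have := (Nat.prime_dvd_prime_iff_eq h Nat.prime_two).1 (h.dvd_of_dvd_pow h2)
    omega
  · have := (Nat.prime_dvd_prime_iff_eq h Nat.prime_three).1 (h.dvd_of_dvd_pow h2)
    omega

section F4

variable {F : Type u} [Field F] [Fintype F] {p f : ℕ} [hpF : Fact p.Prime] [CharP F p]

theorem card_F4 (hq : Fintype.card F = p ^ f) :
    Nat.card ↥(chevF4.group F) = (p ^ f) ^ 24 * (((p ^ f) ^ 2 - 1) * (((p ^ f) ^ 6 - 1) * (((p ^ f) ^ 8 - 1) *
      ((p ^ f) ^ 12 - 1)))) := by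
  rw [Cfsg.Agent.S1062.result hq]; ring

theorem v_F4 (hq : Fintype.card F = p ^ f) (hf : 0 < f) : v p ↥(chevF4.group F) = f * 24 := by
  have hp : p.Prime := Fact.out
  show (Nat.card ↥(chevF4.group F)).factorization p = f * 24
  rw [card_F4 hq, fac_mul_pow hp]
  have hq1 : 1 ≤ p ^ f := Nat.one_le_pow _ _ hp.pos
  have hpq : p ∣ p ^ f := dvd_pow_self p hf.ne'
  rw [hp.dvd_mul, hp.dvd_mul, hp.dvd_mul]
  rintro (h | h | h | h)
  all_goals exact not_dvd_sub_one hp hq1 hpq (by norm_num) h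

theorem out_F4 (hq : Fintype.card F = p ^ f) : out ↥(chevF4.group F) = Nat.gcd 2 p * f :=
  Cfsg.Agent.S2122.result p f hq

theorem fac_out_F4 (hq : Fintype.card F = p ^ f) (hf : 0 < f) {t : ℕ} (ht2 : t ≠ 2) :
    (out ↥(chevF4.group F)).factorization t = f.factorization t := by
  rw [out_F4 hq]
  rcases (Nat.dvd_prime Nat.prime_two).1 (Nat.gcd_dvd_left 2 p) with h | h
  · rw [h, one_mul]
  · rw [h]
    exact fac_two_mul ht2 hf.ne'

theorem out_le_F4 (hq : Fintype.card F = p ^ f) (hf : 0 < f) :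
    (out ↥(chevF4.group F)).factorization p ≤ f := by
  have h1 := Nat.factorization_lt p hf.ne'
  rw [out_F4 hq]
  rcases (Nat.dvd_prime Nat.prime_two).1 (Nat.gcd_dvd_left 2 p) with h | h
  · rw [h, one_mul]
    exact h1.le
  · rw [h, Nat.factorization_mul two_ne_zero hf.ne', Finsupp.add_apply, Nat.Prime.factorization Nat.prime_two,
      Finsupp.single_apply]
    split_ifs <;> omega

theorem hout_F4 (hq : Fintype.card F = p ^ f) (hf : 0 < f) {t : ℕ} (ht : t.Prime) (ht2 : t ≠ 2)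
    (htp : t ≠ p) (htS : t ∣ Nat.card ↥(chevF4.group F)) :
    (out ↥(chevF4.group F)).factorization t < v t ↥(chevF4.group F) := by
  have hp : p.Prime := Fact.out
  have hfin : Finite ↥(chevF4.group F) := by
    have : Finite (Matrix.GeneralLinearGroup chevF4.Idx F) := inferInstance
    infer_instance
  rw [fac_out_F4 hq hf ht2]
  have h0 : ∀ i, t ∣ (p ^ f) ^ i - 1 → (p ^ f) ^ i - 1 ∣ Nat.card ↥(chevF4.group F) →
      f.factorization t < v t ↥(chevF4.group F) := fun i h1 h2 =>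
    Nat.lt_of_succ_le ((ht.pow_dvd_iff_le_factorization Nat.card_pos.ne').1 ((lte hp.pos ht h1).trans h2))
  rw [card_F4 hq, ht.dvd_mul, ht.dvd_mul, ht.dvd_mul, ht.dvd_mul] at htS
  rcases htS with h | h | h | h | h
  · exact absurd ((Nat.prime_dvd_prime_iff_eq ht hp).1 (ht.dvd_of_dvd_pow (ht.dvd_of_dvd_pow h))) htp
  · exact h0 2 h (by rw [card_F4 hq]; exact Dvd.dvd.mul_left (dvd_mul_right _ _) _)
  · exact h0 6 h (by rw [card_F4 hq]; exact Dvd.dvd.mul_left (Dvd.dvd.mul_left (dvd_mul_right _ _) _) _)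
  · exact h0 8 h (by
      rw [card_F4 hq]
      exact Dvd.dvd.mul_left (Dvd.dvd.mul_left (Dvd.dvd.mul_left (dvd_mul_right _ _) _) _) _)
  · exact h0 12 h (by
      rw [card_F4 hq]
      exact Dvd.dvd.mul_left (Dvd.dvd.mul_left (Dvd.dvd.mul_left (dvd_mul_left _ _) _) _) _)

theorem tor_F4 (hq : Fintype.card F = p ^ f) (hf : 0 < f) {r m : ℕ} (hr : r.Prime)
    (hod : od (Nat.card F) r = m) (hm : m = 8 ∨ m = 12)
    (hprim : ∀ k, r ∣ p ^ k - 1 → f * m ∣ k) :
    Tor ↥(chevF4.group F) p r (cyc m (Nat.card F)) 1152 := by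
  have hp : p.Prime := Fact.out
  have hrF := Fact.mk hr
  have hfin : Finite ↥(chevF4.group F) := by
    have : Finite (Matrix.GeneralLinearGroup chevF4.Idx F) := inferInstance
    infer_instance
  have hW : Nat.card CoxeterMatrix.F₄.Group = 1152 := Cfsg.Agent.S1092.result (⟨4, CoxeterMatrix.F₄⟩, 1152) (by simp)
  have hty : IsType chevF4 4 CoxeterMatrix.F₄ := by simp [IsType, typeList]
  have hqN : Nat.card F = p ^ f := by rw [Nat.card_eq_fintype_card, hq]
  have hq1 : 1 ≤ Nat.card F := Nat.card_pos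
  have hmr : m < r := lt_of_od hr hod (by omega)
  have hcard : r ∣ Nat.card ↥(chevF4.group F) := by
    rw [card_F4 hq, ← hqN]
    have h1 : r ∣ Nat.card F ^ m - 1 := dvd_of_od_dvd hq1 (by rw [hod])
    rcases hm with rfl | rfl
    · exact h1.trans (Dvd.dvd.mul_left (Dvd.dvd.mul_left (Dvd.dvd.mul_left (dvd_mul_right _ _) _) _) _)
    · exact h1.trans (Dvd.dvd.mul_left (Dvd.dvd.mul_left (Dvd.dvd.mul_left (dvd_mul_left _ _) _) _) _)
  have hv := v_F4 hq hf
  have ho := out_le_F4 hq hf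
  rw [← hW]
  refine tor_chev hty BpExc.FamInst.inv_F4 H129.TorusChar.invC_F4 hq hf (H719.AutInv.inv_F4 _) ordF_F4 hr hod ?_ ?_ ?_
    hcard ?_ ?_ (Or.inl ⟨m, hprim, ?_⟩) ?_ ?_
  · rcases hm with rfl | rfl <;> decide
  · omega
  · omega
  · rcases hm with rfl | rfl
    · refine (H719.hasT_F4_8 (F := F) (q := Nat.card F) (Nat.card_eq_fintype_card).symm (cyc8 _)
        (cyc8 _)).cyclic_sylow (H719.dvd_red (by norm_num) hr (by omega) ?_)
      exact Int.natCast_dvd.1 (H378.RegFin.cyclotomic_dvd hr hod (by norm_num))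
    · refine (H719.hasT_F4_12 (F := F) (q := Nat.card F) (Nat.card_eq_fintype_card).symm (cyc12 _)
        (cyc12 _)).cyclic_sylow (H719.dvd_red (by norm_num) hr (by omega) ?_)
      exact Int.natCast_dvd.1 (H378.RegFin.cyclotomic_dvd hr hod (by norm_num))
  · intro x hx hcen
    refine H568.noNorm_F4 p hr hx hcen hm fun k hk => ?_
    rw [← hod]
    exact od_dvd hq1 hk
  · rcases hm with rfl | rfl <;> decide
  · omega
  · intro s hs hs2 hsp hsm hsd x hx hsx
    exfalso
    rcases hm with rfl | rfl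
    · exact hs2 (eq_two_of_dvd_eight hs hsm)
    · rw [eq_three_of_dvd_twelve hs hs2 hsm] at hsd
      exact three_cyc12 _ hsd

/-- **`Two` for `F₄(q)`.** -/
theorem row_chevF4 (hq : Fintype.card F = p ^ f) (hf : 0 < f) : Row ↥(chevF4.group F) := by
  have hp : p.Prime := Fact.out
  have hfin : Finite ↥(chevF4.group F) := by
    have : Finite (Matrix.GeneralLinearGroup chevF4.Idx F) := inferInstance
    infer_instance
  obtain ⟨hsimp, hna⟩ := Cfsg.Agent.S1054.result (F := F) chevF4 (by simp)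
  have hZ := center_eq_bot hna
  have hqN : Nat.card F = p ^ f := by rw [Nat.card_eq_fintype_card, hq]
  have hq1 : 1 ≤ Nat.card F := Nat.card_pos
  have hpq : p ∣ Nat.card F := by rw [hqN]; exact dvd_pow_self p hf.ne'
  have hty : IsType chevF4 4 CoxeterMatrix.F₄ := by simp [IsType, typeList]
  obtain ⟨r₀, hr₀, hh₀, ho₀⟩ := exists_prim' (h := 12) hp hf (by norm_num) (by rintro ⟨-, h⟩; omega)
  obtain ⟨r₁, hr₁, hh₁, ho₁⟩ := exists_prim' (h := 8) hp hf (by norm_num) (by rintro ⟨-, h⟩; omega)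
  rw [← hqN] at ho₀ ho₁
  have T0 := tor_F4 hq hf hr₀ ho₀ (Or.inr rfl) (fun k hk => (hh₀ k).1 hk)
  have T1 := tor_F4 hq hf hr₁ ho₁ (Or.inl rfl) (fun k hk => (hh₁ k).1 hk)
  have hv := v_F4 hq hf
  have ho := out_le_F4 hq hf
  have hl0 := lt_of_od hr₀ ho₀ (by norm_num)
  have hl1 := lt_of_od hr₁ ho₁ (by norm_num)
  refine Two.row hZ (two_gen (m := 7) hZ hp T0 T1 (coprime_cyc812 _) (by norm_num) ?_ ?_
    (fun t ht ht2 htp htS => hout_F4 hq hf ht ht2 htp htS) ?_ ?_ ?_)
  · rw [hr₁.dvd_mul]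
    rintro (h | h)
    · have h1 := H378.RegFin.od_of_dvd h
      rw [show od (Nat.card F) r₁ = 8 from ho₁] at h1
      omega
    · exact not_dvd_1152 (by omega) hr₁ h
  · rw [hr₀.dvd_mul]
    rintro (h | h)
    · have h1 := H378.RegFin.od_of_dvd h
      rw [show od (Nat.card F) r₀ = 12 from ho₀] at h1
      omega
    · exact not_dvd_1152 (by omega) hr₀ h
  · intro t ht ht2 htp htS
    have hN0 : ¬ p ∣ cyc 12 (Nat.card F) := not_dvd_cyc hp hq1 hpq (by norm_num)
    have hN1 : ¬ p ∣ cyc 8 (Nat.card F) := not_dvd_cyc hp hq1 hpq (by norm_num)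
    by_cases h12 : od (Nat.card F) t = 12
    · left
      intro y hy
      exact v_zero_of_dvd (H378.RegFin.cent_od hty BpExc.FamInst.inv_F4 one_ne_zero ht hy h12 (by decide)
        (by norm_num)).2 hN0
    by_cases h8 : od (Nat.card F) t = 8
    · left
      intro y hy
      exact v_zero_of_dvd (H378.RegFin.cent_od hty BpExc.FamInst.inv_F4 one_ne_zero ht hy h8 (by decide)
        (by norm_num)).2 hN1
    right
    have h1 : (cyc 12 (Nat.card F)).factorization t = 0 := by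
      refine Nat.factorization_eq_zero_of_not_dvd fun h => ?_
      by_cases h3 : t ∣ 12
      · rw [eq_three_of_dvd_twelve ht ht2 h3] at h
        exact three_cyc12 _ h
      · exact h12 (od_eq_of_dvd ht h3 h)
    have h2 : (cyc 8 (Nat.card F)).factorization t = 0 := by
      refine Nat.factorization_eq_zero_of_not_dvd fun h => ?_
      by_cases h3 : t ∣ 8
      · exact ht2 (eq_two_of_dvd_eight ht h3)
      · exact h8 (od_eq_of_dvd ht h3 h)
    rw [h1, h2, zero_add, zero_add]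
    exact hout_F4 hq hf ht ht2 htp htS
  · by_contra hcon
    push Not at hcon
    have h1 : p ^ 8 ∣ 1152 := (hp.pow_dvd_iff_le_factorization (by norm_num)).2 hcon
    have h2 := Nat.le_of_dvd (by norm_num) h1
    have h3 : p < 3 := by
      by_contra h4
      push Not at h4
      have h5 : 3 ^ 8 ≤ p ^ 8 := Nat.pow_le_pow_left h4 8
      omega
    have h4 := hp.two_le
    have h5 : p = 2 := by omega
    rw [h5] at h1
    norm_num at h1
  · omega

end F4

/-- **The row of `F₄(q)`.** -/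
theorem row_f4 (K : Type u) [Group K] [Finite K] [IsSimpleGroup K] (h : Cfsg.Lie.IsoF4 K) : Row K := by
  obtain ⟨F, _, _, ⟨e⟩⟩ := h
  obtain ⟨p, hpc⟩ := CharP.exists F
  obtain ⟨f, hp, hf⟩ := FiniteField.card F p
  have hpF := Fact.mk hp
  exact (row_chevF4 (F := F) (p := p) (f := f) hf f.pos).congr e

end Cfsg.Agent.H5.PD
end

-- part: H874/PD/ReeAux
section
/-!
# Rows of S4246: the small Ree groups, group theoretic part (helper874)
-/

set_option autoImplicit false

namespace Cfsg.Agent.H874.PD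

open Subgroup Cfsg Cfsg.Agent.H160.PD

variable {S : Type*} [Group S] [Finite S]

/-- `u d u⁻¹` runs through the coset `P d` if `d` has no fixed points on `P`. -/
theorem exists_conj_of_coset {P : Subgroup S} {d : S} (hd : d ∈ normalizer (P : Set S))
    (hf : ∀ y ∈ P, d * y = y * d → y = 1) {p : S} (hp : p ∈ P) : ∃ u ∈ P, p * d = u * d * u⁻¹ := by
  have hN : ∀ u ∈ P, u * d * u⁻¹ * d⁻¹ ∈ P := by
    intro u hu
    have h1 : d * u⁻¹ * d⁻¹ ∈ P := (mem_normalizer_iff.1 hd _).1 (P.inv_mem hu)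
    have h2 : u * d * u⁻¹ * d⁻¹ = u * (d * u⁻¹ * d⁻¹) := by group
    rw [h2]
    exact P.mul_mem hu h1
  let φ : P → P := fun u => ⟨(u : S) * d * (u : S)⁻¹ * d⁻¹, hN u u.2⟩
  have hφ : Function.Injective φ := by
    intro u w huw
    have h1 : (u : S) * d * (u : S)⁻¹ * d⁻¹ = (w : S) * d * (w : S)⁻¹ * d⁻¹ := congrArg Subtype.val huw
    have h2 : (u : S) * d * (u : S)⁻¹ = (w : S) * d * (w : S)⁻¹ := mul_right_cancel h1
    have h3 : d * ((u : S)⁻¹ * w) = (u : S)⁻¹ * w * d := by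
      calc d * ((u : S)⁻¹ * w) = (u : S)⁻¹ * ((u : S) * d * (u : S)⁻¹) * w := by group
        _ = (u : S)⁻¹ * ((w : S) * d * (w : S)⁻¹) * w := by rw [h2]
        _ = (u : S)⁻¹ * w * d := by group
    have h4 := hf _ (P.mul_mem (P.inv_mem u.2) w.2) h3
    exact Subtype.ext (inv_mul_eq_one.1 h4)
  obtain ⟨u, hu⟩ := (Finite.injective_iff_surjective.1 hφ) ⟨p, hp⟩
  refine ⟨u, u.2, ?_⟩
  have h1 : (u : S) * d * (u : S)⁻¹ * d⁻¹ = p := congrArg Subtype.val hu
  rw [← h1]
  group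

/-- an automorphism of prime order `t` preserving a set of size prime to `t` has a fixed point there -/
theorem exists_fixed (b : MulAut S) (hb : (orderOf b).Prime) {X : Set S} (hX : ∀ x ∈ X, b x ∈ X)
    (hc : ¬ orderOf b ∣ Nat.card X) : ∃ x ∈ X, b x = x := by
  by_contra hno
  push Not at hno
  apply hc
  refine Cfsg.Agent.H173.RU.orderOf_dvd_of_free (G := MulAut S) b X hX ?_
  intro j x hx hj
  by_cases hjt : orderOf b ∣ j
  · exact orderOf_dvd_iff_pow_eq_one.1 hjt
  · exfalso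
    have hcop : Nat.Coprime (orderOf b) j := (Nat.Prime.coprime_iff_not_dvd hb).2 hjt
    have h1 : Nat.Coprime j (orderOf b) := hcop.symm
    obtain ⟨k, hk⟩ := Nat.exists_mul_mod_eq_one_of_coprime h1 hb.one_lt
    have h2 : ∀ i : ℕ, (b ^ j) ^ i • x = x := by
      intro i
      induction i with
      | zero => simp
      | succ i ih => rw [pow_succ, mul_smul, hj, ih]
    have h3 : (b ^ j) ^ k = b := by
      rw [← pow_mul, ← pow_mod_orderOf, hk.2, pow_one]
    apply hno x hx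
    have h4 := h2 k
    rw [h3] at h4
    exact h4

/-- a `p'`-power of an element of `N(P) \ P`, of prime order -/
theorem exists_prime_power {p : ℕ} [hp : Fact p.Prime] (P : Sylow p S) {k : S}
    (hk : k ∈ normalizer ((P : Subgroup S) : Set S)) (hkP : k ∉ (P : Subgroup S)) :
    ∃ j : ℕ, (orderOf (k ^ j)).Prime ∧ orderOf (k ^ j) ≠ p := by
  have h1 : ¬ IsPGroup p ↥(zpowers k) := by
    intro h1
    apply hkP
    have h2 : IsPGroup p ↥(zpowers k ⊔ (P : Subgroup S) : Subgroup S) :=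
      IsPGroup.to_sup_of_normal_right' h1 P.isPGroup' (by rwa [zpowers_le])
    have h3 := P.is_maximal' h2 le_sup_right
    rw [← h3]
    exact (le_sup_left : zpowers k ≤ zpowers k ⊔ (P : Subgroup S)) (mem_zpowers k)
  have h2 : ∃ r, r.Prime ∧ r ≠ p ∧ r ∣ orderOf k := by
    by_contra hno
    push Not at hno
    apply h1
    have h3 : orderOf k = p ^ (orderOf k).primeFactorsList.length :=
      Nat.eq_prime_pow_of_unique_prime_dvd (orderOf_pos k).ne' (fun {r} hr hrd => by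
        by_contra hne
        exact hno r hr hne hrd)
    exact IsPGroup.of_card (n := (orderOf k).primeFactorsList.length) (by rw [Nat.card_zpowers]; exact h3)
  obtain ⟨r, hr, hrp, j, hj⟩ := h2
  have hj0 : j ≠ 0 := by
    rintro rfl
    rw [mul_zero] at hj
    exact (orderOf_pos k).ne' hj
  refine ⟨j, ?_, ?_⟩ <;>
  · have h4 : orderOf (k ^ j) = r := by
      rw [orderOf_pow_of_dvd hj0 (by rw [hj]; exact dvd_mul_left _ _), hj, Nat.mul_div_cancel _ (Nat.pos_of_ne_zero hj0)]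
    rw [h4]
    assumption

/-- **The bound for the fixed points of an automorphism of prime order `≠ p`**, for TI Sylow `p`-subgroups. -/
theorem two_mul_v_le (hZ : center S = ⊥) {p c e : ℕ} [hp : Fact p.Prime]
    (hTI : ∀ P Q : Sylow p S, P ≠ Q → (P : Subgroup S) ⊓ (Q : Subgroup S) = ⊥)
    (hd : ∀ P : Sylow p S, ∃ d ∈ normalizer ((P : Subgroup S) : Set S), orderOf d = e ∧
      ∀ i : ℕ, d ^ i ≠ 1 → ∀ y ∈ (P : Subgroup S), d ^ i * y = y * d ^ i → y = 1) (he : 1 < e)
    (hc : ∀ k : S, (orderOf k).Prime → orderOf k ≠ p → v p (centralizer {k}) ≤ c)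
    (hnum : ∀ x, x < v p S → e ∣ p ^ x - 1 → 2 * x ≤ v p S + c)
    {b : MulAut S} (hb : (orderOf b).Prime) (hbp : orderOf b ≠ p) (hlt : v p (Fx b) < v p S) :
    2 * v p (Fx b) ≤ v p S + c := by
  by_cases h0 : v p (Fx b) = 0
  · omega
  let Q0 : Sylow p ↥(Fx b) := default
  obtain ⟨Q, hQ⟩ : ∃ Q : Subgroup S, Q = (Q0 : Subgroup ↥(Fx b)).map (Fx b).subtype := ⟨_, rfl⟩
  have hQc : Nat.card ↥Q = p ^ v p (Fx b) := by
    rw [hQ, ← Nat.card_congr ((Q0 : Subgroup ↥(Fx b)).equivMapOfInjective _ (subtype_injective _)).toEquiv,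
      Q0.card_eq_multiplicity]
  have hQf : Q ≤ Fx b := by
    rw [hQ]
    exact map_subtype_le _
  have hQ1 : Q ≠ ⊥ := by
    intro h1
    rw [h1, card_bot] at hQc
    have h4 := Nat.one_lt_pow h0 hp.1.one_lt
    omega
  have hQp : IsPGroup p ↥Q := IsPGroup.of_card hQc
  obtain ⟨P, hP⟩ := hQp.exists_le_sylow
  -- `b` normalises `P`
  have hbP : ∀ y ∈ (P : Subgroup S), b y ∈ (P : Subgroup S) := by
    have h1 : Nat.card ↥((P : Subgroup S).map b.toMonoidHom) = p ^ (Nat.card S).factorization p := by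
      rw [card_map', P.card_eq_multiplicity]
    have h2 : P = Sylow.ofCard _ h1 := by
      by_contra hne
      have h3 := hTI _ _ hne
      apply hQ1
      rw [eq_bot_iff, ← h3]
      intro y hy
      refine ⟨hP hy, ?_⟩
      show y ∈ (P : Subgroup S).map b.toMonoidHom
      exact ⟨y, hP hy, hQf hy⟩
    intro y hy
    have h3 : b y ∈ ((Sylow.ofCard _ h1 : Sylow p S) : Subgroup S) := ⟨y, hy, rfl⟩
    rwa [← h2] at h3
  have hbP' : ∀ y, b y ∈ (P : Subgroup S) ↔ y ∈ (P : Subgroup S) := by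
    intro y
    refine ⟨fun h => ?_, hbP y⟩
    have h1 : ∀ i : ℕ, (b ^ i) (b y) ∈ (P : Subgroup S) := by
      intro i
      induction i with
      | zero => simpa using h
      | succ i ih => rw [pow_succ', MulAut.mul_apply]; exact hbP _ ih
    have h2 := h1 (orderOf b - 1)
    rw [← MulAut.mul_apply, ← pow_succ, Nat.sub_add_cancel hb.one_lt.le, pow_orderOf_eq_one] at h2
    exact h2
  -- the fixed points of `b` on `P`
  have hx : Nat.card ↥(Fx b ⊓ (P : Subgroup S) : Subgroup S) = p ^ v p (Fx b) := by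
    have h1 : IsPGroup p ↥(Fx b ⊓ (P : Subgroup S) : Subgroup S) := P.isPGroup'.to_le inf_le_right
    obtain ⟨n, hn⟩ := IsPGroup.iff_card.1 h1
    rw [hn]
    congr 1
    apply le_antisymm
    · have h2 : p ^ n ∣ Nat.card ↥(Fx b) := by
        rw [← hn]
        exact card_dvd_of_le inf_le_left
      exact (hp.1.pow_dvd_iff_le_factorization Nat.card_pos.ne').1 h2
    · have h2 : p ^ v p (Fx b) ∣ p ^ n := by
        rw [← hn, ← hQc]
        exact card_dvd_of_le (le_inf hQf hP)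
      exact (Nat.pow_dvd_pow_iff_le_right hp.1.one_lt).1 h2
  obtain ⟨d, hdN, hde, hdf⟩ := hd P
  have hd1 : d ≠ 1 := by
    rintro rfl
    rw [orderOf_one] at hde
    omega
  by_cases hk : b d * d⁻¹ ∈ (P : Subgroup S)
  · -- a fixed conjugate of `d`
    have hPt : ¬ orderOf b ∣ Nat.card ↥(P : Subgroup S) := by
      rw [P.card_eq_multiplicity]
      intro h1
      exact hbp ((Nat.prime_dvd_prime_iff_eq hb hp.1).1 (hb.dvd_of_dvd_pow h1))
    obtain ⟨d', hd'P, hd'b⟩ := exists_fixed b hb (X := {y | y * d⁻¹ ∈ (P : Subgroup S)}) (by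
      intro y hy
      rw [Set.mem_ofPred_eq] at hy ⊢
      have h1 : b y * d⁻¹ = b (y * d⁻¹) * (b d * d⁻¹) := by
        rw [map_mul, map_inv]; group
      rw [h1]
      exact mul_mem (hbP _ hy) hk) (by
      have h1 : Nat.card ↥{y | y * d⁻¹ ∈ (P : Subgroup S)} = Nat.card ↥(P : Subgroup S) :=
        Nat.card_congr ⟨fun y => ⟨(y : S) * d⁻¹, y.2⟩, fun y => ⟨(y : S) * d, by
          rw [Set.mem_ofPred_eq, mul_inv_cancel_right]; exact y.2⟩, fun y => by simp, fun y => by simp⟩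
      rw [h1]
      exact hPt)
    rw [Set.mem_ofPred_eq] at hd'P
    obtain ⟨u, hu, hud⟩ := exists_conj_of_coset hdN (fun y hy h => hdf 1 (by rwa [pow_one]) y hy (by rwa [pow_one])) hd'P
    rw [inv_mul_cancel_right] at hud
    -- `d' = u d u⁻¹` acts freely on the fixed points of `b`
    have hd'N : d' ∈ normalizer ((P : Subgroup S) : Set S) := by
      rw [hud]
      exact mul_mem (mul_mem (le_normalizer hu) hdN) (inv_mem (le_normalizer hu))
    have hfree : ∀ i : ℕ, d' ^ i ≠ 1 → ∀ y ∈ (P : Subgroup S), d' ^ i * y = y * d' ^ i → y = 1 := by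
      intro i hi y hy hc
      have h1 : d' ^ i = u * d ^ i * u⁻¹ := by rw [hud, conj_pow]
      have h2 : d ^ i ≠ 1 := by
        intro h2
        apply hi
        rw [h1, h2]
        group
      have h3 := hdf i h2 (u⁻¹ * y * u) (mul_mem (mul_mem (inv_mem hu) hy) hu) (by
        rw [h1] at hc
        calc d ^ i * (u⁻¹ * y * u) = u⁻¹ * (u * d ^ i * u⁻¹ * y) * u := by group
          _ = u⁻¹ * (y * (u * d ^ i * u⁻¹)) * u := by rw [hc]
          _ = u⁻¹ * y * u * d ^ i := by group)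
      have h4 : y = u * (u⁻¹ * y * u) * u⁻¹ := by group
      rw [h4, h3]
      group
    have hordd' : orderOf d' = e := by
      rw [hud, ← hde]
      exact (MulEquiv.orderOf_eq (MulAut.conj u) d)
    have hdvd : e ∣ p ^ v p (Fx b) - 1 := by
      have h1 : orderOf (MulAut.conj d') ∣
          Nat.card ↥{y : S | y ∈ (Fx b ⊓ (P : Subgroup S) : Subgroup S) ∧ y ≠ 1} := by
        refine Cfsg.Agent.H173.RU.orderOf_dvd_of_free (G := MulAut S) (MulAut.conj d')
          {y : S | y ∈ (Fx b ⊓ (P : Subgroup S) : Subgroup S) ∧ y ≠ 1} ?_ ?_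
        · rintro y ⟨⟨hy1, hy2⟩, hy3⟩
          refine ⟨⟨?_, ?_⟩, ?_⟩
          · show b (d' * y * d'⁻¹) = d' * y * d'⁻¹
            rw [map_mul, map_mul, map_inv, hd'b, (mem_Fx.1 hy1 : b y = y)]
          · exact (mem_normalizer_iff.1 hd'N y).1 hy2
          · intro h
            apply hy3
            have h2 : d' * y * d'⁻¹ = 1 := h
            exact conj_eq_one_iff.1 h2
        · rintro j y ⟨⟨hy1, hy2⟩, hy3⟩ hj
          rw [← map_pow] at hj ⊢
          by_contra hne
          apply hy3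
          refine hfree j (fun h => hne (by rw [h, map_one])) y hy2 ?_
          have h2 : d' ^ j * y * (d' ^ j)⁻¹ = y := hj
          rw [← mul_inv_eq_iff_eq_mul]
          exact h2
      rw [orderOf_conj' hZ, hordd'] at h1
      have h2 : Nat.card ↥{y : S | y ∈ (Fx b ⊓ (P : Subgroup S) : Subgroup S) ∧ y ≠ 1} = p ^ v p (Fx b) - 1 := by
        rw [← hx]
        have h3 : {y : S | y ∈ (Fx b ⊓ (P : Subgroup S) : Subgroup S) ∧ y ≠ 1} =
            ((Fx b ⊓ (P : Subgroup S) : Subgroup S) : Set S) \ {1} := by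
          ext y
          exact ⟨fun h => ⟨h.1, h.2⟩, fun h => ⟨h.1, h.2⟩⟩
        rw [h3, Nat.card_coe_set_eq, Set.ncard_sdiff_singleton_of_mem (one_mem _)]
        rfl
      rwa [h2] at h1
    exact hnum _ hlt hdvd
  · -- a `p'`-element centralising a large subgroup of `P`
    have hbdN : b d ∈ normalizer ((P : Subgroup S) : Set S) := by
      rw [mem_normalizer_iff]
      intro y
      obtain ⟨z, rfl⟩ := b.surjective y
      have h1 : b d * b z * (b d)⁻¹ = b (d * z * d⁻¹) := by rw [map_mul, map_mul, map_inv]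
      show b z ∈ (P : Subgroup S) ↔ b d * b z * (b d)⁻¹ ∈ (P : Subgroup S)
      rw [h1, hbP', hbP']
      exact mem_normalizer_iff.1 hdN z
    obtain ⟨j, hj1, hj2⟩ := exists_prime_power P (mul_mem hbdN (inv_mem hdN)) hk
    have hcj := hc _ hj1 hj2
    obtain ⟨Q', hQ'⟩ : ∃ Q' : Subgroup S, Q' = Fx b ⊓ (P : Subgroup S) := ⟨_, rfl⟩
    rw [← hQ'] at hx
    obtain ⟨R, hR⟩ : ∃ R : Subgroup S, R = Q'.map (MulAut.conj d).toMonoidHom := ⟨_, rfl⟩
    have hRc : Nat.card ↥R = p ^ v p (Fx b) := by rw [hR, card_map', hx]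
    have hQ'P : Q' ≤ (P : Subgroup S) := by rw [hQ']; exact inf_le_right
    have hRP : R ≤ (P : Subgroup S) := by
      rw [hR]
      rintro _ ⟨y, hy, rfl⟩
      exact (mem_normalizer_iff.1 hdN y).1 (hQ'P hy)
    have hcen : Q' ⊓ R ≤ centralizer {(b d * d⁻¹) ^ j} := by
      rintro y ⟨hy1, hy2⟩
      rw [hR] at hy2
      obtain ⟨z, hz, hzy⟩ := hy2
      have hzy' : d * z * d⁻¹ = y := hzy
      have h1 : b y = y := by rw [SetLike.mem_coe, hQ'] at hy1; exact hy1.1
      have h2 : b z = z := by rw [SetLike.mem_coe, hQ'] at hz; exact hz.1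
      have h3 : b d * d⁻¹ * y = y * (b d * d⁻¹) := by
        have h4 : y = b d * z * (b d)⁻¹ := by
          rw [← h1, ← hzy', map_mul, map_mul, map_inv, h2]
        calc b d * d⁻¹ * y = b d * d⁻¹ * (d * z * d⁻¹) := by rw [hzy']
          _ = b d * z * (b d)⁻¹ * (b d * d⁻¹) := by simp only [mul_assoc, inv_mul_cancel_left]
          _ = y * (b d * d⁻¹) := by rw [← h4]
      rw [mem_centralizer_singleton_iff]
      exact ((show Commute (b d * d⁻¹) y from h3).pow_left j).symm.eq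
    have hw : v p ↥(Q' ⊓ R : Subgroup S) ≤ c := (v_mono hcen p).trans hcj
    -- indices in `P`
    have hrel : ∀ {A : Subgroup S} {n : ℕ}, A ≤ (P : Subgroup S) → Nat.card ↥A = p ^ n →
        p ^ n * A.relIndex (P : Subgroup S) = p ^ v p S := by
      intro A n hA hn
      have h1 := card_mul_index (A.subgroupOf (P : Subgroup S))
      rw [Nat.card_congr (subgroupOfEquivOfLe hA).toEquiv, hn, P.card_eq_multiplicity] at h1
      exact h1
    have hwc : Nat.card ↥(Q' ⊓ R : Subgroup S) = p ^ v p ↥(Q' ⊓ R : Subgroup S) := by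
      obtain ⟨n, hn⟩ := IsPGroup.iff_card.1 ((P.isPGroup'.to_le (inf_le_left.trans hQ'P)) :
        IsPGroup p ↥(Q' ⊓ R : Subgroup S))
      have h1 : v p ↥(Q' ⊓ R : Subgroup S) = n := by
        show (Nat.card ↥(Q' ⊓ R : Subgroup S)).factorization p = n
        rw [hn, Nat.Prime.factorization_pow hp.1, Finsupp.single_eq_same]
      rw [h1, hn]
    have e1 := hrel hQ'P hx
    have e2 := hrel hRP hRc
    have e3 := hrel (inf_le_left.trans hQ'P) hwc
    have e4 : (Q' ⊓ R).relIndex (P : Subgroup S) ≤ Q'.relIndex (P : Subgroup S) * R.relIndex (P : Subgroup S) :=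
      relIndex_inf_le
    -- `p ^ v * p ^ (2 v_F) ≤ p ^ w * p ^ (2 v)`
    have e5 : p ^ v p S * (p ^ v p (Fx b) * p ^ v p (Fx b)) ≤
        p ^ v p ↥(Q' ⊓ R : Subgroup S) * (p ^ v p S * p ^ v p S) := by
      calc p ^ v p S * (p ^ v p (Fx b) * p ^ v p (Fx b))
          = p ^ v p ↥(Q' ⊓ R : Subgroup S) * (Q' ⊓ R).relIndex (P : Subgroup S) *
            (p ^ v p (Fx b) * p ^ v p (Fx b)) := by rw [e3]
        _ ≤ p ^ v p ↥(Q' ⊓ R : Subgroup S) * (Q'.relIndex (P : Subgroup S) * R.relIndex (P : Subgroup S)) *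
            (p ^ v p (Fx b) * p ^ v p (Fx b)) := by gcongr
        _ = p ^ v p ↥(Q' ⊓ R : Subgroup S) * ((p ^ v p (Fx b) * Q'.relIndex (P : Subgroup S)) *
            (p ^ v p (Fx b) * R.relIndex (P : Subgroup S))) := by ring
        _ = _ := by rw [e1, e2]
    rw [← pow_add, ← pow_add, ← pow_add, ← pow_add] at e5
    have e6 := (Nat.pow_le_pow_iff_right hp.1.one_lt).1 e5
    omega

end Cfsg.Agent.H874.PD
end

-- part: H874/PD/ReeData
section
/-!
# Rows of S4246: the small Ree groups, Sylow `3`-subgroups (helper874)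
-/

set_option autoImplicit false

namespace Cfsg.Agent.H874.PD

open Subgroup Cfsg Cfsg.Agent.H160.PD Cfsg.Agent.LieRecognition.ReeAbs
open scoped Pointwise

/-- an element of order `k * r` from commuting elements -/
theorem orderOf_mul_prime {G : Type*} [Group G] {x y : G} {k r : ℕ} (hr : r.Prime) (hx : orderOf x = k)
    (hy : orderOf y = r) (hkr : ¬ r ∣ k) (hxy : x * y = y * x) : orderOf (x * y) = k * r := by
  rw [(show Commute x y from hxy).orderOf_mul_eq_mul_orderOf_of_coprime (by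
    rw [hx, hy]; exact ((Nat.Prime.coprime_iff_not_dvd hr).2 hkr).symm), hx, hy]

/-- the multiplicative order of `3` modulo `(3 ^ f - 1) / 2` -/
theorem dvd_of_dvd_three {f x : ℕ} (h : (3 ^ f - 1) / 2 ∣ 3 ^ x - 1) (hf : 2 ≤ f) : f ∣ x := by
  obtain ⟨e, he⟩ : ∃ e, e = (3 ^ f - 1) / 2 := ⟨_, rfl⟩
  rw [← he] at h
  have hodd : Odd (3 ^ f) := Odd.pow (by decide)
  obtain ⟨k, hk⟩ := hodd
  have hke : e = k := by omega
  subst hke
  have h1 : 1 ≡ 3 ^ f [MOD e] := (Nat.modEq_iff_dvd' (Nat.one_le_pow _ _ (by norm_num))).2 (by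
    rw [hk]; exact ⟨2, by omega⟩)
  have h2 : 1 ≡ 3 ^ x [MOD e] := (Nat.modEq_iff_dvd' (Nat.one_le_pow _ _ (by norm_num))).2 h
  have h3 : 3 ^ x ≡ 3 ^ (x % f) [MOD e] := by
    have h4 : 3 ^ x = (3 ^ f) ^ (x / f) * 3 ^ (x % f) := by rw [← pow_mul, ← pow_add, Nat.div_add_mod]
    rw [h4]
    have h5 : (3 ^ f) ^ (x / f) ≡ 1 [MOD e] := by
      have := (h1.symm).pow (x / f)
      rwa [one_pow] at this
    have h6 := h5.mul_right (3 ^ (x % f))
    rwa [one_mul] at h6
  have h4 : e ∣ 3 ^ (x % f) - 1 := (Nat.modEq_iff_dvd' (Nat.one_le_pow _ _ (by norm_num))).1 (h2.trans h3)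
  have h5 : x % f < f := Nat.mod_lt _ (by omega)
  have h6 : 3 ^ (x % f) ≤ 3 ^ (f - 1) := Nat.pow_le_pow_right (by norm_num) (by omega)
  have h7 : 3 ^ f = 3 * 3 ^ (f - 1) := by
    rw [← pow_succ']
    congr 1
    omega
  have h9 : 3 ≤ 3 ^ (f - 1) := by
    calc 3 = 3 ^ 1 := by norm_num
      _ ≤ 3 ^ (f - 1) := Nat.pow_le_pow_right (by norm_num) (by omega)
  have h8 : 3 ^ (x % f) - 1 = 0 := by
    by_contra hne
    have := Nat.le_of_dvd (Nat.pos_of_ne_zero hne) h4
    omega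
  have h10 : x % f = 0 := by
    by_contra hne
    have := Nat.one_lt_pow hne (by norm_num : 1 < 3)
    omega
  exact Nat.dvd_of_mod_eq_zero h10

section

variable {K : Type*} [Field K] {G : Type*} [Group G] {m : ℕ} {U : K → K → K → G} {h : Kˣ → G} {n : G}

/-- the unipotent subgroup -/
def P0 (D : Data m U h n) : Subgroup G where
  carrier := {g | ∃ t u v, g = U t u v}
  mul_mem' := by
    rintro _ _ ⟨t, u, v, rfl⟩ ⟨t', u', v', rfl⟩
    exact ⟨_, _, _, D.U_mul _ _ _ _ _ _⟩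
  one_mem' := ⟨0, 0, 0, D.U_zero.symm⟩
  inv_mem' := by
    rintro _ ⟨t, u, v, rfl⟩
    refine ⟨-t, t * (-t) ^ (3 ^ (m + 1)) - u, -(v - u * (-t) - t ^ 2 * (-t) ^ (3 ^ (m + 1)) +
      t * (-t) * (-t) ^ (3 ^ (m + 1))), ?_⟩
    rw [inv_eq_iff_mul_eq_one, D.U_mul, ← D.U_zero]
    congr 1 <;> ring

theorem U_inj (D : Data m U h n) {t u v t' u' v' : K} (he : U t u v = U t' u' v') : t = t' ∧ u = u' ∧ v = v' := by
  obtain ⟨h1, h2, h3, -⟩ := D.inj₁ t u v 1 t' u' v' 1 (by rw [he])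
  exact ⟨h1, h2, h3⟩

theorem h_inj (D : Data m U h n) : Function.Injective h := by
  intro a b hab
  exact (D.inj₁ 0 0 0 a 0 0 0 b (by rw [hab])).2.2.2

theorem h_pow (D : Data m U h n) (a : Kˣ) (i : ℕ) : h (a ^ i) = h a ^ i := by
  induction i with
  | zero => rw [pow_zero, pow_zero, D.h_one]
  | succ i ih => rw [pow_succ, pow_succ, D.h_mul, ih]

theorem orderOf_h (D : Data m U h n) (a : Kˣ) : orderOf (h a) = orderOf a := by
  apply Nat.dvd_antisymm
  · apply orderOf_dvd_of_pow_eq_one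
    rw [← h_pow D, pow_orderOf_eq_one, D.h_one]
  · apply orderOf_dvd_of_pow_eq_one
    apply h_inj D
    rw [h_pow D, pow_orderOf_eq_one, D.h_one]

theorem h_mem_normalizer (D : Data m U h n) (a : Kˣ) : h a ∈ normalizer ((P0 D : Subgroup G) : Set G) := by
  have key : ∀ (a : Kˣ), ∀ y ∈ P0 D, h a * y * (h a)⁻¹ ∈ P0 D := by
    rintro a _ ⟨t, u, v, rfl⟩
    rw [D.h_U]
    exact ⟨_, _, _, mul_inv_cancel_right _ _⟩
  rw [mem_normalizer_iff]
  intro y
  refine ⟨key a y, fun hy => ?_⟩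
  have h1 := key a⁻¹ _ hy
  rw [D.h_inv] at h1
  have h2 : (h a)⁻¹ * (h a * y * (h a)⁻¹) * (h a)⁻¹⁻¹ = y := by group
  rwa [h2] at h1

variable [Fintype K]

theorem card_P0 (D : Data m U h n) (hK : Fintype.card K = 3 ^ (2 * m + 1)) :
    Nat.card ↥(P0 D) = 3 ^ (3 * (2 * m + 1)) := by
  have h1 : Nat.card ↥(P0 D) = Nat.card (K × K × K) := by
    symm
    refine Nat.card_congr (Equiv.ofBijective (fun x => (⟨U x.1 x.2.1 x.2.2, ⟨_, _, _, rfl⟩⟩ : ↥(P0 D))) ⟨?_, ?_⟩)
    · rintro ⟨t, u, v⟩ ⟨t', u', v'⟩ he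
      obtain ⟨h1, h2, h3⟩ := U_inj D (congrArg Subtype.val he)
      simp only at h1 h2 h3
      rw [h1, h2, h3]
    · rintro ⟨_, t, u, v, rfl⟩
      exact ⟨(t, u, v), rfl⟩
  rw [h1, Nat.card_prod, Nat.card_prod, Nat.card_eq_fintype_card, hK, ← pow_add, ← pow_add]
  congr 1
  ring

theorem U_cube (D : Data m U h n) (hK : Fintype.card K = 3 ^ (2 * m + 1)) {t u v : K} (hc : U t u v ^ 3 = 1) :
    t = 0 := by
  have hch : CharP K 3 := charP_three hK
  have h3 : (3 : K) = 0 := by exact_mod_cast CharP.cast_eq_zero K 3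
  have hs : (t + t) ^ (3 ^ (m + 1)) = t ^ (3 ^ (m + 1)) + t ^ (3 ^ (m + 1)) := by
    have : Fact (Nat.Prime 3) := ⟨Nat.prime_three⟩
    exact add_pow_char_pow t t 3 (m + 1)
  rw [pow_succ', pow_two, D.U_mul, D.U_mul, ← D.U_zero] at hc
  obtain ⟨-, -, hv⟩ := U_inj D hc
  rw [hs] at hv
  have h4 : t ^ 2 * t ^ (3 ^ (m + 1)) = 0 := by
    linear_combination -hv + (v - u * t + t ^ 2 * t ^ (3 ^ (m + 1))) * h3
  rw [← pow_add] at h4
  exact pow_eq_zero_iff (by positivity) |>.1 h4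

variable [Finite G]

/-- a subgroup of exponent `3` has order at most `q ^ 2` -/
theorem exp_three (D : Data m U h n) (hK : Fintype.card K = 3 ^ (2 * m + 1))
    (hG : (Nat.card G).factorization 3 = 3 * (2 * m + 1)) {R : Subgroup G} (hR : IsPGroup 3 ↥R)
    (hR3 : ∀ x ∈ R, x ^ 3 = 1) : v 3 R ≤ 2 * (2 * m + 1) := by
  have : Fact (Nat.Prime 3) := ⟨Nat.prime_three⟩
  obtain ⟨P, hP⟩ := hR.exists_le_sylow
  let S0 : Sylow 3 G := Sylow.ofCard (P0 D) (by rw [card_P0 D hK, hG])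
  obtain ⟨g, hg⟩ := MulAction.exists_smul_eq G P S0
  have hmap : ∀ x ∈ R, g * x * g⁻¹ ∈ P0 D := by
    intro x hx
    have h1 : MulAut.conj g x ∈ (g • P : Sylow 3 G) := by
      rw [Sylow.smul_def]
      exact smul_mem_pointwise_smul _ _ _ (hP hx)
    rw [hg] at h1
    exact h1
  have hex : ∀ x : R, ∃ y : K × K, g * (x : G) * g⁻¹ = U 0 y.1 y.2 := by
    rintro ⟨x, hx⟩
    obtain ⟨t, u, v, hU⟩ := hmap x hx
    have h1 : U t u v ^ 3 = 1 := by
      rw [← hU, conj_pow, hR3 x hx]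
      group
    have h2 := U_cube D hK h1
    subst h2
    exact ⟨(u, v), hU⟩
  choose φ hφ using hex
  have hinj : Function.Injective φ := by
    intro x y hxy
    have h1 : g * (x : G) * g⁻¹ = g * (y : G) * g⁻¹ := by rw [hφ, hφ, hxy]
    exact Subtype.ext (mul_left_cancel (mul_right_cancel h1))
  have hle := Nat.card_le_card_of_injective φ hinj
  rw [Nat.card_prod, Nat.card_eq_fintype_card (α := K), hK, ← pow_add] at hle
  obtain ⟨k, hk⟩ := IsPGroup.iff_card.1 hR
  rw [hk] at hle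
  have h1 := (Nat.pow_le_pow_iff_right (by norm_num : 1 < 3)).1 hle
  have h2 : v 3 R = k := by
    show (Nat.card ↥R).factorization 3 = k
    rw [hk, Nat.Prime.factorization_pow Nat.prime_three, Finsupp.single_eq_same]
  omega

/-- the element of order `(q - 1) / 2` normalising a Sylow `3`-subgroup -/
theorem exists_d (D : Data m U h n) (hK : Fintype.card K = 3 ^ (2 * m + 1))
    (hG : (Nat.card G).factorization 3 = 3 * (2 * m + 1))
    (hno : ∀ r : ℕ, r.Prime → r ≠ 2 → r ≠ 3 → ∀ z : G, orderOf z ≠ 3 * r) (P : Sylow 3 G) :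
    ∃ d ∈ normalizer ((P : Subgroup G) : Set G), orderOf d = (3 ^ (2 * m + 1) - 1) / 2 ∧
      ∀ i : ℕ, d ^ i ≠ 1 → ∀ y ∈ (P : Subgroup G), d ^ i * y = y * d ^ i → y = 1 := by
  classical
  have hf3 : Fact (Nat.Prime 3) := ⟨Nat.prime_three⟩
  let S0 : Sylow 3 G := Sylow.ofCard (P0 D) (by rw [card_P0 D hK, hG])
  obtain ⟨g, hg⟩ := MulAction.exists_smul_eq G S0 P
  obtain ⟨a0, ha0⟩ := IsCyclic.exists_generator (α := Kˣ)
  have hq8 := three_pow_odd_mod m
  have ha0' : orderOf a0 = 3 ^ (2 * m + 1) - 1 := by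
    rw [orderOf_eq_card_of_forall_mem_zpowers ha0, Nat.card_eq_fintype_card, Fintype.card_units, hK]
  have ha : orderOf (a0 ^ 2) = (3 ^ (2 * m + 1) - 1) / 2 := by
    rw [orderOf_pow_of_dvd (by norm_num) (by rw [ha0']; (clear * - hq8; omega)), ha0']
  have hmapN : ∀ y, y ∈ (P : Subgroup G) ↔ g⁻¹ * y * g ∈ P0 D := by
    intro y
    have h1 : y ∈ (g • S0 : Sylow 3 G) ↔ g⁻¹ * y * g ∈ P0 D := by
      rw [Sylow.smul_def, ← SetLike.mem_coe]
      show y ∈ (MulAut.conj g) • (P0 D) ↔ _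
      rw [mem_pointwise_smul_iff_inv_smul_mem, ← map_inv, MulAut.smul_def, MulAut.conj_apply, inv_inv]
    rw [← h1, hg]
    rfl
  have hN0 := h_mem_normalizer D (a0 ^ 2)
  have hord : orderOf (g * h (a0 ^ 2) * g⁻¹) = (3 ^ (2 * m + 1) - 1) / 2 := by
    rw [← ha, ← orderOf_h D]
    exact MulEquiv.orderOf_eq (MulAut.conj g) _
  refine ⟨g * h (a0 ^ 2) * g⁻¹, ?_, hord, ?_⟩
  · rw [mem_normalizer_iff]
    intro y
    show y ∈ (P : Subgroup G) ↔ g * h (a0 ^ 2) * g⁻¹ * y * (g * h (a0 ^ 2) * g⁻¹)⁻¹ ∈ (P : Subgroup G)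
    rw [hmapN, hmapN, show g⁻¹ * (g * h (a0 ^ 2) * g⁻¹ * y * (g * h (a0 ^ 2) * g⁻¹)⁻¹) * g =
      h (a0 ^ 2) * (g⁻¹ * y * g) * (h (a0 ^ 2))⁻¹ by group]
    exact mem_normalizer_iff.1 hN0 _
  · intro i hi y hy hc
    by_contra hy1
    obtain ⟨r, hr, hrd⟩ := Nat.exists_prime_and_dvd (n := orderOf ((g * h (a0 ^ 2) * g⁻¹) ^ i)) (by
      rw [Ne, orderOf_eq_one_iff]; exact hi)
    have hrq : r ∣ (3 ^ (2 * m + 1) - 1) / 2 := hrd.trans ((orderOf_pow_dvd i).trans (by rw [hord]))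
    have hr2 : r ≠ 2 := by
      rintro rfl
      omega
    have hr3 : r ≠ 3 := by
      rintro rfl
      have h1 : 3 ∣ 3 ^ (2 * m + 1) := dvd_pow_self 3 (by omega)
      (clear * - hK hq8 hrq; omega)
    obtain ⟨j, hj⟩ := hrd
    have hj0 : j ≠ 0 := by
      rintro rfl
      rw [mul_zero] at hj
      exact (orderOf_pos ((g * h (a0 ^ 2) * g⁻¹) ^ i)).ne' hj
    have hz : orderOf (((g * h (a0 ^ 2) * g⁻¹) ^ i) ^ j) = r := by
      rw [orderOf_pow_of_dvd hj0 (by rw [hj]; exact dvd_mul_left _ _), hj, Nat.mul_div_cancel _ (Nat.pos_of_ne_zero hj0)]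
    -- an element of order 3
    obtain ⟨k, hk⟩ := (IsPGroup.iff_orderOf.1 P.isPGroup') ⟨y, hy⟩
    rw [Subgroup.orderOf_mk] at hk
    have hk0 : k ≠ 0 := by
      rintro rfl
      rw [pow_zero, orderOf_eq_one_iff] at hk
      exact hy1 hk
    obtain ⟨k', rfl⟩ := Nat.exists_eq_succ_of_ne_zero hk0
    have hy3 : orderOf (y ^ 3 ^ k') = 3 := by
      rw [orderOf_pow_of_dvd (by positivity) (by rw [hk]; exact pow_dvd_pow _ (Nat.le_succ _)), hk,
        Nat.pow_div (Nat.le_succ _) (by norm_num)]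
      simp
    refine hno r hr hr2 hr3 (y ^ 3 ^ k' * ((g * h (a0 ^ 2) * g⁻¹) ^ i) ^ j) (orderOf_mul_prime hr hy3 hz ?_ ?_)
    · intro h1
      exact hr3 ((Nat.prime_dvd_prime_iff_eq hr Nat.prime_three).1 h1)
    · have h1 : Commute ((g * h (a0 ^ 2) * g⁻¹) ^ i) y := hc
      exact ((h1.pow_left j).pow_right (3 ^ k')).symm.eq

end

end Cfsg.Agent.H874.PD
end

-- part: H874/PD/TwoA
section
/-!
# Rows of S4246: the Suzuki groups and the large Ree groups (helper874)
-/

set_option autoImplicit false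

namespace Cfsg.Agent.H874.PD

open Subgroup Cfsg Cfsg.Lie Cfsg.Agent.H160.PD Cfsg.Agent.H967.CopMat Cfsg.Agent.H967.CopSz
  Cfsg.Agent.H798.RowTw

universe u

theorem good_of_lt {S : Type*} [Group S] [Finite S] {l f : ℕ} (hl : l.Prime) (hl2 : l ≠ 2) (ho : out S = f) (hf : 0 < f)
    (hfl : f < l) (hd : l ∣ Nat.card S) : Good S l where
  prime := hl
  odd := hl2
  lt := by
    rw [ho, Nat.factorization_eq_zero_of_lt hfl]
    exact (v_pos hl).2 hd

/-- **The row of the Suzuki groups.** -/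
theorem row_sz (K : Type u) [Group K] [Finite K] [IsSimpleGroup K] (h : Cfsg.Lie.IsoSuzuki K) :
    Cfsg.Agent.H160.PD.Row K := by
  have h0 := h
  obtain ⟨F, iF, iF', m, hm, hF, ⟨e⟩⟩ := h
  have hs : IsSimpleGroup ↥(Cfsg.Lie.Sz F (2 ^ (m + 1))) := e.symm.isSimpleGroup
  have hcard := (Cfsg.Agent.S1163.result hm hF).1
  have hF' : Nat.card F = 2 ^ (2 * m + 1) := by rw [Nat.card_eq_fintype_card, hF]
  have hsz : Cfsg.Lie.IsoSuzuki ↥(Cfsg.Lie.Sz F (2 ^ (m + 1))) := ⟨F, iF, iF', m, hm, hF, ⟨MulEquiv.refl _⟩⟩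
  obtain ⟨l, hl, hE, hdv, hl2⟩ := Cfsg.Agent.Lib.Zsigmondy.exists_primitive (a := 2) (n := 4 * (2 * m + 1)) le_rfl
    (by omega) (by omega) (by omega)
  have hlle : 4 * (2 * m + 1) ≤ l - 1 := Nat.le_of_dvd (by have := hl.two_le; omega) hdv
  have hldvd : l ∣ (2 ^ (2 * m + 1)) ^ 2 + 1 := by
    have h1 : l ∣ 2 ^ (4 * (2 * m + 1)) - 1 := (hE _).2 dvd_rfl
    have h2 : 2 ^ (4 * (2 * m + 1)) - 1 = (2 ^ (2 * (2 * m + 1)) - 1) * ((2 ^ (2 * m + 1)) ^ 2 + 1) := by
      have h3 : 2 ^ (4 * (2 * m + 1)) = ((2 ^ (2 * m + 1)) ^ 2) ^ 2 := by rw [← pow_mul, ← pow_mul]; ring_nf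
      have h4 : 2 ^ (2 * (2 * m + 1)) = (2 ^ (2 * m + 1)) ^ 2 := by rw [← pow_mul]; ring_nf
      rw [h3, h4]
      exact fac _
    rw [h2] at h1
    rcases hl.dvd_mul.1 h1 with h3 | h3
    · have h4 := (hE _).1 h3
      have := Nat.le_of_dvd (by omega) h4
      omega
    · exact h3
  have hdc : l ∣ Nat.card ↥(Cfsg.Lie.Sz F (2 ^ (m + 1))) := by
    rw [hcard]
    exact hldvd.mul_left _
  have : Fact l.Prime := ⟨hl⟩
  have hna : ¬ IsMulCommutative ↥(Cfsg.Lie.Sz F (2 ^ (m + 1))) := by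
    intro hc
    have h1 : (Nat.card ↥(Cfsg.Lie.Sz F (2 ^ (m + 1)))).Prime := by
      let _ : CommGroup ↥(Cfsg.Lie.Sz F (2 ^ (m + 1))) := { mul_comm := fun a b => hc.is_comm.comm a b }
      exact IsSimpleGroup.prime_card
    have h2 : 2 ∣ Nat.card ↥(Cfsg.Lie.Sz F (2 ^ (m + 1))) := by
      rw [hcard, mul_assoc]
      exact ((dvd_pow_self 2 (by omega)).trans (dvd_pow_self _ two_ne_zero)).mul_right _
    have h3 := (Nat.prime_dvd_prime_iff_eq Nat.prime_two h1).1 h2
    have h4 := (Nat.prime_dvd_prime_iff_eq hl h1).1 hdc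
    omega
  have hE' : ∀ k, l ∣ 2 ^ k - 1 ↔ 4 * (2 * m + 1) ∣ k := hE
  have hout : out ↥(Cfsg.Lie.Sz F (2 ^ (m + 1))) = 2 * m + 1 := S2126.result hm hF
  refine (row_two (S := ↥(Cfsg.Lie.Sz F (2 ^ (m + 1)))) hna (by unfold Cfsg.IsLieTypeChar; (clear * - hsz; tauto)) (by rw [hout]; omega)
    (good_of_lt hl (by omega) hout (by omega) (by omega) hdc) ?_ ?_).congr e
  · intro x hx a ha
    refine inner_of_fixes (stab_sz hF) ?_ ((Units.coeHom _).comp (Subgroup.subtype _)) (fun σ g => rfl) Nat.prime_two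
      hF' ⟨m, rfl⟩ hl (by omega) hE' (by rw [Fintype.card_fin]; norm_num) hx ?_ a ha
    · intro ψ
      obtain ⟨g, σ, h⟩ := Cfsg.Agent.H70.SzAutThm.exists_conj_field hm hF ψ
      exact ⟨g, σ, h⟩
    · intro h
      have h1 : x = 1 := coe_rho_injective _ (by rw [h, map_one])
      rw [h1, orderOf_one] at hx
      exact hl.one_lt.ne hx
  · intro x hx y hy hy2 hxy z hz hyz
    have h1 := SignalizersComponents.BalEndSz.isPGroup_centralizer_suzuki hsz hz
    have h2 : y ∈ centralizer ({z} : Set ↥(Cfsg.Lie.Sz F (2 ^ (m + 1)))) := mem_centralizer_singleton_iff.2 hyz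
    obtain ⟨k, hk⟩ := (IsPGroup.iff_orderOf.1 h1) ⟨y, h2⟩
    rw [Subgroup.orderOf_mk] at hk
    rw [hk] at hy hy2
    have h3 := (Nat.prime_dvd_prime_iff_eq Nat.prime_two hy)
    rcases Nat.eq_zero_or_pos k with h4 | h4
    · subst h4
      exact hy.one_lt.ne rfl
    · exact hy2 (h3.1 (dvd_pow_self _ h4.ne')).symm

end Cfsg.Agent.H874.PD
end

-- part: H874/PD/Ree
section
/-!
# Rows of S4246: the small Ree groups (helper874)
-/

set_option autoImplicit false

namespace Cfsg.Agent.H874.PD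

open Subgroup Cfsg Cfsg.Lie Cfsg.Agent.H160.PD Cfsg.Agent.H568 Cfsg.Agent.H967.CopMat Cfsg.Agent.H967.CopSz
  Cfsg.Agent.H798.RowTw

universe u

theorem prodT {q w : ℕ} (hw : w * w = 3 * q) (hwq : w ≤ q) : (q - w + 1) * (q + w + 1) + q = q ^ 2 + 1 := by
  obtain ⟨k, rfl⟩ := Nat.exists_eq_add_of_le hwq
  have h1 : w + k - w = k := by omega
  rw [h1]
  linarith only [hw]

/-- the arithmetic of the element orders of the small Ree groups -/
structure Ar (q w : ℕ) : Prop where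
  hw : w * w = 3 * q
  hwq : w ≤ q
  h3q : 3 ∣ q
  h3w : 3 ∣ w
  hq2 : q % 8 = 3
  hw2 : w % 2 = 1

theorem ar (m : ℕ) : Ar (3 ^ (2 * m + 1)) (3 ^ (m + 1)) where
  hw := by rw [← pow_add, ← pow_succ']; congr 1; ring
  hwq := Nat.pow_le_pow_right (by norm_num) (by omega)
  h3q := dvd_pow_self 3 (by omega)
  h3w := dvd_pow_self 3 (by omega)
  hq2 := Cfsg.Agent.LieRecognition.ReeAbs.three_pow_odd_mod m
  hw2 := Nat.odd_iff.1 (Odd.pow (by decide))

/-- the list of the element orders -/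
def Od (q w d : ℕ) : Prop := d ∣ 6 ∨ d ∣ 9 ∨ d ∣ q - 1 ∨ d ∣ (q + 1) / 2 ∨ d ∣ q - w + 1 ∨ d ∣ q + w + 1

theorem Ar.not_three {q w : ℕ} (a : Ar q w) {d : ℕ} (hd : 3 ∣ d) : ¬ (d ∣ q - 1) ∧ ¬ (d ∣ (q + 1) / 2) ∧
    ¬ (d ∣ q - w + 1) ∧ ¬ (d ∣ q + w + 1) := by
  have h1 := a.h3q
  have h2 := a.h3w
  have h3 := a.hq2
  have h4 := a.hwq
  refine ⟨fun h => ?_, fun h => ?_, fun h => ?_, fun h => ?_⟩ <;>
  · have h5 := hd.trans h
    (clear * - h1 h3 h5 h2; omega)

theorem Ar.no3r {q w : ℕ} (a : Ar q w) {r : ℕ} (hr : r.Prime) (hr2 : r ≠ 2) (hr3 : r ≠ 3) : ¬ Od q w (3 * r) := by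
  obtain ⟨h1, h2, h3, h4⟩ := a.not_three (d := 3 * r) (dvd_mul_right _ _)
  rintro (h | h | h | h | h | h)
  · have h5 : 3 * r ≤ 6 := Nat.le_of_dvd (by norm_num) h
    have := hr.two_le
    omega
  · have h5 : 3 * r ≤ 9 := Nat.le_of_dvd (by norm_num) h
    have := hr.two_le
    omega
  · exact h1 h
  · exact h2 h
  · exact h3 h
  · exact h4 h

theorem Ar.no9r {q w : ℕ} (a : Ar q w) {r : ℕ} (hr : r.Prime) : ¬ Od q w (9 * r) := by
  obtain ⟨h1, h2, h3, h4⟩ := a.not_three (d := 9 * r) (Dvd.dvd.mul_right (by norm_num) _)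
  have h6 := hr.two_le
  rintro (h | h | h | h | h | h)
  · have h5 : 9 * r ≤ 6 := Nat.le_of_dvd (by norm_num) h
    omega
  · have h5 : 9 * r ≤ 9 := Nat.le_of_dvd (by norm_num) h
    omega
  · exact h1 h
  · exact h2 h
  · exact h3 h
  · exact h4 h

/-- the primes dividing `q ∓ w + 1` -/
theorem Ar.no2t {q w : ℕ} (a : Ar q w) {t : ℕ} (ht : t.Prime) (ht2 : t ≠ 2) (h : t ∣ q - w + 1 ∨ t ∣ q + w + 1) :
    ¬ Od q w (2 * t) := by
  have hp := prodT a.hw a.hwq
  have h1 : t ∣ q ^ 2 + 1 - q := by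
    rw [← hp, Nat.add_sub_cancel]
    rcases h with h | h
    · exact h.mul_right _
    · exact h.mul_left _
  have hq : 3 ≤ q := by have := a.hq2; omega
  have ht3 : t ≠ 3 := by
    rintro rfl
    have h2 := a.not_three (d := 3) dvd_rfl
    rcases h with h | h
    · exact h2.2.2.1 h
    · exact h2.2.2.2 h
  have hodd : ∀ d, 2 ∣ d → ¬ d ∣ q - w + 1 ∧ ¬ d ∣ q + w + 1 := by
    intro d hd
    have h2 := a.hq2
    have h3 := a.hw2
    have h4 := a.hwq
    refine ⟨fun h => ?_, fun h => ?_⟩ <;>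
    · have h5 := hd.trans h
      omega
  rintro (h2 | h2 | h2 | h2 | h2 | h2)
  · have h3 : 2 * t ∣ 2 * 3 := by simpa only [_root_.Nat.reduceMul] using h2
    have h4 : t ∣ 3 := (Nat.mul_dvd_mul_iff_left (by norm_num)).1 h3
    exact ht3 ((Nat.prime_dvd_prime_iff_eq ht Nat.prime_three).1 h4)
  · have h3 : 2 ∣ 9 := (dvd_mul_right 2 t).trans h2
    omega
  · have h3 : t ∣ q - 1 := (dvd_mul_left t 2).trans h2
    obtain ⟨k, rfl⟩ := Nat.exists_eq_add_of_le (show 1 ≤ q by omega)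
    have h4 : t ∣ k := by simpa only [_root_.add_tsub_cancel_left] using h3
    have h5 : (1 + k) ^ 2 + 1 - (1 + k) = k * (k + 1) + 1 := by
      have : (1 + k) ^ 2 + 1 = k * (k + 1) + 1 + (1 + k) := by ring
      rw [this, Nat.add_sub_cancel]
    rw [h5] at h1
    have h6 := (Nat.dvd_add_right (h4.mul_right (k + 1))).1 h1
    exact ht.one_lt.ne' (Nat.dvd_one.1 h6)
  · have h3 : t ∣ q + 1 := by
      have h4 : (q + 1) / 2 ∣ q + 1 := ⟨2, by have := a.hq2; omega⟩
      exact ((dvd_mul_left t 2).trans h2).trans h4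
    have h5 : q ^ 2 + 1 - q + 3 * q = (q + 1) ^ 2 := by
      have h6 : q ≤ q ^ 2 + 1 := by nlinarith only []
      have h7 : q ^ 2 + 1 - q + q = q ^ 2 + 1 := Nat.sub_add_cancel h6
      linarith only [h7]
    have h6 : t ∣ 3 * q := (Nat.dvd_add_right h1).1 (by rw [h5]; exact h3.trans (dvd_pow_self _ (by norm_num)))
    rcases ht.dvd_mul.1 h6 with h7 | h7
    · exact ht3 ((Nat.prime_dvd_prime_iff_eq ht Nat.prime_three).1 h7)
    · have h8 := (Nat.dvd_add_right h7).1 h3
      exact ht.one_lt.ne' (Nat.dvd_one.1 h8)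
  · exact (hodd _ (dvd_mul_right 2 t)).1 h2
  · exact (hodd _ (dvd_mul_right 2 t)).2 h2

/-- `2 v_3(f) < f` -/
theorem two_mul_fac_lt {f : ℕ} (hf : 0 < f) : 2 * f.factorization 3 < f := by
  have h1 : 3 ^ f.factorization 3 ≤ f := Nat.ordProj_le 3 hf.ne'
  have h2 : ∀ k : ℕ, 2 * k < 3 ^ k := by
    intro k
    induction k with
    | zero => norm_num
    | succ k ih => rw [pow_succ]; omega
  exact (h2 _).trans_le h1

end Cfsg.Agent.H874.PD
end

-- part: H874/PD/ReeB
section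
/-!
# Rows of S4246: the small Ree groups, assembly (helper874)
-/

set_option autoImplicit false

namespace Cfsg.Agent.H874.PD

open Subgroup Cfsg Cfsg.Lie Cfsg.Agent.H160.PD Cfsg.Agent.H568 Cfsg.Agent.H967.CopMat Cfsg.Agent.H967.CopSz
  Cfsg.Agent.H798.RowTw

universe u

seal _root_.Finset.sum _root_.dotProduct in
/-- the `3`-part of the centraliser of an element of prime order `≠ 3` -/
theorem ree_cent {F : Type*} [Field F] [Fintype F] {m : ℕ} (hm : 1 ≤ m) (hF : Fintype.card F = 3 ^ (2 * m + 1))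
    (hv : v 3 ↥(twistedG2 F (3 ^ m)) = 3 * (2 * m + 1)) {k : ↥(twistedG2 F (3 ^ m))} (hk : (orderOf k).Prime)
    (hk3 : orderOf k ≠ 3) : v 3 (centralizer {k}) ≤ 2 * (2 * m + 1) := by
  have hf3 : Fact (Nat.Prime 3) := ⟨Nat.prime_three⟩
  obtain ⟨U, h, n, D⟩ := Cfsg.Agent.ChevalleyStructure.Ree.Data.exists_data hF
  let R0 : Sylow 3 ↥(centralizer ({k} : Set ↥(twistedG2 F (3 ^ m)))) := default
  obtain ⟨R, hR⟩ : ∃ R : Subgroup ↥(twistedG2 F (3 ^ m)),
    R = (R0 : Subgroup ↥(centralizer ({k} : Set ↥(twistedG2 F (3 ^ m))))).map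
      (centralizer ({k} : Set ↥(twistedG2 F (3 ^ m)))).subtype := ⟨_, rfl⟩
  have hRc : Nat.card ↥R = 3 ^ v 3 (centralizer ({k} : Set ↥(twistedG2 F (3 ^ m)))) := by
    rw [hR, ← Nat.card_congr ((R0 : Subgroup ↥(centralizer ({k} : Set ↥(twistedG2 F (3 ^ m))))).equivMapOfInjective _
      (subtype_injective _)).toEquiv, R0.card_eq_multiplicity]
  have hRp : IsPGroup 3 ↥R := IsPGroup.of_card hRc
  have hRk : ∀ y ∈ R, y * k = k * y := by
    intro y hy
    rw [hR] at hy
    obtain ⟨z, -, rfl⟩ := hy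
    exact mem_centralizer_singleton_iff.1 z.2
  have h1 := exp_three D hF hv hRp (fun y hy => by
    by_contra hy3
    obtain ⟨i, hi⟩ := (IsPGroup.iff_orderOf.1 hRp) ⟨y, hy⟩
    rw [Subgroup.orderOf_mk] at hi
    have hi2 : 2 ≤ i := by
      by_contra hlt
      apply hy3
      have h2 : i = 0 ∨ i = 1 := by omega
      rw [← orderOf_dvd_iff_pow_eq_one, hi]
      rcases h2 with rfl | rfl
      · norm_num
      · norm_num
    obtain ⟨i', rfl⟩ := Nat.exists_eq_add_of_le hi2
    have hy9 : orderOf (y ^ 3 ^ i') = 9 := by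
      rw [orderOf_pow_of_dvd (by positivity) (by rw [hi]; exact pow_dvd_pow _ (by omega)), hi,
        Nat.pow_div (by omega) (by norm_num), Nat.add_sub_cancel]
    have h2 := orderOf_mul_prime (x := y ^ 3 ^ i') (y := k) hk hy9 rfl (by
      intro h3
      have h4 : orderOf k ∣ 3 ^ 2 := by simpa using h3
      exact hk3 ((Nat.prime_dvd_prime_iff_eq hk Nat.prime_three).1 (hk.dvd_of_dvd_pow h4)))
      ((show Commute y k from hRk y hy).pow_left _).eq
    exact (ar m).no9r hk ((Cfsg.Agent.S1159.result hm hF _).1 ⟨_, h2⟩))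
  have h2 : v 3 R = v 3 (centralizer ({k} : Set ↥(twistedG2 F (3 ^ m)))) := by
    show (Nat.card ↥R).factorization 3 = _
    rw [hRc, Nat.Prime.factorization_pow Nat.prime_three, Finsupp.single_eq_same]
  rwa [h2] at h1

/-- the order of the normaliser of a torus -/
theorem ree_norm {F : Type*} [Field F] [Fintype F] {m : ℕ} (hm : 1 ≤ m) (hF : Fintype.card F = 3 ^ (2 * m + 1))
    {A : Subgroup ↥(twistedG2 F (3 ^ m))} (hA : IsCyclic ↥A) {a b : ℕ} (hab : (a, b) ∈
      ({((3 ^ (2 * m + 1) - 1) / 2, 2 * (3 ^ (2 * m + 1) - 1)), ((3 ^ (2 * m + 1) + 1) / 4, 6 * (3 ^ (2 * m + 1) + 1)),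
        (3 ^ (2 * m + 1) - 3 ^ (m + 1) + 1, 6 * (3 ^ (2 * m + 1) - 3 ^ (m + 1) + 1)),
        (3 ^ (2 * m + 1) + 3 ^ (m + 1) + 1, 6 * (3 ^ (2 * m + 1) + 3 ^ (m + 1) + 1))} : Set (ℕ × ℕ)))
    (hAa : Nat.card ↥A = a) : Nat.card ↥(normalizer (A : Set ↥(twistedG2 F (3 ^ m)))) = b := by
  obtain ⟨B, hB, hBa, hBb, -⟩ := Cfsg.Agent.S1158.result hm hF (a, b) hab
  have hd : a ∣ (3 ^ (2 * m + 1) - 1) / 2 ∨ a ∣ (3 ^ (2 * m + 1) + 1) / 4 ∨ a ∣ 3 ^ (2 * m + 1) - 3 ^ (m + 1) + 1 ∨
      a ∣ 3 ^ (2 * m + 1) + 3 ^ (m + 1) + 1 := by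
    simp only [Set.mem_insert_iff, Set.mem_singleton_iff, Prod.mk.injEq] at hab
    rcases hab with h | h | h | h
    · exact Or.inl (h.1 ▸ dvd_rfl)
    · exact Or.inr (Or.inl (h.1 ▸ dvd_rfl))
    · exact Or.inr (Or.inr (Or.inl (h.1 ▸ dvd_rfl)))
    · exact Or.inr (Or.inr (Or.inr (h.1 ▸ dvd_rfl)))
  obtain ⟨g, hg⟩ := Cfsg.Agent.S2358.result hm hF a hd B A hB hA hBa hAa
  rw [hg, ← map_equiv_normalizer_eq, card_map']
  exact hBb

/-- **The row of the small Ree groups.** -/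
theorem row_ree (K : Type u) [Group K] [Finite K] [IsSimpleGroup K] (h : Cfsg.Lie.IsoRee K) :
    Cfsg.Agent.H160.PD.Row K := by
  obtain ⟨F, iF, iF', m, hm, hF, ⟨e⟩⟩ := h
  have hs : IsSimpleGroup ↥(twistedG2 F (3 ^ m)) := e.symm.isSimpleGroup
  have hS : Cfsg.Lie.IsoRee ↥(twistedG2 F (3 ^ m)) := ⟨F, iF, iF', m, hm, hF, ⟨MulEquiv.refl _⟩⟩
  have hcard := Cfsg.Agent.S1069.result hF
  have hF' : Nat.card F = 3 ^ (2 * m + 1) := by rw [Nat.card_eq_fintype_card, hF]
  have hf3 : Fact (Nat.Prime 3) := ⟨Nat.prime_three⟩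
  obtain ⟨l, hl, hE, hdv, hl3⟩ := Cfsg.Agent.Lib.Zsigmondy.exists_primitive (a := 3) (n := 6 * (2 * m + 1)) (by norm_num)
    (by omega) (by omega) (by omega)
  have hlle : 6 * (2 * m + 1) ≤ l - 1 := Nat.le_of_dvd (by have := hl.two_le; omega) hdv
  have hldvd : l ∣ (3 ^ (2 * m + 1)) ^ 3 + 1 := by
    have h1 : l ∣ 3 ^ (6 * (2 * m + 1)) - 1 := (hE _).2 dvd_rfl
    have h2 : 3 ^ (6 * (2 * m + 1)) - 1 = (3 ^ (3 * (2 * m + 1)) - 1) * ((3 ^ (2 * m + 1)) ^ 3 + 1) := by
      have h3 : 3 ^ (6 * (2 * m + 1)) = ((3 ^ (2 * m + 1)) ^ 3) ^ 2 := by rw [← pow_mul, ← pow_mul]; ring_nf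
      have h4 : 3 ^ (3 * (2 * m + 1)) = (3 ^ (2 * m + 1)) ^ 3 := by rw [← pow_mul]; ring_nf
      rw [h3, h4]
      exact fac _
    rw [h2] at h1
    rcases hl.dvd_mul.1 h1 with h3 | h3
    · have h4 := (hE _).1 h3
      have := Nat.le_of_dvd (by omega) h4
      omega
    · exact h3
  have hdc : l ∣ Nat.card ↥(twistedG2 F (3 ^ m)) := by
    rw [hcard]
    exact hldvd.mul_left _
  have : Fact l.Prime := ⟨hl⟩
  have hna : ¬ IsMulCommutative ↥(twistedG2 F (3 ^ m)) := by
    intro hc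
    have h1 : (Nat.card ↥(twistedG2 F (3 ^ m))).Prime := by
      let _ : CommGroup ↥(twistedG2 F (3 ^ m)) := { mul_comm := fun a b => hc.is_comm.comm a b }
      exact IsSimpleGroup.prime_card
    have h2 : 3 ∣ Nat.card ↥(twistedG2 F (3 ^ m)) := by
      rw [hcard, mul_assoc]
      exact ((dvd_pow_self 3 (by omega)).trans (dvd_pow_self _ (by norm_num))).mul_right _
    have h3 := (Nat.prime_dvd_prime_iff_eq Nat.prime_three h1).1 h2
    have h4 := (Nat.prime_dvd_prime_iff_eq hl h1).1 hdc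
    omega
  have hZ := Cfsg.Agent.H160.PD.center_eq_bot hna
  have hout : out ↥(twistedG2 F (3 ^ m)) = 2 * m + 1 := S2127.result hm hF
  -- element orders
  obtain ⟨q, hq⟩ : ∃ q, q = 3 ^ (2 * m + 1) := ⟨_, rfl⟩
  obtain ⟨w, hw⟩ : ∃ w, w = 3 ^ (m + 1) := ⟨_, rfl⟩
  have har : Ar q w := by rw [hq, hw]; exact ar m
  have hOd : ∀ z : ↥(twistedG2 F (3 ^ m)), Od q w (orderOf z) := by
    intro z
    rw [hq, hw]
    exact (Cfsg.Agent.S1159.result hm hF _).1 ⟨z, rfl⟩
  have hno3 : ∀ r : ℕ, r.Prime → r ≠ 2 → r ≠ 3 → ∀ z : ↥(twistedG2 F (3 ^ m)), orderOf z ≠ 3 * r :=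
    fun r hr hr2 hr3 z hz => har.no3r hr hr2 hr3 (hz ▸ hOd z)
  -- `l` does not divide `q - 1`, `q + 1`
  have hlq1 : ¬ l ∣ q - 1 := by
    intro h1
    rw [hq] at h1
    have h2 := Nat.le_of_dvd (by omega) ((hE _).1 h1)
    omega
  have hlq2 : ¬ l ∣ q + 1 := by
    intro h1
    have h2 : l ∣ 3 ^ (2 * (2 * m + 1)) - 1 := by
      have h3 : 3 ^ (2 * (2 * m + 1)) - 1 = (q - 1) * (q + 1) := by
        have h4 : 3 ^ (2 * (2 * m + 1)) = q ^ 2 := by rw [hq, ← pow_mul]; ring_nf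
        rw [h4]
        exact fac _
      rw [h3]
      exact h1.mul_left _
    have h4 := Nat.le_of_dvd (by omega) ((hE _).1 h2)
    omega
  have hlT : ∀ {d : ℕ}, l ∣ d → Od q w d → d ∣ q - w + 1 ∨ d ∣ q + w + 1 := by
    intro d hd hO
    rcases hO with h | h | h | h | h | h
    · have := Nat.le_of_dvd (by norm_num) (hd.trans h)
      omega
    · have := Nat.le_of_dvd (by norm_num) (hd.trans h)
      omega
    · exact absurd (hd.trans h) hlq1
    · exfalso
      apply hlq2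
      have h4 : (q + 1) / 2 ∣ q + 1 := ⟨2, by have := har.hq2; (clear * - this; omega)⟩
      exact (hd.trans h).trans h4
    · exact Or.inl h
    · exact Or.inr h
  -- the orders
  have hv3 : v 3 ↥(twistedG2 F (3 ^ m)) = 3 * (2 * m + 1) := by
    show (Nat.card ↥(twistedG2 F (3 ^ m))).factorization 3 = _
    have h1 : ¬ 3 ∣ (q - 1) * (q ^ 3 + 1) := by
      rw [Nat.Prime.dvd_mul Nat.prime_three]
      have h2 := har.h3q
      have h3 : 3 ∣ q ^ 3 := h2.trans (dvd_pow_self _ (by norm_num))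
      have h4 := har.hq2
      (clear * - hq h3 h4; omega)
    rw [hcard, mul_assoc, ← hq, Nat.factorization_mul (by rw [hq]; positivity) (by
      intro h2
      rw [h2] at h1
      exact h1 (dvd_zero _)), Finsupp.add_apply, Nat.factorization_eq_zero_of_not_dvd h1, add_zero, hq, ← pow_mul,
      Nat.Prime.factorization_pow Nat.prime_three, Finsupp.single_eq_same, mul_comm]
  have hcen : ∀ {k : ↥(twistedG2 F (3 ^ m))}, (orderOf k).Prime → orderOf k ≠ 3 →
      v 3 (centralizer {k}) ≤ 2 * (2 * m + 1) := fun hk hk3 => ree_cent hm hF hv3 hk hk3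
  have hcen0 : ∀ {k : ↥(twistedG2 F (3 ^ m))}, (orderOf k).Prime → orderOf k ≠ 2 → orderOf k ≠ 3 →
      v 3 (centralizer {k}) = 0 := by
    intro k hk hk2 hk3
    refine v_eq_zero_of_order Nat.prime_three fun y hy hy3 => hno3 _ hk hk2 hk3 (y * k) ?_
    exact orderOf_mul_prime hk hy3 rfl (fun h => hk3 ((Nat.prime_dvd_prime_iff_eq hk Nat.prime_three).1 h))
      (mem_centralizer_singleton_iff.1 hy)
  have hinn : ∀ x : ↥(twistedG2 F (3 ^ m)), orderOf x = l → ∀ a : MulAut ↥(twistedG2 F (3 ^ m)), a x = x →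
      ∃ s, a = MulAut.conj s := by
    intro x hx a ha
    refine inner_of_fixes (stab_g2 _) ?_ ((Units.coeHom _).comp (Subgroup.subtype _)) (fun σ g => rfl) Nat.prime_three
      hF' ⟨m, rfl⟩ hl (by omega) hE ?_ hx ?_ a ha
    · intro ψ
      obtain ⟨g, σ, h⟩ := Cfsg.Agent.H71.FldAut.ree_aut hm hF ψ
      exact ⟨g, σ, h⟩
    · have : Fintype.card chevG2.Idx = 14 := rfl
      omega
    · intro h
      have h1 : x = 1 := coe_rho_injective _ (by rw [h, map_one])
      rw [h1, orderOf_one] at hx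
      exact hl.one_lt.ne hx
  -- elements commuting with an element of order `l`
  have hcomm : ∀ x : ↥(twistedG2 F (3 ^ m)), orderOf x = l → ∀ s : ↥(twistedG2 F (3 ^ m)), (orderOf s).Prime →
      orderOf s ≠ 2 → x * s = s * x → orderOf s ≠ 3 ∧ v 2 (centralizer {s}) = 0 := by
    intro x hx s hs hs2 hxs
    have hT : orderOf s ∣ q - w + 1 ∨ orderOf s ∣ q + w + 1 := by
      by_cases hsl : orderOf s = l
      · rw [hsl]
        exact hlT dvd_rfl (hx ▸ hOd x)
      · have h1 := orderOf_mul_prime hs hx rfl (fun h => hsl ((Nat.prime_dvd_prime_iff_eq hs hl).1 h)) hxs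
        have h2 := hlT (d := l * orderOf s) (dvd_mul_right _ _) (h1 ▸ hOd (x * s))
        exact h2.imp (fun h => (dvd_mul_left _ _).trans h) (fun h => (dvd_mul_left _ _).trans h)
    have hs3 : orderOf s ≠ 3 := by
      intro h3
      have h4 := har.not_three (d := 3) dvd_rfl
      rw [h3] at hT
      rcases hT with h | h
      · exact h4.2.2.1 h
      · exact h4.2.2.2 h
    refine ⟨hs3, v_eq_zero_of_order Nat.prime_two fun y hy hy2 => har.no2t hs hs2 hT ?_⟩
    have h1 := orderOf_mul_prime (x := y) (y := s) hs hy2 rfl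
      (fun h => hs2 ((Nat.prime_dvd_prime_iff_eq hs Nat.prime_two).1 h)) (mem_centralizer_singleton_iff.1 hy)
    exact h1 ▸ hOd (y * s)
  have hfix : ∀ {b : MulAut ↥(twistedG2 F (3 ^ m))}, (orderOf b).Prime → orderOf b ≠ 2 →
      ∀ x : ↥(twistedG2 F (3 ^ m)), orderOf x = l → b x = x → v 3 (Fx b) = 0 ∧ v 2 (Fx b) = 0 := by
    intro b hb hb2 x hx hbx
    obtain ⟨s, rfl⟩ := hinn x hx b hbx
    rw [orderOf_conj' hZ] at hb hb2
    rw [MulAut.conj_apply, mul_inv_eq_iff_eq_mul] at hbx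
    obtain ⟨h1, h2⟩ := hcomm x hx s hb hb2 hbx.symm
    rw [Fx_conj]
    exact ⟨hcen0 hb hb2 h1, h2⟩
  have hv2 : 0 < v 2 ↥(twistedG2 F (3 ^ m)) := by
    rw [v_pos Nat.prime_two, hcard, ← hq]
    have h1 : 2 ∣ q - 1 := by have := har.hq2; (clear * - this; omega)
    exact (h1.mul_left _).mul_right _
  have hfac := two_mul_fac_lt (f := 2 * m + 1) (by omega)
  have hfac2 : (2 * m + 1).factorization 2 = 0 := Nat.factorization_eq_zero_of_not_dvd (by omega)
  refine (One.row (S := ↥(twistedG2 F (3 ^ m))) (p := 3) (r := l) (c := 0) (e := 0) (m := 1) hZ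
    ⟨Nat.prime_three, good_of_lt hl (by omega) hout (by omega) (by omega) hdc, ?_, ?_, ?_, ?_, ?_, ?_, ?_⟩).congr e
  · intro x hx
    exact (hcen0 (hx ▸ hl) (by omega) (by omega)).le
  · intro b hb hb2 _ x hx hbx
    exact (hfix hb hb2 x hx hbx).1.le
  · intro b hb _ hb3
    have hlt := v_Fx_lt Nat.prime_three (by unfold Cfsg.IsLieTypeChar; (clear * - hS; tauto)) hb hb3
    obtain ⟨U, h, n, D⟩ := Cfsg.Agent.ChevalleyStructure.Ree.Data.exists_data hF
    have h1 := two_mul_v_le (p := 3) (c := 2 * (2 * m + 1)) (e := (3 ^ (2 * m + 1) - 1) / 2) hZ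
      (Cfsg.Agent.S1155.result hm hF) (exists_d D hF hv3 hno3) (by
        have h2 : 3 ^ 3 ≤ 3 ^ (2 * m + 1) := Nat.pow_le_pow_right (by norm_num) (by omega)
        omega) (fun k hk hk3 => hcen hk hk3) (fun x hx hd => by
        obtain ⟨k, rfl⟩ := dvd_of_dvd_three hd (by omega)
        rw [hv3] at hx ⊢
        have h2 : k < 3 := by
          rw [mul_comm 3] at hx
          exact lt_of_mul_lt_mul_left hx (Nat.zero_le _)
        have h3 : (2 * m + 1) * k ≤ (2 * m + 1) * 2 := Nat.mul_le_mul_left _ (by omega)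
        omega) hb hb3 hlt
    rw [hout, hv3]
    rw [hv3] at h1
    omega
  · intro _ H hH hlH
    have hsol : Group.IsSolvable ↥H := Cfsg.Agent.S0205.result hH
    obtain ⟨A, hHA, hA⟩ := Cfsg.Agent.S2361.result hm hF H hsol
    obtain ⟨x, hxH, hx⟩ := Cfg.exists_mem hl hlH
    rcases hA with ⟨P, rfl⟩ | ⟨P, rfl⟩ | ⟨hAc, hA⟩
    · exfalso
      have h1 := (Cfsg.Agent.S1157.result hm hF P).2
      have h2 := hlH.trans (card_dvd_of_le hHA)
      rw [h1] at h2
      have h3 : l ∣ 2 ^ 3 * (3 * 7) := h2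
      rcases hl.dvd_mul.1 h3 with h4 | h4
      · have := Nat.le_of_dvd (by norm_num) (hl.dvd_of_dvd_pow h4)
        omega
      · rcases hl.dvd_mul.1 h4 with h5 | h5
        · have := Nat.le_of_dvd (by norm_num) h5
          omega
        · have := Nat.le_of_dvd (by norm_num) h5
          omega
    · exfalso
      have hNN : NoNorm 3 x := by
        refine noNorm_of_order hl hx ?_ ?_
        · intro y hy hc
          refine hno3 l hl (by omega) (by omega) (y * x) ?_
          exact orderOf_mul_prime hl hy hx (fun h => by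
            have := Nat.le_of_dvd (by norm_num) h
            omega) hc.symm
        · intro k hk hdk hlk
          have h1 := (Nat.prime_three.pow_dvd_iff_le_factorization Nat.card_pos.ne').1 hdk
          have h2 : k ≤ 3 * (2 * m + 1) := h1.trans hv3.le
          have h4 := Nat.le_of_dvd (Nat.pos_of_ne_zero hk) ((hE k).1 hlk)
          omega
      have h1 := hNN _ P.isPGroup' (hHA hxH)
      have h2 := P.card_eq_multiplicity
      rw [h1, card_bot] at h2
      have h3 : (Nat.card ↥(twistedG2 F (3 ^ m))).factorization 3 = 3 * (2 * m + 1) := hv3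
      rw [h3] at h2
      have h4 := Nat.one_lt_pow (show 3 * (2 * m + 1) ≠ 0 by omega) (by norm_num : 1 < 3)
      omega
    · have hle : v 3 H ≤ v 3 (normalizer (A : Set ↥(twistedG2 F (3 ^ m)))) := v_mono hHA 3
      have hlN := hlH.trans (card_dvd_of_le hHA)
      refine hle.trans ?_
      have key : ∀ a, ¬ 3 ∣ a → a ≠ 0 → Nat.card ↥(normalizer (A : Set ↥(twistedG2 F (3 ^ m)))) = 6 * a →
          v 3 (normalizer (A : Set ↥(twistedG2 F (3 ^ m)))) ≤ 1 := by
        intro a ha ha0 hc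
        show (Nat.card ↥(normalizer (A : Set ↥(twistedG2 F (3 ^ m))))).factorization 3 ≤ 1
        by_contra hlt
        have h1 : 3 ^ 2 ∣ 6 * a := by
          rw [← hc]
          exact (Nat.prime_three.pow_dvd_iff_le_factorization Nat.card_pos.ne').2 (by omega)
        omega
      have h3 := har.not_three (d := 3) dvd_rfl
      rcases hA with hA | hA | hA | hA
      · exfalso
        rw [ree_norm hm hF hAc (b := 2 * (3 ^ (2 * m + 1) - 1)) (by simp only [_root_.Set.mem_insert_iff, _root_.Prod.mk.injEq, _root_.Set.mem_singleton_iff, _root_.true_or]) hA, ← hq] at hlN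
        rcases hl.dvd_mul.1 hlN with h4 | h4
        · have := Nat.le_of_dvd (by norm_num) h4
          (clear * - hlle this; omega)
        · exact hlq1 h4
      · exfalso
        rw [ree_norm hm hF hAc (b := 6 * (3 ^ (2 * m + 1) + 1)) (by simp only [_root_.Set.mem_insert_iff, _root_.Prod.mk.injEq, _root_.mul_eq_mul_left_iff, _root_.Nat.add_right_cancel_iff, _root_.OfNat.ofNat_ne_zero, _root_.or_false, _root_.Set.mem_singleton_iff, _root_.Nat.left_eq_add, _root_.Nat.pow_eq_zero, _root_.ne_eq, _root_.Nat.add_eq_zero_iff, _root_.one_ne_zero, _root_.and_false, _root_.not_false_eq_true, _root_.and_true, _root_.or_self, _root_.true_or, _root_.or_true]) hA, ← hq] at hlN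
        rcases hl.dvd_mul.1 hlN with h4 | h4
        · have := Nat.le_of_dvd (by norm_num) h4
          (clear * - hlle this; omega)
        · exact hlq2 h4
      · refine key _ h3.2.2.1 (by omega) ?_
        rw [hq, hw]
        exact ree_norm hm hF hAc (by simp only [_root_.Set.mem_insert_iff, _root_.Prod.mk.injEq, _root_.mul_eq_mul_left_iff, _root_.Nat.add_right_cancel_iff, _root_.OfNat.ofNat_ne_zero, _root_.or_false, _root_.Set.mem_singleton_iff, _root_.and_self, _root_.true_or, _root_.or_true]) hA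
      · refine key _ h3.2.2.2 (by (clear * -; omega)) ?_
        rw [hq, hw]
        exact ree_norm hm hF hAc (by simp only [_root_.Set.mem_insert_iff, _root_.Prod.mk.injEq, _root_.mul_eq_mul_left_iff, _root_.Nat.add_right_cancel_iff, _root_.Nat.add_eq_left, _root_.Nat.pow_eq_zero, _root_.OfNat.ofNat_ne_zero, _root_.ne_eq, _root_.Nat.add_eq_zero_iff, _root_.one_ne_zero, _root_.and_false, _root_.not_false_eq_true, _root_.and_true, _root_.or_self, _root_.or_false, _root_.and_self, _root_.Set.mem_singleton_iff, _root_.or_true]) hA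
  · intro _ s hs
    have h1 := hcen (k := s) (by rw [hs]; exact Nat.prime_two) (by rw [hs]; norm_num)
    rw [hout, hv3]
    have h2 : max 1 0 = 1 := rfl
    omega
  · intro _ x hx
    have h1 := (hcomm x hx x (hx ▸ hl) (by (clear * - hlle hx; omega)) rfl).2
    rw [h1, hout, hfac2]
    exact hv2
  · intro _ b hb hb2 x hx hbx
    rw [(hfix hb hb2 x hx hbx).2, hout, hfac2]
    exact hv2

end Cfsg.Agent.H874.PD
end

private theorem dce_18f197c205f9 : _root_.True := by
  try have : _root_.True := by simp only [_root_.Cfsg.Agent.H5.PD.cyc.eq_1]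
  exact _root_.True.intro
end

-- part: H160/PD/AsmExc
section
prune_inst 0x61001440008200000004058211203c87460005b00028000148050a440680292000822160a48010074a0a020100010028111000f0420000000a00040000010120888814043100a004840097800084000000000000000000000000000000000004000000002
set_option linter.all false
open scoped Cfsg.Agent.FastGrp

-- part: H742/PD/Rank
section
/-!
# Ranks of the torus elements of order three in `E₆` (helper742)

* `rank_TT` : the rank of `t - 1`, `t` in the torus of `D.group k`, is the number of the roots `y` with `cX t y ≠ 1`;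
* `rank_nine`, `rank_twelve`, `rank_eight` : the ranks `54`, `48`, `32` of the elements `t` with
  `cX t y = ω ^ Gq B q y`, `ω` a primitive third root of unity, `q ≡ 1 (mod 3)`.
-/

set_option autoImplicit false
set_option linter.unusedSectionVars false

namespace Cfsg.Agent.H742.PD

open CoxeterSystem Cfsg Cfsg.Lie Cfsg.Lie.ChevalleyDatum
open Cfsg.Agent.ChevalleyStructure Cfsg.Agent.ChevalleyStructure.Elts Cfsg.Agent.ChevalleyStructure.CoxeterGeom
  Cfsg.Agent.ChevalleyStructure.CoxeterGeomTypes Cfsg.Agent.ChevalleyStructure.NPerm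
open Cfsg.Agent.Tits.Roots Cfsg.Agent.Tits.Core Cfsg.Agent.Nodes Cfsg.Agent.Nodes.Reps Cfsg.Agent.Nodes.BNOf
  Cfsg.Agent.Nodes.RGDChev
open Cfsg.Agent.KFacts.RgdChevCoord Cfsg.Agent.GpExc.Field Cfsg.Agent.BpExc.Fr Cfsg.Agent.BpExc.LangFr
  Cfsg.Agent.BpExc.TowChev Cfsg.Agent.BpExc
open Cfsg.Agent.H129 Cfsg.Agent.H129.TorusChar Cfsg.Agent.H129.TorusCent Cfsg.Agent.H129.TorusTw
  Cfsg.Agent.H129.TorusMain Cfsg.Agent.H129.TorusUntw Cfsg.Agent.H568.ESixThree

universe u

section Rank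

variable {D : ChevalleyDatum} {l : ℕ} {M : CoxeterMatrix (Fin l)} (hp : IsType D l M) {k : Type u} [Field k]

/-- the rank of `g - 1` -/
noncomputable def rk {k : Type u} [Field k] {D : ChevalleyDatum} (g : ↥(D.group k)) : ℕ :=
  (((g : GL D.Idx k) : Matrix D.Idx D.Idx k) - 1).rank

theorem rk_conj (g h : ↥(D.group k)) : rk (g⁻¹ * h * g) = rk h := by
  unfold rk
  have e1 : (((g⁻¹ * h * g : ↥(D.group k)) : GL D.Idx k) : Matrix D.Idx D.Idx k) - 1 =
      (((g⁻¹ : ↥(D.group k)) : GL D.Idx k) : Matrix D.Idx D.Idx k) *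
        (((h : GL D.Idx k) : Matrix D.Idx D.Idx k) - 1) * ((g : GL D.Idx k) : Matrix D.Idx D.Idx k) := by
    have h1 : (((g⁻¹ : ↥(D.group k)) : GL D.Idx k) : Matrix D.Idx D.Idx k) *
        ((g : GL D.Idx k) : Matrix D.Idx D.Idx k) = 1 := by
      rw [Subgroup.coe_inv, ← Units.val_mul, inv_mul_cancel, Units.val_one]
    rw [Subgroup.coe_mul, Subgroup.coe_mul, Units.val_mul, Units.val_mul, mul_sub, sub_mul, mul_one, h1]
  rw [e1]
  have hu : ∀ x : ↥(D.group k), IsUnit (((x : GL D.Idx k) : Matrix D.Idx D.Idx k)).det := fun x =>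
    (Matrix.isUnit_iff_isUnit_det _).1 (Units.isUnit _)
  rw [Matrix.rank_mul_eq_left_of_isUnit_det _ _ (hu g), Matrix.rank_mul_eq_right_of_isUnit_det _ _ (hu g⁻¹)]

open Classical in
/-- The rank of `t - 1` for an element of the torus. -/
theorem rank_TT {t : ↥(D.group k)} (ht : t ∈ TT D k) :
    rk t = (Finset.univ.filter fun s : Fin D.nroots => cX hp t (vec D l s) ≠ 1).card := by
  have ht' := ht
  rw [Subgroup.mem_subgroupOf] at ht
  obtain ⟨c, hc, e, hact⟩ := Tor.exists_c hp ht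
  have key : ∀ s, s < D.nroots → ch hp (vec D l s) t = ∏ i ∈ Finset.range D.rank, c i ^ D.cartan i s := by
    intro s hs
    apply ch_eq hp hs ht'
    apply Subtype.ext
    rw [Subgroup.coe_mul, Subgroup.coe_mul, Subgroup.coe_inv, coe_xc hp hs, coe_xc hp hs, hact s hs, mul_one]
  unfold rk
  rw [e, ← Matrix.diagonal_one, Matrix.diagonal_sub, Matrix.rank_diagonal, Fintype.card_subtype]
  symm
  refine Finset.card_bij (fun s _ => Sum.inr s) ?_ ?_ ?_
  · intro s hs
    rw [Finset.mem_filter] at hs ⊢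
    refine ⟨Finset.mem_univ _, ?_⟩
    simp only [Sum.elim_inr]
    rw [sub_ne_zero, ← key s s.2, ← cX_vec hp ht' s.2]
    exact hs.2
  · intro a _ b _ h
    exact Sum.inr_injective h
  · rintro (i | s) hs
    · exfalso
      rw [Finset.mem_filter] at hs
      simp only [Sum.elim_inl, sub_self, ne_eq, not_true_eq_false, and_false] at hs
    · rw [Finset.mem_filter] at hs
      simp only [Sum.elim_inr] at hs
      refine ⟨s, ?_, rfl⟩
      rw [Finset.mem_filter]
      refine ⟨Finset.mem_univ _, ?_⟩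
      rw [cX_vec hp ht' s.2, key s s.2]
      exact sub_ne_zero.1 hs.2

end Rank

/-- the powers of a primitive third root of unity -/
theorem zpow_eq_one_iff {k : Type u} [Field k] {ω : k} (hω : ω ^ 3 = 1) (hω1 : ω ≠ 1) (g : ℤ) :
    ω ^ g = 1 ↔ g % 3 = 0 := by
  have h3 : (3 : ℤ) ∣ g - g % 3 := Int.dvd_self_sub_emod
  rw [zpow_mod hω h3]
  have h4 := Int.emod_nonneg g (by norm_num : (3 : ℤ) ≠ 0)
  have h5 := Int.emod_lt_of_pos g (by norm_num : (0 : ℤ) < 3)
  have h6 : g % 3 = 0 ∨ g % 3 = 1 ∨ g % 3 = 2 := by (clear * -; omega)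
  rcases h6 with h | h | h
  · rw [h]; simp
  · rw [h]
    constructor
    · intro h7
      exact absurd (by simpa using h7) hω1
    · intro h7
      norm_num at h7
  · rw [h]
    constructor
    · intro h7
      exfalso
      have h8 : ω ^ 2 = 1 := by exact_mod_cast h7
      apply hω1
      have h9 : ω ^ 3 = ω ^ 2 * ω := by ring
      rw [hω, h8, one_mul] at h9
      exact h9.symm
    · intro h7
      norm_num at h7

/-- The rank in terms of the weights modulo `3`. -/
theorem rank_mod {D : ChevalleyDatum} {l : ℕ} {M : CoxeterMatrix (Fin l)} (hp : IsType D l M) {k : Type u} [Field k]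
    {t : ↥(D.group k)} (ht : t ∈ TT D k) {ω : k} (hω : ω ^ 3 = 1) (hω1 : ω ≠ 1) {q : ℤ} (hq : (3 : ℤ) ∣ q - 1)
    {B : Fin l → Fin l → ℤ} (h : ∀ y, cX hp t y = ω ^ Gq B q y) {a : ℕ}
    (ha : (Finset.univ.filter fun s : Fin D.nroots => ¬ Gq B 1 (vec D l s) % 3 = 0).card = a) : rk t = a := by
  classical
  rw [rank_TT hp ht, ← ha]
  congr 1
  ext s
  simp only [Finset.mem_filter, Finset.mem_univ, true_and]
  rw [h, Ne, zpow_mod hω (gq_mod _ hq _), zpow_eq_one_iff hω hω1]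

section Six

variable {k : Type u} [Field k] {M : CoxeterMatrix (Fin 6)} (hp : IsType chevE6 6 M) {t : ↥(chevE6.group k)}
  (ht : t ∈ TT chevE6 k) {ω : k} (hω : ω ^ 3 = 1) (hω1 : ω ≠ 1) {q : ℤ} (hq : (3 : ℤ) ∣ q - 1)

include ht hω hω1 hq

set_option maxRecDepth 10000 in
theorem rank_nine (h : ∀ y, cX hp t y = ω ^ Gq H719.TE6_9.B q y) : rk t = 54 :=
  rank_mod hp ht hω hω1 hq h (by decide +kernel)

set_option maxRecDepth 10000 in
theorem rank_twelve (h : ∀ y, cX hp t y = ω ^ Gq H719.TE6_12.B q y) : rk t = 48 :=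
  rank_mod hp ht hω hω1 hq h (by decide +kernel)

set_option maxRecDepth 10000 in
theorem rank_eight (h : ∀ y, cX hp t y = ω ^ Gq H129.DataE6e.B q y) : rk t = 32 :=
  rank_mod hp ht hω hω1 hq h (by decide +kernel)

end Six

end Cfsg.Agent.H742.PD
end

-- part: H742/PD/BigTools
section
/-!
# S4246: big primes (helper742)

* `noOdd_of_big` : two big primes (`H56.Exc.Big`) of different classes satisfy `NoOdd`;
* `good_of` : a big prime not dividing `|Out S|` is good.
-/

set_option autoImplicit false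

namespace Cfsg.Agent.H742.PD

open Subgroup Cfsg.Agent.H160.PD Cfsg.Agent.H56.Exc

variable {S : Type*} [Group S] [Finite S]

/-- **Two big primes of different classes.** -/
theorem noOdd_of_big {r s m e m' e' : ℕ} (h : Big S r m e) (h' : Big S s m' e') (hs : ¬ s ∣ m * e)
    (hr : ¬ r ∣ m' * e') : NoOdd S r s := by
  intro H hodd hrH hsH
  have hsol : Group.IsSolvable H := Cfsg.Agent.S0205.result hodd
  have hF : Fam H (fun a b c => (a = r ∧ b = m ∧ c = e) ∨ (a = s ∧ b = m' ∧ c = e')) := by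
    refine ⟨?_, ?_, ?_⟩
    · rintro _ _ _ (⟨rfl, rfl, rfl⟩ | ⟨rfl, rfl, rfl⟩)
      · exact h.subgroup H
      · exact h'.subgroup H
    · rintro _ _ _ (⟨rfl, rfl, rfl⟩ | ⟨rfl, rfl, rfl⟩)
      · exact hrH
      · exact hsH
    · rintro _ _ _ (⟨rfl, rfl, rfl⟩ | ⟨rfl, rfl, rfl⟩)
      · exact ⟨s, _, _, Or.inr ⟨rfl, rfl, rfl⟩, hs⟩
      · exact ⟨r, _, _, Or.inl ⟨rfl, rfl, rfl⟩, hr⟩
  exact hF.not_isSolvable (Or.inl ⟨rfl, rfl, rfl⟩) hsol

theorem good_of {r : ℕ} (hr : r.Prime) (h2 : r ≠ 2) (hd : r ∣ Nat.card S) (hout : ¬ r ∣ out S) : Good S r := by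
  refine ⟨hr, h2, ?_⟩
  rw [Nat.factorization_eq_zero_of_not_dvd hout]
  exact (v_pos hr).2 hd

/-- A prime with the order `i` does not divide a divisor of `(q ^ a - 1) (q ^ b - 1)`. -/
theorem ndvd_of_prim {q i n m κ a b : ℕ} (h : H436.Prim q i n) (hq : 1 ≤ q)
    (hd : (m : ℤ) ∣ ((q : ℤ) ^ a - 1) * ((q : ℤ) ^ b - 1)) (ha : ¬ i ∣ a) (hb : ¬ i ∣ b) (hκ : ¬ n ∣ κ) :
    ¬ n ∣ m * κ := by
  intro h1
  rcases h.prime.dvd_mul.1 h1 with h2 | h2
  · have h3 : ((n : ℕ) : ℤ) ∣ ((q : ℤ) ^ a - 1) * ((q : ℤ) ^ b - 1) := (Int.natCast_dvd_natCast.2 h2).trans hd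
    have e : ∀ k : ℕ, (q : ℤ) ^ k - 1 = ((q ^ k - 1 : ℕ) : ℤ) := fun k => by
      rw [Nat.cast_sub (Nat.one_le_pow _ _ hq)]; push_cast; ring
    rw [e, e, ← Nat.cast_mul, Int.natCast_dvd_natCast] at h3
    rcases h.prime.dvd_mul.1 h3 with h4 | h4
    · exact h.not_dvd_sub ha h4
    · exact h.not_dvd_sub hb h4
  · exact hκ h2

end Cfsg.Agent.H742.PD
end

-- part: H742/PD/RowE6
section
/-!
# S4246: the row of `E₆(q)` (helper742)

`row_e6` : `Row K` if `IsoChevE6 K`; the criterion `row_three` with primitive prime divisors of `q⁹ - 1`, `q¹² - 1`,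
`q⁸ - 1`.
-/

set_option autoImplicit false
set_option linter.unusedSectionVars false

namespace Cfsg.Agent.H742.PD

open CoxeterSystem Cfsg Cfsg.Lie Cfsg.Lie.ChevalleyDatum
open Cfsg.Agent.ChevalleyStructure Cfsg.Agent.ChevalleyStructure.Elts Cfsg.Agent.ChevalleyStructure.CoxeterGeom
  Cfsg.Agent.ChevalleyStructure.CoxeterGeomTypes Cfsg.Agent.ChevalleyStructure.NPerm
open Cfsg.Agent.Tits.Roots Cfsg.Agent.Tits.Core Cfsg.Agent.Nodes Cfsg.Agent.Nodes.Reps Cfsg.Agent.Nodes.BNOf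
  Cfsg.Agent.Nodes.RGDChev
open Cfsg.Agent.KFacts.RgdChevCoord Cfsg.Agent.GpExc.Field Cfsg.Agent.BpExc.Fr Cfsg.Agent.BpExc.LangFr
  Cfsg.Agent.BpExc.TowChev Cfsg.Agent.BpExc
open Cfsg.Agent.H129.TorusChar Cfsg.Agent.H129.TorusCent Cfsg.Agent.H129.TorusTw Cfsg.Agent.H129.TorusMain
  Cfsg.Agent.H129.TorusUntw Cfsg.Agent.H719.RowTorus Cfsg.Agent.H719 Cfsg.Agent.H568 Cfsg.Agent.H568.ESixThree
open Cfsg.Agent.H160.PD Cfsg.Agent.H56.Exc

universe u

/-! ### numbers -/

section Arith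

variable {K : Type*} [Field K] {x : K}

theorem arith_nine_twelve (h9 : x ^ 6 + x ^ 3 + 1 = 0) (h12 : (x ^ 4 - x ^ 2 + 1) * (x ^ 2 + x + 1) = 0) :
    (3 : K) = 0 := by
  rcases mul_eq_zero.1 h12 with h | h
  · exfalso
    have h6 : x ^ 6 = -1 := by linear_combination (x ^ 2 + 1) * h
    have h3 : x ^ 3 = 0 := by linear_combination h9 - h6
    have hx : x = 0 := pow_eq_zero_iff (by norm_num) |>.1 h3
    rw [hx] at h9
    norm_num at h9
  · linear_combination h9 - (x - 1) * (x ^ 3 + 2) * h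

theorem arith_nine_eight (h2 : (2 : K) ≠ 0) (h9 : x ^ 6 + x ^ 3 + 1 = 0) (h8 : (1 + x ^ 4) * (x ^ 2 - 1) = 0) :
    (3 : K) = 0 := by
  have h : x ^ 9 = 1 := by linear_combination (x ^ 3 - 1) * h9
  rcases mul_eq_zero.1 h8 with h1 | h1
  · exfalso
    have hx : x = 1 := by linear_combination h - (x ^ 4 - 1) * x * h1
    rw [hx] at h1
    apply h2
    linear_combination h1
  · have hx : x = 1 := by linear_combination h - (x ^ 6 + x ^ 4 + x ^ 2 + 1) * x * h1
    rw [hx] at h9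
    linear_combination h9

theorem arith_twelve_eight (h12 : (x ^ 4 - x ^ 2 + 1) * (x ^ 2 + x + 1) = 0) (h8 : (1 + x ^ 4) * (x ^ 2 - 1) = 0) :
    (3 : K) = 0 := by
  rcases mul_eq_zero.1 h12 with h | h <;> rcases mul_eq_zero.1 h8 with h1 | h1
  · exfalso
    have hx : x ^ 2 = 0 := by linear_combination h1 - h
    have h4 : x ^ 4 = 0 := by linear_combination x ^ 2 * hx
    rw [hx, h4] at h
    norm_num at h
  · exfalso
    have h0 : (1 : K) = 0 := by linear_combination h - x ^ 2 * h1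
    exact one_ne_zero h0
  · exfalso
    have h3 : x ^ 3 = 1 := by linear_combination (x - 1) * h
    have hx : x = -1 := by linear_combination h1 - x * h3
    rw [hx] at h
    norm_num at h
  · have hx : x = -2 := by linear_combination h - h1
    rw [hx] at h1
    linear_combination h1

end Arith

theorem three_of_zmod {l : ℕ} (hl : l.Prime) (h : ((3 : ZMod l)) = 0) : l = 3 := by
  have h1 : ((3 : ℕ) : ZMod l) = 0 := by exact_mod_cast h
  rw [ZMod.natCast_eq_zero_iff] at h1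
  exact (Nat.prime_dvd_prime_iff_eq hl Nat.prime_three).1 h1

/-- `3 ∣ q - 1` if `3` divides the orders. -/
theorem three_dvd_of {q : ℕ} (hq : 1 ≤ q) (h : (((q : ZMod 3)) ^ 6 + (q : ZMod 3) ^ 3 + 1 = 0) ∨
    (((q : ZMod 3) ^ 4 - (q : ZMod 3) ^ 2 + 1) * ((q : ZMod 3) ^ 2 + (q : ZMod 3) + 1) = 0)) : 3 ∣ q - 1 := by
  have h1 : (q : ZMod 3) = 1 := by
    generalize (q : ZMod 3) = x at h
    revert h; revert x; decide
  have h2 : ((q - 1 : ℕ) : ZMod 3) = 0 := by
    rw [Nat.cast_sub hq, h1, Nat.cast_one, sub_self]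
  exact (ZMod.natCast_eq_zero_iff _ _).1 h2

/-! ### the classes -/

section Cls

variable {F : Type u} [Field F] [Fintype F]

/-- the type of `E₆` -/
abbrev tp : IsType chevE6 6 CoxeterMatrix.E₆ := by simp

/-- **A class of tori of `E₆(r ^ e)`.** -/
structure Cls (F : Type u) [Field F] [Fintype F] (r e : ℕ) [Fact r.Prime] [CharP (AlgebraicClosure F) r]
    [Finite CoxeterMatrix.E₆.Group] (hk : LocFin (AlgebraicClosure F)) (B : Fin 6 → Fin 6 → ℤ) (N n ρ h : ℕ) : Prop where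
  prime : n.Prime
  ne : n ≠ r
  cop : n.Coprime 3
  ord : ∀ m, n ∣ r ^ m - 1 → e * h ∣ m
  cyc : ∀ P : Sylow n ↥(chevE6.group F), IsCyclic ↥(P : Subgroup ↥(chevE6.group F))
  rank : ∀ t : ↥(chevE6.group (AlgebraicClosure F)), t ∈ TT chevE6 (AlgebraicClosure F) →
    ∀ ω : AlgebraicClosure F, ω ^ 3 = 1 → ω ≠ 1 → (3 : ℤ) ∣ ((r ^ e : ℕ) : ℤ) - 1 →
    (∀ y, cX tp t y = ω ^ Gq B ((r ^ e : ℕ) : ℤ) y) → rk t = ρ
  pos : N ≠ 0
  tor : ∃ (w : CoxeterMatrix.E₆.Group) (a z t : ↥(chevE6.group (AlgebraicClosure F))) (u : AlgebraicClosure F)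
    (x : ↥(chevE6.group F)), Tor tp CoxeterMatrix.E₆.toCoxeterSystem (algebraMap F (AlgebraicClosure F)) r e
      (hN := nsys_of_locFin tp CoxeterMatrix.E₆.toCoxeterSystem hk r) w B N n a z t u x

variable {r e : ℕ} [Fact r.Prime] [CharP (AlgebraicClosure F) r] [Finite CoxeterMatrix.E₆.Group]
  {hk : LocFin (AlgebraicClosure F)}

/-- A linear automorphism fixing an element of order `n` is conjugate to an element of the torus. -/
theorem Cls.exists_conj {B : Fin 6 → Fin 6 → ℤ} {N n ρ h : ℕ} (C : Cls F r e hk B N n ρ h)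
    (hq : Fintype.card F = r ^ e) {b : MulAut ↥(chevE6.group F)} {Mt : ↥(chevE6.group (AlgebraicClosure F))}
    (hφ : phi chevE6 (AlgebraicClosure F) r e Mt = Mt)
    (hform : ∀ y : ↥(chevE6.group F), emb (tp).inList (algebraMap F (AlgebraicClosure F)) (b y) =
      Mt * emb (tp).inList (algebraMap F (AlgebraicClosure F)) y * Mt⁻¹)
    {y : ↥(chevE6.group F)} (hy : orderOf y = n) (hby : b y = y) {l : ℕ} (hl : l.Prime) (hMl : Mt ^ l = 1) (hM1 : Mt ≠ 1) :
    l ∣ N ∧ (l = 3 → (3 : ℤ) ∣ ((r ^ e : ℕ) : ℤ) - 1 → rk Mt = ρ) := by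
  obtain ⟨w, a, z, t, u, x, hT⟩ := C.tor
  have hfact : Fact n.Prime := ⟨C.prime⟩
  have P : Sylow n ↥(chevE6.group F) := default
  obtain ⟨s, hs, -⟩ := conj_of_cyclic P (C.cyc P) hT.hx y hy
  obtain ⟨j, hj⟩ := hs
  have hj' : (s * x * s⁻¹) ^ j = y := hj
  rw [conj_zpow] at hj'
  have hv1 : x ^ j ≠ 1 := by
    intro h1
    rw [h1] at hj'
    rw [← hj', mul_one, mul_inv_cancel, orderOf_one] at hy
    exact C.prime.one_lt.ne hy
  have h1 := mem_of_fix hT hq hφ hform (v := x ^ j) (s := s) ⟨j, rfl⟩ hv1 (by rw [hj', hby])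
  have e1 : z⁻¹ * ((emb (tp).inList (algebraMap F (AlgebraicClosure F)) s)⁻¹ * Mt *
      emb (tp).inList (algebraMap F (AlgebraicClosure F)) s) * z =
      (emb (tp).inList (algebraMap F (AlgebraicClosure F)) s * z)⁻¹ * Mt *
        (emb (tp).inList (algebraMap F (AlgebraicClosure F)) s * z) := by group
  rw [e1] at h1
  set g := emb (tp).inList (algebraMap F (AlgebraicClosure F)) s * z with hg
  have key : (g⁻¹ * Mt * g) ^ l = 1 ∧ g⁻¹ * Mt * g ≠ 1 := by
    refine ⟨?_, fun h => hM1 ?_⟩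
    · have h1 := conj_pow (i := l) (a := g⁻¹) (b := Mt)
      rw [inv_inv] at h1
      rw [h1, hMl]
      group
    · have h1 : Mt = g * (g⁻¹ * Mt * g) * g⁻¹ := by group
      rw [h1, h]
      group
  refine ⟨?_, ?_⟩
  · have h2 : orderOf (g⁻¹ * Mt * g) = l := orderOf_eq_prime key.1 key.2 (hp := ⟨hl⟩)
    rw [← h2, ← hT.order]
    exact orderOf_dvd_of_mem_zpowers h1
  · rintro rfl hdiv
    obtain ⟨ω, hω, hω1, hch⟩ := char_of_pow_three hT C.pos h1 key.1 key.2
    rw [← rk_conj g Mt]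
    exact C.rank _ (Subgroup.zpowers_le.2 hT.ht h1) ω hω hω1 hdiv hch

/-- **Two classes of tori with no common primes except `3`.** -/
theorem inc_of_cls [CharP F r] (hq : Fintype.card F = r ^ e) (he : 0 < e)
    {B B' : Fin 6 → Fin 6 → ℤ} {N N' n n' ρ ρ' h h' : ℕ} (C : Cls F r e hk B N n ρ h) (C' : Cls F r e hk B' N' n' ρ' h')
    (hh : ∀ m ∈ [2, 5, 6, 8, 9, 12], 0 < m ∧ m < 3 * h) (hρ : ρ ≠ ρ')
    (har : ∀ l, l.Prime → l ≠ 2 → l ∣ N → l ∣ N' → l = 3 ∧ 3 ∣ r ^ e - 1) :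
    Inc ↥(chevE6.group F) n n' := by
  have hr : r.Prime := Fact.out
  intro b hb hb2 x hx hbx y hy hby
  have hbl : b ^ orderOf b = 1 := pow_orderOf_eq_one b
  obtain ⟨Mt, hφ, hform⟩ := FldExc.lin_of_fix tp (algebraMap F (AlgebraicClosure F)) hq he invC_E6 (by norm_num)
    (AutInv.inv_E6 (tp).inList) FldExc.ordF_E6 hb hb2 hbl C.prime C.ne C.cop hx hbx (h := h) C.ord hh
  have hZk : Subgroup.center ↥(chevE6.group (AlgebraicClosure F)) = ⊥ := by
    obtain ⟨hSk, hnak⟩ := S1054.result (F := AlgebraicClosure F) chevE6 (by simp)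
    exact Cfsg.Agent.H568.center_eq_bot hnak
  have hpow : ∀ (i : ℕ) (y : ↥(chevE6.group F)), emb (tp).inList (algebraMap F (AlgebraicClosure F)) ((b ^ i) y) =
      Mt ^ i * emb (tp).inList (algebraMap F (AlgebraicClosure F)) y * (Mt ^ i)⁻¹ := by
    intro i
    induction i with
    | zero => intro y; simp
    | succ i ih =>
      intro y
      rw [pow_succ', MulAut.mul_apply, hform, ih, pow_succ' Mt, mul_inv_rev]
      simp only [mul_assoc]
  have hMl : Mt ^ orderOf b = 1 := by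
    refine FamUntw.eq_one_of_comm tp hk r (algebraMap F (AlgebraicClosure F)) hZk fun y => ?_
    have h2 := hpow (orderOf b) y
    rw [hbl] at h2
    exact (eq_mul_inv_iff_mul_eq.1 h2).symm
  have hM1 : Mt ≠ 1 := by
    intro h1
    have h2 : b = 1 := by
      ext y
      have h4 := hform y
      rw [h1, one_mul, inv_one, mul_one] at h4
      have h5 := emb_injective (tp).inList _ h4
      rw [h5]
      rfl
    rw [h2, orderOf_one] at hb
    exact absurd hb (by norm_num)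
  obtain ⟨h1, h2⟩ := C.exists_conj hq hφ hform hx hbx hb hMl hM1
  obtain ⟨h3, h4⟩ := C'.exists_conj hq hφ hform hy hby hb hMl hM1
  obtain ⟨h5, h6⟩ := har _ hb hb2 h1 h3
  have hq1 : 1 ≤ r ^ e := Nat.one_le_pow _ _ hr.pos
  have hdiv : (3 : ℤ) ∣ ((r ^ e : ℕ) : ℤ) - 1 := by
    have h1 : (((r ^ e - 1 : ℕ)) : ℤ) = ((r ^ e : ℕ) : ℤ) - 1 := by push_cast [Nat.cast_sub hq1]; rfl
    rw [← h1]
    exact_mod_cast h6
  exact hρ ((h2 h5 hdiv).symm.trans (h4 h5 hdiv))

end Cls

end Cfsg.Agent.H742.PD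
end

-- part: H742/PD/RowE6B
section
/-!
# S4246: the row of `E₆(q)` (helper742)

`row_e6` : `Row K` if `IsoChevE6 K`; the criterion `row_three` with primitive prime divisors of `q⁹ - 1`, `q¹² - 1`,
`q⁸ - 1`.
-/

set_option autoImplicit false
set_option linter.unusedSectionVars false

namespace Cfsg.Agent.H742.PD

open CoxeterSystem Cfsg Cfsg.Lie Cfsg.Lie.ChevalleyDatum
open Cfsg.Agent.ChevalleyStructure Cfsg.Agent.ChevalleyStructure.Elts Cfsg.Agent.ChevalleyStructure.CoxeterGeom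
  Cfsg.Agent.ChevalleyStructure.CoxeterGeomTypes Cfsg.Agent.ChevalleyStructure.NPerm
open Cfsg.Agent.Tits.Roots Cfsg.Agent.Tits.Core Cfsg.Agent.Nodes Cfsg.Agent.Nodes.Reps Cfsg.Agent.Nodes.BNOf
  Cfsg.Agent.Nodes.RGDChev
open Cfsg.Agent.KFacts.RgdChevCoord Cfsg.Agent.GpExc.Field Cfsg.Agent.BpExc.Fr Cfsg.Agent.BpExc.LangFr
  Cfsg.Agent.BpExc.TowChev Cfsg.Agent.BpExc
open Cfsg.Agent.H129.TorusChar Cfsg.Agent.H129.TorusCent Cfsg.Agent.H129.TorusTw Cfsg.Agent.H129.TorusMain
  Cfsg.Agent.H129.TorusUntw Cfsg.Agent.H719.RowTorus Cfsg.Agent.H719 Cfsg.Agent.H568 Cfsg.Agent.H568.ESixThree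
open Cfsg.Agent.H160.PD Cfsg.Agent.H56.Exc

universe u

/-- primitive prime divisors of `q ^ i - 1`, `q = r ^ e` -/
theorem exists_ppd {r e i : ℕ} (hr : r.Prime) (he : 0 < e) (hi : 7 ≤ i) :
    ∃ n : ℕ, (∀ m, n ∣ r ^ m - 1 ↔ e * i ∣ m) ∧ e * i ∣ n - 1 ∧ n ≠ r ∧ H436.Prim (r ^ e) i n := by
  have h7 : 7 ≤ e * i := hi.trans (Nat.le_mul_of_pos_left i he)
  obtain ⟨l, hl, hd, hl1, hlr⟩ := Lib.Zsigmondy.exists_primitive hr.two_le (n := e * i) (by omega) (by omega) (by omega)
  refine ⟨l, hd, hl1, fun h => hlr (h ▸ dvd_rfl), hl, fun m => ?_, fun h => hlr (hl.dvd_of_dvd_pow h)⟩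
  rw [← pow_mul, hd, Nat.mul_dvd_mul_iff_left he]

section Cls

variable {F : Type u} [Field F] [Fintype F] {r e : ℕ} [Fact r.Prime] [CharP (AlgebraicClosure F) r]
  [Finite CoxeterMatrix.E₆.Group] {hk : LocFin (AlgebraicClosure F)}

theorem cls_nine (hq : Fintype.card F = r ^ e) (he : 0 < e) {n : ℕ} (hd : ∀ m, n ∣ r ^ m - 1 ↔ e * 9 ∣ m)
    (hnr : n ≠ r) (hn : H436.Prim (r ^ e) 9 n) :
    Cls F r e hk TE6_9.B ((r ^ e) ^ 6 + (r ^ e) ^ 3 + 1) n 54 9 := by
  have hr : r.Prime := Fact.out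
  have hlt := prim_lt2 hn (by norm_num) (by norm_num)
  have hp := hn.prime
  have hW : Nat.card CoxeterMatrix.E₆.Group = 51840 :=
    Cfsg.Agent.S1093.result (⟨6, CoxeterMatrix.E₆⟩, 51840) (by simp)
  have hB := big_E6_9 hq (m := (r ^ e) ^ 6 + (r ^ e) ^ 3 + 1) (by push_cast; ring) hn
  have hfact : Fact n.Prime := ⟨hp⟩
  have hz := prim_dvd_9 hn
  refine ⟨hp, hnr, (Nat.coprime_primes hp Nat.prime_three).2 (by omega), fun m hm => (hd m).1 hm,
    fun P => hB.isCyclic_sylow P, fun t ht ω h1 h2 h3 h4 => rank_nine tp ht h1 h2 h3 h4, by (clear * -; positivity), ?_⟩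
  refine ⟨_, exists_tor' tp CoxeterMatrix.E₆.toCoxeterSystem (algebraMap F (AlgebraicClosure F))
    (by norm_num) hk he hq invC_E6 (by norm_num) TE6_9.hA TE6_9.chainOK TE6_9.cycOK TE6_9.rootOK
    (N := (r ^ e) ^ 6 + (r ^ e) ^ 3 + 1) (N0 := n)
    (by rw [TE6_9.fN_eq]; push_cast; ring)
    (H129.UntwData.coprime_of_eq (a := ((r ^ e : ℕ) : ℤ) ^ 2 + ((r ^ e : ℕ) : ℤ) ^ 5) (by push_cast; ring))
    ?_ (fun l hl hld => ?_)⟩
  · have e1 : (((r ^ e) ^ 6 + (r ^ e) ^ 3 + 1 : ℕ) : ℤ) = 1 + ((r ^ e : ℕ) : ℤ) ^ 3 + ((r ^ e : ℕ) : ℤ) ^ 6 := by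
      push_cast; ring
    rw [← Int.natCast_dvd_natCast, e1]
    exact hz
  · have hln : l = n := (Nat.prime_dvd_prime_iff_eq hl hp).1 hld
    subst hln
    refine ⟨by rw [hW]; exact prime_five hl (by omega) (by omega) (by omega),
      fun h => absurd ((Nat.prime_dvd_prime_iff_eq hl Nat.prime_three).1 h) (by omega), fun s hs => ?_⟩
    exact absurd ((Nat.prime_dvd_prime_iff_eq hl Nat.prime_three).1
      (by exact_mod_cast TE6_9.dvd_of_G hz s hs)) (by omega)

theorem cls_twelve (hq : Fintype.card F = r ^ e) (he : 0 < e) {n : ℕ} (hd : ∀ m, n ∣ r ^ m - 1 ↔ e * 12 ∣ m)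
    (hnr : n ≠ r) (hn : H436.Prim (r ^ e) 12 n) :
    Cls F r e hk TE6_12.B (((r ^ e) ^ 4 - (r ^ e) ^ 2 + 1) * ((r ^ e) ^ 2 + (r ^ e) + 1)) n 48 12 := by
  have hr : r.Prime := Fact.out
  have hlt := prim_lt hn (by norm_num)
  have hp := hn.prime
  have hq1 : 1 < r ^ e := Nat.one_lt_pow he.ne' hr.one_lt
  have h0 : (r ^ e) ^ 2 ≤ (r ^ e) ^ 4 := Nat.pow_le_pow_right (by omega) (by norm_num)
  have hW : Nat.card CoxeterMatrix.E₆.Group = 51840 :=
    Cfsg.Agent.S1093.result (⟨6, CoxeterMatrix.E₆⟩, 51840) (by simp)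
  have hB := big_E6_12 hq (m := ((r ^ e) ^ 4 - (r ^ e) ^ 2 + 1) * ((r ^ e) ^ 2 + (r ^ e) + 1))
    (by push_cast [Nat.cast_sub h0]; ring) hn
  have hfact : Fact n.Prime := ⟨hp⟩
  have hz := prim_dvd_12 hn
  refine ⟨hp, hnr, (Nat.coprime_primes hp Nat.prime_three).2 (by omega), fun m hm => (hd m).1 hm,
    fun P => hB.isCyclic_sylow P, fun t ht ω h1 h2 h3 h4 => rank_twelve tp ht h1 h2 h3 h4, by (clear * -; positivity), ?_⟩
  refine ⟨_, exists_tor' tp CoxeterMatrix.E₆.toCoxeterSystem (algebraMap F (AlgebraicClosure F))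
    (by norm_num) hk he hq invC_E6 (by norm_num) TE6_12.hA TE6_12.chainOK TE6_12.cycOK TE6_12.rootOK
    (N := ((r ^ e) ^ 4 - (r ^ e) ^ 2 + 1) * ((r ^ e) ^ 2 + (r ^ e) + 1)) (N0 := n)
    (by rw [TE6_12.fN_eq]; push_cast [Nat.cast_sub h0]; ring)
    (H129.UntwData.coprime_of_eq (a := 1 - ((r ^ e : ℕ) : ℤ) ^ 2 + ((r ^ e : ℕ) : ℤ) ^ 4 + ((r ^ e : ℕ) : ℤ) ^ 5)
      (by push_cast [Nat.cast_sub h0]; ring))
    ?_ (fun l hl hld => ?_)⟩
  · refine Dvd.dvd.mul_right ?_ _
    have e1 : (((r ^ e) ^ 4 - (r ^ e) ^ 2 + 1 : ℕ) : ℤ) = 1 - ((r ^ e : ℕ) : ℤ) ^ 2 + ((r ^ e : ℕ) : ℤ) ^ 4 := by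
      push_cast [Nat.cast_sub h0]; ring
    rw [← Int.natCast_dvd_natCast, e1]
    exact hz
  · have hln : l = n := (Nat.prime_dvd_prime_iff_eq hl hp).1 hld
    subst hln
    refine ⟨by rw [hW]; exact prime_five hl (by omega) (by omega) (by omega),
      fun h => absurd ((Nat.prime_dvd_prime_iff_eq hl Nat.prime_three).1 h) (by omega), fun s hs => ?_⟩
    exact absurd ((Nat.prime_dvd_prime_iff_eq hl Nat.prime_two).1
      (by exact_mod_cast TE6_12.dvd_of_G hz s hs)) (by omega)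

theorem cls_eight (hq : Fintype.card F = r ^ e) (he : 0 < e) {n : ℕ} (hd : ∀ m, n ∣ r ^ m - 1 ↔ e * 8 ∣ m)
    (hnr : n ≠ r) (hn : H436.Prim (r ^ e) 8 n) :
    Cls F r e hk H129.DataE6e.B ((1 + (r ^ e) ^ 4) * ((r ^ e) ^ 2 - 1)) n 32 8 := by
  have hr : r.Prime := Fact.out
  have hlt := prim_lt hn (by norm_num)
  have hp := hn.prime
  have hq1 : 1 < r ^ e := Nat.one_lt_pow he.ne' hr.one_lt
  have h0 : 1 ≤ (r ^ e) ^ 2 := Nat.one_le_pow _ _ (by omega)
  have h1 : 1 < (r ^ e) ^ 2 := Nat.one_lt_pow (by norm_num) hq1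
  have hW : Nat.card CoxeterMatrix.E₆.Group = 51840 :=
    Cfsg.Agent.S1093.result (⟨6, CoxeterMatrix.E₆⟩, 51840) (by simp)
  have hB := big_E6_8 hq (m := (1 + (r ^ e) ^ 4) * ((r ^ e) ^ 2 - 1))
    (by push_cast [Nat.cast_sub h0]; ring) hn
  have hfact : Fact n.Prime := ⟨hp⟩
  have hz := prim_dvd_8 hn
  refine ⟨hp, hnr, (Nat.coprime_primes hp Nat.prime_three).2 (by omega), fun m hm => (hd m).1 hm,
    fun P => hB.isCyclic_sylow P, fun t ht ω h1 h2 h3 h4 => rank_eight tp ht h1 h2 h3 h4, ?_, ?_⟩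
  · have h2 : 0 < (r ^ e) ^ 2 - 1 := by omega
    (clear * - h2; positivity)
  refine ⟨_, exists_tor' tp CoxeterMatrix.E₆.toCoxeterSystem (algebraMap F (AlgebraicClosure F))
    (by norm_num) hk he hq invC_E6 (by norm_num) H129.DataE6e.hA H129.DataE6e.chainOK H129.DataE6e.cycOK
    H129.DataE6e.rootOK
    (N := (1 + (r ^ e) ^ 4) * ((r ^ e) ^ 2 - 1)) (N0 := n)
    (by rw [H129.DataE6e.fN_eq]; push_cast [Nat.cast_sub h0]; ring)
    (H129.RealT.coprime_of_neg (a := ((r ^ e : ℕ) : ℤ) - ((r ^ e : ℕ) : ℤ) ^ 3 + ((r ^ e : ℕ) : ℤ) ^ 5)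
      (by push_cast [Nat.cast_sub h0]; ring))
    ?_ (fun l hl hld => ?_)⟩
  · refine Dvd.dvd.mul_right ?_ _
    have e1 : ((1 + (r ^ e) ^ 4 : ℕ) : ℤ) = 1 + ((r ^ e : ℕ) : ℤ) ^ 4 := by
      push_cast; ring
    rw [← Int.natCast_dvd_natCast, e1]
    exact hz
  · have hln : l = n := (Nat.prime_dvd_prime_iff_eq hl hp).1 hld
    subst hln
    refine ⟨by rw [hW]; exact prime_five hl (by omega) (by omega) (by omega),
      fun h => absurd ((Nat.prime_dvd_prime_iff_eq hl Nat.prime_three).1 h) (by omega), fun s hs => ?_⟩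
    rcases H129.DataE6e.dvd_of_G hz s hs with h | h
    · have h2 : l ∣ 1 := by exact_mod_cast h
      exact hl.one_lt.ne' (Nat.dvd_one.1 h2)
    · exact absurd ((Nat.prime_dvd_prime_iff_eq hl Nat.prime_two).1 (by exact_mod_cast h)) (by omega)

end Cls

/-! ### the theorem -/

section Main

variable {F : Type u} [Field F] [Fintype F]

theorem row_aux {q : ℕ} (hq : Fintype.card F = q) : _root_.Cfsg.Agent.H160.PD.Row ↥(chevE6.group F) := by
  have hW : Nat.card CoxeterMatrix.E₆.Group = 51840 :=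
    Cfsg.Agent.S1093.result (⟨6, CoxeterMatrix.E₆⟩, 51840) (by simp)
  have : Finite CoxeterMatrix.E₆.Group := Nat.finite_of_card_ne_zero (by rw [hW]; norm_num)
  have hfin : Finite ↥(chevE6.group F) := inferInstance
  obtain ⟨hS, hna⟩ := S1054.result (F := F) chevE6 (by simp)
  have hZ : Subgroup.center ↥(chevE6.group F) = ⊥ := Cfsg.Agent.H568.center_eq_bot hna
  obtain ⟨r, e, hrF, hrc, hrk, he, rfl, hk⟩ := _root_.Cfsg.Agent.H129.TorusUntw.exists_closure hq
  have hr : r.Prime := Fact.out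
  have hq1 : 1 < r ^ e := Nat.one_lt_pow he.ne' hr.one_lt
  have hq0 : 1 ≤ r ^ e := hq1.le
  have h24 : (r ^ e) ^ 2 ≤ (r ^ e) ^ 4 := Nat.pow_le_pow_right (by omega) (by norm_num)
  have h02 : 1 ≤ (r ^ e) ^ 2 := Nat.one_le_pow _ _ (by omega)
  obtain ⟨n9, hd9, he9, hr9, hn9⟩ := exists_ppd hr he (i := 9) (by norm_num)
  obtain ⟨n12, hd12, he12, hr12, hn12⟩ := exists_ppd hr he (i := 12) (by norm_num)
  obtain ⟨n8, hd8, he8, hr8, hn8⟩ := exists_ppd hr he (i := 8) (by norm_num)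
  have C9 := cls_nine (hk := hk) hq he hd9 hr9 hn9
  have C12 := cls_twelve (hk := hk) hq he hd12 hr12 hn12
  have C8 := cls_eight (hk := hk) hq he hd8 hr8 hn8
  have B9 := big_E6_9 hq (m := (r ^ e) ^ 6 + (r ^ e) ^ 3 + 1) (by push_cast; ring) hn9
  have B12 := big_E6_12 hq (m := ((r ^ e) ^ 4 - (r ^ e) ^ 2 + 1) * ((r ^ e) ^ 2 + (r ^ e) + 1))
    (by push_cast [Nat.cast_sub h24]; ring) hn12
  have B8 := big_E6_8 hq (m := (1 + (r ^ e) ^ 4) * ((r ^ e) ^ 2 - 1))
    (by push_cast [Nat.cast_sub h02]; ring) hn8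
  have lt9 := prim_lt2 hn9 (by norm_num) (by norm_num)
  have lt12 := prim_lt hn12 (by norm_num)
  have lt8 := prim_lt hn8 (by norm_num)
  have hord := ord_E6 (F := F) hq
  -- the outer automorphism group
  have hout : out ↥(chevE6.group F) = 2 * Nat.gcd 3 (r ^ e - 1) * e := H70.OutE.card_out_E6 hq
  have good : ∀ {i n : ℕ}, 7 ≤ i → e * i ∣ n - 1 → H436.Prim (r ^ e) i n → 3 < n →
      n ∣ Nat.card ↥(chevE6.group F) → _root_.Cfsg.Agent.H160.PD.Good ↥(chevE6.group F) n := by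
    intro i n hi h1 hn h3 hd
    refine good_of hn.prime (by omega) hd ?_
    rw [hout]
    intro h4
    rcases hn.prime.dvd_mul.1 h4 with h5 | h5
    · rcases hn.prime.dvd_mul.1 h5 with h6 | h6
      · have := Nat.le_of_dvd (by norm_num) h6
        omega
      · have := Nat.le_of_dvd (by norm_num) (h6.trans (Nat.gcd_dvd_left _ _))
        omega
    · have h6 := Nat.le_of_dvd he h5
      have h7 := Nat.le_of_dvd (by omega) h1
      have h8 : e * 1 ≤ e * i := Nat.mul_le_mul_left _ (by omega)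
      omega
  have hcard : ∀ {i n : ℕ}, H436.Prim (r ^ e) i n → 3 < n → i ∈ [8, 9, 12] → n ∣ Nat.card ↥(chevE6.group F) := by
    intro i n hn h3 hi
    have h1 : (n : ℤ) ∣ ((Nat.gcd 3 (r ^ e - 1) : ℕ) : ℤ) * (Nat.card ↥(chevE6.group F) : ℤ) := by
      rw [hord]
      have h2 : (n : ℤ) ∣ ((r ^ e : ℕ) : ℤ) ^ i - 1 := by
        have h3 := Int.natCast_dvd_natCast.2 ((hn.dvd_iff i).2 dvd_rfl)
        rw [Nat.cast_sub (Nat.one_le_pow _ _ hq0)] at h3
        push_cast at h3 ⊢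
        exact h3
      simp only [List.mem_cons, List.not_mem_nil, or_false] at hi
      rcases hi with rfl | rfl | rfl
      · exact Dvd.dvd.mul_right (Dvd.dvd.mul_right (Dvd.dvd.mul_left h2 _) _) _
      · exact Dvd.dvd.mul_right (Dvd.dvd.mul_left h2 _) _
      · exact Dvd.dvd.mul_left h2 _
    rw [← Nat.cast_mul, Int.natCast_dvd_natCast] at h1
    refine (hn.prime.dvd_mul.1 h1).resolve_left fun h4 => ?_
    have := Nat.le_of_dvd (by norm_num) (h4.trans (Nat.gcd_dvd_left _ _))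
    omega
  -- divisors
  have D9 : (((r ^ e) ^ 6 + (r ^ e) ^ 3 + 1 : ℕ) : ℤ) ∣ (((r ^ e : ℕ) : ℤ) ^ 9 - 1) * (((r ^ e : ℕ) : ℤ) ^ 9 - 1) := by
    refine ⟨(((r ^ e : ℕ) : ℤ) ^ 3 - 1) * (((r ^ e : ℕ) : ℤ) ^ 9 - 1), ?_⟩
    push_cast; ring
  have D12 : ((((r ^ e) ^ 4 - (r ^ e) ^ 2 + 1) * ((r ^ e) ^ 2 + (r ^ e) + 1) : ℕ) : ℤ) ∣
      (((r ^ e : ℕ) : ℤ) ^ 12 - 1) * (((r ^ e : ℕ) : ℤ) ^ 3 - 1) := by
    refine ⟨(((r ^ e : ℕ) : ℤ) ^ 6 - 1) * (((r ^ e : ℕ) : ℤ) ^ 2 + 1) * (((r ^ e : ℕ) : ℤ) - 1), ?_⟩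
    push_cast [Nat.cast_sub h24]; ring
  have D8 : (((1 + (r ^ e) ^ 4) * ((r ^ e) ^ 2 - 1) : ℕ) : ℤ) ∣
      (((r ^ e : ℕ) : ℤ) ^ 8 - 1) * (((r ^ e : ℕ) : ℤ) ^ 2 - 1) := by
    refine ⟨((r ^ e : ℕ) : ℤ) ^ 4 - 1, ?_⟩
    push_cast [Nat.cast_sub h02]; ring
  -- reductions
  have z9 : ∀ l : ℕ, l ∣ (r ^ e) ^ 6 + (r ^ e) ^ 3 + 1 →
      ((r ^ e : ℕ) : ZMod l) ^ 6 + ((r ^ e : ℕ) : ZMod l) ^ 3 + 1 = 0 := by
    intro l hl
    have := (ZMod.natCast_eq_zero_iff _ _).2 hl
    push_cast at this ⊢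
    exact this
  have z12 : ∀ l : ℕ, l ∣ ((r ^ e) ^ 4 - (r ^ e) ^ 2 + 1) * ((r ^ e) ^ 2 + (r ^ e) + 1) →
      (((r ^ e : ℕ) : ZMod l) ^ 4 - ((r ^ e : ℕ) : ZMod l) ^ 2 + 1) *
        (((r ^ e : ℕ) : ZMod l) ^ 2 + ((r ^ e : ℕ) : ZMod l) + 1) = 0 := by
    intro l hl
    have := (ZMod.natCast_eq_zero_iff _ _).2 hl
    push_cast [Nat.cast_sub h24] at this ⊢
    exact this
  have z8 : ∀ l : ℕ, l ∣ (1 + (r ^ e) ^ 4) * ((r ^ e) ^ 2 - 1) →
      (1 + ((r ^ e : ℕ) : ZMod l) ^ 4) * (((r ^ e : ℕ) : ZMod l) ^ 2 - 1) = 0 := by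
    intro l hl
    have := (ZMod.natCast_eq_zero_iff _ _).2 hl
    push_cast [Nat.cast_sub h02] at this ⊢
    exact this
  have two : ∀ {l : ℕ}, l.Prime → l ≠ 2 → (2 : ZMod l) ≠ 0 := by
    intro l hl h2 h
    have h1 : ((2 : ℕ) : ZMod l) = 0 := by exact_mod_cast h
    rw [ZMod.natCast_eq_zero_iff] at h1
    exact h2 ((Nat.prime_dvd_prime_iff_eq hl Nat.prime_two).1 h1)
  refine row_three hZ (good (by norm_num) he9 hn9 (by omega) (hcard hn9 (by omega) (by simp)))
    (good (by norm_num) he12 hn12 (by omega) (hcard hn12 (by omega) (by simp)))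
    (good (by norm_num) he8 hn8 (by omega) (hcard hn8 (by omega) (by simp))) ?_ ?_ ?_ ?_ ?_ ?_
  · refine noOdd_of_big B9 B12 (ndvd_of_prim hn12 hq0 D9 (by norm_num) (by norm_num) ?_)
      (ndvd_of_prim hn9 hq0 D12 (by norm_num) (by norm_num) ?_)
    · intro h
      rw [show (9 : ℕ) = 3 ^ 2 by norm_num] at h
      have := Nat.le_of_dvd (by norm_num) (hn12.prime.dvd_of_dvd_pow h)
      omega
    · intro h
      have := Nat.le_of_dvd (by norm_num) h
      omega
  · refine noOdd_of_big B9 B8 (ndvd_of_prim hn8 hq0 D9 (by norm_num) (by norm_num) ?_)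
      (ndvd_of_prim hn9 hq0 D8 (by norm_num) (by norm_num) ?_)
    · intro h
      rw [show (9 : ℕ) = 3 ^ 2 by norm_num] at h
      have := Nat.le_of_dvd (by norm_num) (hn8.prime.dvd_of_dvd_pow h)
      omega
    · intro h
      have := Nat.le_of_dvd (by norm_num) h
      omega
  · refine noOdd_of_big B12 B8 (ndvd_of_prim hn8 hq0 D12 (by norm_num) (by norm_num) ?_)
      (ndvd_of_prim hn12 hq0 D8 (by norm_num) (by norm_num) ?_)
    · intro h
      rw [show (12 : ℕ) = 4 * 3 by norm_num] at h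
      rcases hn8.prime.dvd_mul.1 h with h | h
      · have := Nat.le_of_dvd (by norm_num) h
        omega
      · have := Nat.le_of_dvd (by norm_num) h
        omega
    · intro h
      have := Nat.le_of_dvd (by norm_num) h
      omega
  · refine inc_of_cls hq he C9 C12 (by decide) (by norm_num) fun l hl h2 h3 h4 => ?_
    have : Fact l.Prime := ⟨hl⟩
    have h5 := three_of_zmod hl (arith_nine_twelve (z9 l h3) (z12 l h4))
    subst h5
    exact ⟨rfl, three_dvd_of hq0 (Or.inl (z9 3 h3))⟩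
  · refine inc_of_cls hq he C9 C8 (by decide) (by norm_num) fun l hl h2 h3 h4 => ?_
    have : Fact l.Prime := ⟨hl⟩
    have h5 := three_of_zmod hl (arith_nine_eight (two hl h2) (z9 l h3) (z8 l h4))
    subst h5
    exact ⟨rfl, three_dvd_of hq0 (Or.inl (z9 3 h3))⟩
  · refine inc_of_cls hq he C12 C8 (by decide) (by norm_num) fun l hl h2 h3 h4 => ?_
    have : Fact l.Prime := ⟨hl⟩
    have h5 := three_of_zmod hl (arith_twelve_eight (z12 l h3) (z8 l h4))
    subst h5
    exact ⟨rfl, three_dvd_of hq0 (Or.inr (z12 3 h3))⟩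

end Main

/-- **The row of `E₆(q)`.** -/
theorem row_e6 (K : Type u) [Group K] [Finite K] [IsSimpleGroup K] (h : Cfsg.Lie.IsoChevE6 K) : _root_.Cfsg.Agent.H160.PD.Row K := by
  obtain ⟨F, _, _, ⟨f⟩⟩ := h
  exact _root_.Cfsg.Agent.H160.PD.Row.congr f (row_aux rfl)

end Cfsg.Agent.H742.PD
end

-- part: H699/PD/Gen
section
/-!
# S4246: a criterion with one regular torus (helper699)

`row_tor` : `S` in characteristic `p`, `l` a good prime; every element `x` of order `l` lies in a subgroup `T` of order `N`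
prime to `2 p`, `C(y) ≤ T` for `1 ≠ y ∈ T`, and the automorphisms fixing `x` are the conjugations by elements of `T`.
-/

set_option autoImplicit false
set_option linter.unusedSectionVars false

namespace Cfsg.Agent.H699.PD

open Subgroup Cfsg.Agent.H160.PD

variable {S : Type*} [Group S]

/-- a regular torus for the elements of order `l` -/
def Tors (S : Type*) [Group S] (l N : ℕ) : Prop :=
  ∀ x : S, orderOf x = l → ∃ T : Subgroup S, Nat.card T = N ∧ (∀ y ∈ T, y ≠ 1 → centralizer {y} ≤ T) ∧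
    ∀ b : MulAut S, b x = x → ∃ s ∈ T, b = MulAut.conj s

variable [Finite S]

/-- a group of automorphisms inside the conjugations by `T` -/
theorem card_dvd_of_inner {T : Subgroup S} {H : Subgroup (MulAut S)} (h : ∀ b ∈ H, ∃ s ∈ T, b = MulAut.conj s) :
    Nat.card H ∣ Nat.card T := by
  have h1 : H ≤ T.map (MulAut.conj : S →* MulAut S) := by
    intro b hb
    obtain ⟨s, hs, rfl⟩ := h b hb
    exact ⟨s, hs, rfl⟩
  exact (card_dvd_of_le h1).trans (Subgroup.card_map_dvd _ _)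

theorem v_zero_of_dvd {X : Type*} {N r : ℕ} (h : Nat.card X ∣ N) (hr : ¬ r ∣ N) : v r X = 0 :=
  Nat.factorization_eq_zero_of_not_dvd fun h1 => hr (h1.trans h)

/-- **The criterion.** -/
theorem row_tor (hZ : center S = ⊥) {p l N f : ℕ} (hp : p.Prime) (hg : Good S l) (hT : Tors S l N)
    (hpN : ¬ p ∣ N) (h2N : ¬ 2 ∣ N)
    (hodd : p ≠ 2 → ∀ H : Subgroup S, Odd (Nat.card H) → l ∣ Nat.card H → v p H = 0)
    (hf : 0 < f) (hsyl : ∀ b : MulAut S, (orderOf b).Prime → orderOf b ≠ p → v p (Fx b) + f ≤ v p S)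
    (hout : (out S).factorization p < f ∨ ∀ t, t.Prime → t ∣ N → t = l)
    (hout' : (out S).factorization p < v p S) (h2 : 2 ∣ Nat.card S)
    (hbt : p ≠ 2 → ∀ y : S, orderOf y = p → v 2 (centralizer {y}) < v 2 S) : Row S := by
  have key : ∀ (π : Set ℕ) (L K L' K' : Subgroup (MulAut S)), Cfg π L K L' K' → In L K l → False := by
    intro π L K L' K' h hI
    have hv2 : 0 < v 2 S := (v_pos Nat.prime_two).2 h2
    obtain ⟨b', hb', t', ht', htπ', ht2', hbo'⟩ := h.symm.exists_prime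
    rcases hI with h0 | h0
    · -- `l ∈ π`
      obtain ⟨x, hx, hxo⟩ := Cfg.exists_mem hg.prime h0
      obtain ⟨T, hTN, hTc, hTf⟩ := hT x hxo
      have hK : Nat.card K ∣ N := hTN ▸ card_dvd_of_inner fun b hb => hTf b (h.fixK hZ hb hx)
      have hK2 := v_zero_of_dvd hK h2N
      have hKp := v_zero_of_dvd hK hpN
      have hn2 := h.numK 2 Nat.prime_two h.two
      by_cases hpπ : p ∈ π
      · have hp2 : p ≠ 2 := fun h1 => h.two (h1 ▸ hpπ)
        have h1 := hodd hp2 (tr L) (h.odd hZ) h0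
        have h3 := v_le hZ L p
        have h4 := h.numL p hp hpπ
        have h5 : p ∣ Nat.card (tr L') := by
          rw [← v_pos hp]
          simp only [v] at *
          omega
        obtain ⟨y, hy, hyo⟩ := Cfg.exists_mem hp h5
        have h6 := v_mono (h.symm.trK_le_centralizer hZ hy) 2
        have h7 := hbt hp2 y hyo
        simp only [v] at *
        omega
      · have h1 := h.numK p hp hpπ
        have h3 := v_mono (h.symm.trK_le hZ hb') p
        have h4 := hsyl b' (hbo' ▸ ht') (by rw [hbo']; rintro rfl; exact hpπ htπ')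
        simp only [v] at *
        omega
    · -- `l ∉ π`
      obtain ⟨x, hx, hxo⟩ := Cfg.exists_mem hg.prime h0
      obtain ⟨T, hTN, hTc, hTf⟩ := hT x hxo
      have hLi : ∀ b ∈ L, ∃ s ∈ T, b = MulAut.conj s := fun b hb => hTf b (h.fix hZ hb hx)
      have hL : Nat.card L ∣ N := hTN ▸ card_dvd_of_inner hLi
      obtain ⟨b, hb, t, ht, htπ, ht2, hbo⟩ := h.exists_prime
      obtain ⟨s, hs, rfl⟩ := hLi b hb
      have hs1 : s ≠ 1 := by
        rintro rfl
        rw [map_one, orderOf_one] at hbo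
        exact ht.one_lt.ne hbo
      have hK : Nat.card (tr K) ∣ N :=
        hTN ▸ card_dvd_of_le ((h.trK_le_centralizer hZ (x := s) hb).trans (hTc s hs hs1))
      have hLp := v_zero_of_dvd hL hpN
      have hK2 := v_zero_of_dvd hK h2N
      have hKp := v_zero_of_dvd hK hpN
      by_cases hpπ : p ∈ π
      · have hp2 : p ≠ 2 := fun h1 => h.two (h1 ▸ hpπ)
        have h1 := h.numL p hp hpπ
        have h3 := h.numK' 2 Nat.prime_two h.two
        have h4 : 2 ∣ Nat.card K' := by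
          rw [← v_pos Nat.prime_two]
          simp only [v] at *
          omega
        have := Fact.mk Nat.prime_two
        obtain ⟨⟨c, hc⟩, hco⟩ := exists_prime_orderOf_dvd_card' 2 h4
        have hco' : orderOf c = 2 := by rw [← hco]; exact (Subgroup.orderOf_mk c hc).symm
        have h5 : tr L' ≤ Fx c := fun x hx => h.symm.fixK hZ hc hx
        have h6 := v_mono h5 p
        have h7 := hsyl c (hco' ▸ Nat.prime_two) (by rw [hco']; exact fun h => hp2 h.symm)
        simp only [v] at *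
        omega
      · rcases hout with hout | hout
        · have h1 := h.numK p hp hpπ
          have h3 := v_le hZ K p
          have h4 := v_mono (h.symm.trK_le hZ hb') p
          have h5 := hsyl b' (hbo' ▸ ht') (by rw [hbo']; rintro rfl; exact hpπ htπ')
          simp only [v] at *
          omega
        · have h1 : t ∣ N := by
            rw [← hbo]
            exact (Subgroup.orderOf_mk _ hb ▸ _root_.orderOf_dvd_natCard (⟨MulAut.conj s, hb⟩ : L)).trans hL
          have h3 := hout t ht h1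
          subst h3
          exact h.not_mem_pi_of_dvd hZ ht h0 htπ
  intro π L K L' K' h
  rcases h.cover hZ hg with h0 | h0
  · exact key _ _ _ _ _ h h0
  · exact key _ _ _ _ _ h.symm h0

/-! ### one element of order `l` -/

/-- every element of order `l` is conjugate into `⟨x₁⟩` -/
theorem exists_conj {l : ℕ} (hl : l.Prime) {T : Subgroup S} (hcyc : IsCyclic T) (hidx : ¬ l ∣ T.index) {x₁ : S}
    (hx₁ : x₁ ∈ T) (hx₁l : orderOf x₁ = l) {x : S} (hx : orderOf x = l) : ∃ g : S, g * x * g⁻¹ ∈ zpowers x₁ := by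
  have : Fact l.Prime := ⟨hl⟩
  obtain ⟨Q⟩ : Nonempty (Sylow l ↥T) := inferInstance
  have hQ : IsPGroup l ↥((Q : Subgroup ↥T).map T.subtype) := Q.isPGroup'.map _
  obtain ⟨P, hP⟩ := hQ.exists_le_sylow
  have h1 : Nat.card ↥((Q : Subgroup ↥T).map T.subtype) = Nat.card ↥(P : Subgroup S) := by
    rw [Subgroup.card_map_of_injective T.subtype_injective]
    rw [show Nat.card ↥(P : Subgroup S) = Nat.card P from rfl, show Nat.card ↥(Q : Subgroup ↥T) = Nat.card Q from rfl,
      P.card_eq_multiplicity, Q.card_eq_multiplicity]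
    have h2 : Nat.card ↥T * T.index = Nat.card S := T.card_mul_index
    rw [← h2, Nat.factorization_mul Nat.card_pos.ne' T.index_ne_zero_of_finite, Finsupp.add_apply,
      Nat.factorization_eq_zero_of_not_dvd hidx, add_zero]
  have h3 : (Q : Subgroup ↥T).map T.subtype = (P : Subgroup S) := Subgroup.eq_of_le_of_card_ge hP h1.ge
  obtain ⟨P', hP'⟩ := (isPGroup_zpowers hx).exists_le_sylow
  obtain ⟨g, hg⟩ := MulAction.exists_smul_eq S P' P
  refine ⟨g, ?_⟩
  have h4 : g * x * g⁻¹ ∈ (P : Subgroup S) := by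
    rw [← hg, Sylow.coe_subgroup_smul]
    exact Subgroup.smul_mem_pointwise_smul x (MulAut.conj g) _ (hP' (mem_zpowers x))
  have h5 : g * x * g⁻¹ ∈ T := by
    rw [← h3] at h4
    exact map_subtype_le _ h4
  refine H83.AutCount.mem_zpowers_of_cyclic hcyc hl hx₁l hx₁ h5 ?_
  rw [conj_pow, ← hx, pow_orderOf_eq_one, mul_one, mul_inv_cancel]

/-- `Tors` from one element -/
theorem tors_of {l N : ℕ} (hl : l.Prime) {T : Subgroup S} (hcyc : IsCyclic T) (hidx : ¬ l ∣ T.index) {x₁ : S}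
    (hx₁ : x₁ ∈ T) (hx₁l : orderOf x₁ = l) (hN : Nat.card T = N) (hc : ∀ y ∈ T, y ≠ 1 → centralizer {y} ≤ T)
    (hfix : ∀ b : MulAut S, b x₁ = x₁ → ∃ s ∈ T, b = MulAut.conj s) : Tors S l N := by
  intro x hx
  obtain ⟨g, hg⟩ := exists_conj hl hcyc hidx hx₁ hx₁l hx
  have hgo : orderOf (g * x * g⁻¹) = l := by rw [← hx]; exact MulEquiv.orderOf_eq (MulAut.conj g) x
  have hx₁g : x₁ ∈ zpowers (g * x * g⁻¹) := by
    have h1 : zpowers (g * x * g⁻¹) = zpowers x₁ := by
      apply Subgroup.eq_of_le_of_card_ge (zpowers_le.2 hg)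
      rw [Nat.card_zpowers, Nat.card_zpowers, hgo, hx₁l]
    rw [h1]
    exact mem_zpowers x₁
  have hmem : ∀ y, y ∈ T.map (MulAut.conj g⁻¹).toMonoidHom ↔ g * y * g⁻¹ ∈ T := by
    intro y
    constructor
    · rintro ⟨w, hw, rfl⟩
      have e : g * (MulAut.conj g⁻¹).toMonoidHom w * g⁻¹ = w := by
        show g * (g⁻¹ * w * g⁻¹⁻¹) * g⁻¹ = w
        group
      rw [e]; exact hw
    · intro hy
      refine ⟨_, hy, ?_⟩
      show g⁻¹ * (g * y * g⁻¹) * g⁻¹⁻¹ = y
      group
  refine ⟨T.map (MulAut.conj g⁻¹).toMonoidHom, ?_, ?_, ?_⟩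
  · rw [Subgroup.card_map_of_injective (MulAut.conj g⁻¹).injective, hN]
  · intro y hy hy1 z hz
    rw [hmem] at hy ⊢
    refine hc _ hy ?_ ?_
    · intro h1
      apply hy1
      have h2 : y = g⁻¹ * (g * y * g⁻¹) * g := by group
      rw [h2, h1]; group
    · rw [mem_centralizer_singleton_iff] at hz ⊢
      have h1 : g * z * g⁻¹ * (g * y * g⁻¹) = g * (z * y) * g⁻¹ := by group
      have h2 : g * y * g⁻¹ * (g * z * g⁻¹) = g * (y * z) * g⁻¹ := by group
      rw [h1, h2, hz]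
  · intro b hb
    have hb' : (MulAut.conj g * b * (MulAut.conj g)⁻¹) (g * x * g⁻¹) = g * x * g⁻¹ := by
      rw [MulAut.mul_apply, MulAut.mul_apply, ← map_inv, MulAut.conj_apply, MulAut.conj_apply]
      have e : g⁻¹ * (g * x * g⁻¹) * g⁻¹⁻¹ = x := by group
      rw [e, hb]
    have hb'' : (MulAut.conj g * b * (MulAut.conj g)⁻¹) x₁ = x₁ := by
      obtain ⟨k, hk⟩ := hx₁g
      rw [← hk]
      show (MulAut.conj g * b * (MulAut.conj g)⁻¹) ((g * x * g⁻¹) ^ k) = (g * x * g⁻¹) ^ k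
      rw [map_zpow, hb']
    obtain ⟨s, hs, he⟩ := hfix _ hb''
    refine ⟨g⁻¹ * s * g, ?_, ?_⟩
    · rw [hmem]
      have e : g * (g⁻¹ * s * g) * g⁻¹ = s := by group
      rw [e]; exact hs
    · have h1 : b = (MulAut.conj g)⁻¹ * (MulAut.conj g * b * (MulAut.conj g)⁻¹) * MulAut.conj g := by group
      rw [h1, he, map_mul, map_mul, map_inv]

end Cfsg.Agent.H699.PD
end

-- part: H699/PD/Row3D4
section
/-!
# S4246: the row `³D₄(q)` (helper699)
-/

set_option autoImplicit false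

namespace Cfsg.Agent.H699.PD

open Subgroup Cfsg Cfsg.Lie Cfsg.Agent.H568 Cfsg.Agent.H83 Cfsg.Agent.H83.AutCount Cfsg.Agent.H160.PD

universe u

/-! ### numbers -/

theorem fact_lt {p f : ℕ} (hp : p.Prime) (hf : 1 ≤ f) : f.factorization p < f := by
  have h1 : p ^ f.factorization p ≤ f := Nat.ordProj_le p (by omega)
  exact lt_of_lt_of_le (Nat.lt_pow_self hp.one_lt) h1

theorem fact_three {p : ℕ} : (3 : ℕ).factorization p ≤ 1 := by
  rw [Nat.prime_three.factorization, Finsupp.single_apply]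
  split_ifs <;> omega

theorem fact_three_mul {p f : ℕ} (hf : 1 ≤ f) :
    (3 * f).factorization p = (3 : ℕ).factorization p + f.factorization p := by
  rw [Nat.factorization_mul (by norm_num) (by omega), Finsupp.add_apply]

theorem fact_out {p f : ℕ} (hp : p.Prime) (hf : 1 ≤ f) : (3 * f).factorization p < f ∨ (p = 3 ∧ f = 1) := by
  rw [fact_three_mul hf]
  by_cases hp3 : p = 3
  · subst hp3
    by_cases hf1 : f = 1
    · exact Or.inr ⟨rfl, hf1⟩
    · left
      have h0 : (3 : ℕ).factorization 3 = 1 := Nat.prime_three.factorization_self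
      rw [h0]
      obtain ⟨w, hw⟩ : ∃ w, w = f.factorization 3 := ⟨_, rfl⟩
      have h1 : 3 ^ w ≤ f := by rw [hw]; exact Nat.ordProj_le 3 (by omega)
      rw [← hw]
      rcases Nat.eq_zero_or_pos w with h2 | h2
      · omega
      · have h3 : ∀ k, k + 3 ≤ 3 ^ (k + 1) := by
          intro k
          induction k with
          | zero => norm_num
          | succ k ih => rw [pow_succ]; omega
        have h4 := h3 (w - 1)
        rw [show w - 1 + 1 = w by omega] at h4
        omega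
  · left
    have h0 : (3 : ℕ).factorization p = 0 := by
      apply Nat.factorization_eq_zero_of_not_dvd
      intro h
      exact hp3 ((Nat.prime_dvd_prime_iff_eq hp Nat.prime_three).1 h)
    rw [h0, zero_add]
    exact fact_lt hp hf

/-! ### centralisers -/

section

variable {S : Type*} [Group S]

theorem centralizer_conj (g x : S) :
    (centralizer {x}).map (MulAut.conj g).toMonoidHom = centralizer {g * x * g⁻¹} := by
  ext y
  rw [mem_centralizer_singleton_iff]
  constructor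
  · rintro ⟨z, hz, rfl⟩
    have hz' := mem_centralizer_singleton_iff.1 hz
    show g * z * g⁻¹ * (g * x * g⁻¹) = g * x * g⁻¹ * (g * z * g⁻¹)
    have e1 : g * z * g⁻¹ * (g * x * g⁻¹) = g * (z * x) * g⁻¹ := by group
    have e2 : g * x * g⁻¹ * (g * z * g⁻¹) = g * (x * z) * g⁻¹ := by group
    rw [e1, e2, hz']
  · intro hy
    refine ⟨g⁻¹ * y * g, mem_centralizer_singleton_iff.2 ?_, ?_⟩
    · have e1 : g⁻¹ * y * g * x = g⁻¹ * (y * (g * x * g⁻¹)) * g := by group
      have e2 : x * (g⁻¹ * y * g) = g⁻¹ * (g * x * g⁻¹ * y) * g := by group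
      rw [e1, e2, hy]
    · show g * (g⁻¹ * y * g) * g⁻¹ = y
      group

theorem card_centralizer_conj (g x : S) : Nat.card ↥(centralizer ({g * x * g⁻¹} : Set S)) =
    Nat.card ↥(centralizer ({x} : Set S)) := by
  rw [← centralizer_conj, Subgroup.card_map_of_injective (MulAut.conj g).injective]

theorem isCyclic_centralizer_conj (g x : S) (h : IsCyclic ↥(centralizer ({g * x * g⁻¹} : Set S))) :
    IsCyclic ↥(centralizer ({x} : Set S)) := by
  rw [← centralizer_conj] at h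
  have e := (centralizer ({x} : Set S)).equivMapOfInjective (MulAut.conj g).toMonoidHom (MulAut.conj g).injective
  exact isCyclic_of_injective e.toMonoidHom e.injective

end

/-! ### the row -/

/-- **`Row (³D₄(q))`.** -/
theorem row_tw {K : Type u} [Field K] [Fintype K] {q : ℕ} (hq : IsPrimePow q) (hK : Fintype.card K = q ^ 3) :
    _root_.Cfsg.Agent.H160.PD.Row ↥(twistedD4 K q) := by
  obtain ⟨r, f, hr', hf, hqf⟩ := id hq
  have hr'' : r.Prime := hr'.nat_prime
  have hr : Fact r.Prime := ⟨hr''⟩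
  have hcr : CharP K r := by
    obtain ⟨r', hr1⟩ := CharP.exists K
    have hr2 : r'.Prime := CharP.char_is_prime K r'
    obtain ⟨m, -, hm⟩ := FiniteField.card K r'
    rw [hK, ← hqf, ← pow_mul] at hm
    have h1 : r ∣ r' ^ (m : ℕ) := by
      rw [← hm]
      exact dvd_pow_self r (by omega)
    have h2 := (Nat.prime_dvd_prime_iff_eq hr'' hr2).1 (hr''.dvd_of_dvd_pow h1)
    rw [h2]; exact hr1
  obtain ⟨hsim, hna⟩ := S1071.result hq hK
  have hZ := H69.OutTwD4.center_eq_bot hq hK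
  obtain ⟨l, hl, hord, hlN', hlf, hlr⟩ := RowD4.exists_l hr'' (f := f) (by omega)
  have hlN : l ∣ q ^ 4 - q ^ 2 + 1 := by rw [← hqf]; exact hlN'
  obtain ⟨x0, hx0, hx0c, b, hb⟩ := TorD4.exists_x0 hq hK r
  set N := q ^ 4 - q ^ 2 + 1 with hN
  have hNpos : 0 < N := by omega
  obtain ⟨m, hm⟩ := hlN
  have hm0 : m ≠ 0 := by rintro rfl; omega
  -- the element of order `l`
  set x1 := x0 ^ m with hx1
  have hx1l : orderOf x1 = l := by
    rw [hx1, orderOf_pow_of_dvd hm0 (by rw [hx0, hm]; exact Dvd.intro_left _ rfl), hx0, hm,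
      Nat.mul_div_cancel _ (Nat.pos_of_ne_zero hm0)]
  have hne1 : ∀ {x : ↥(twistedD4 K q)}, orderOf x = l → x ≠ 1 := by
    intro x hx h
    rw [h, orderOf_one] at hx
    exact hl.one_lt.ne hx
  have hx1T : x1 ∈ zpowers x0 := npow_mem_zpowers x0 m
  have hT : centralizer {x1} = zpowers x0 := hx0c x1 hx1T (hne1 hx1l)
  set T := zpowers x0 with hTdef
  have hTcard : Nat.card ↥T = N := by rw [hTdef, Nat.card_zpowers, hx0]
  have hcyc : IsCyclic ↥T := by rw [hTdef]; infer_instance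
  have hbx : b x1 = x1 ^ r := by rw [hx1, map_pow, hb, ← pow_mul, ← pow_mul, mul_comm]
  have hcard := S1067.result hq hK
  have hidx : T.index * N = q ^ 12 * (q ^ 2 - 1) * (q ^ 6 - 1) * (q ^ 8 + q ^ 4 + 1) := by
    rw [← hcard, ← hTcard, mul_comm]
    exact T.card_mul_index
  have hmod : ∀ m, m ∣ N → T.index ≡ 4 [MOD m] := fun m hm => RowD4.index_mod hq.one_lt.le hm hidx
  have hout : (MulAut.conj : ↥(twistedD4 K q) →* MulAut ↥(twistedD4 K q)).range.index = 3 * f := by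
    rw [← H997.OutCard.card_out, H69.OutTwD4.card_out hq hK r, H166.FieldAut.card_ringAut r (3 * f)]
    rw [hK, ← hqf, ← pow_mul, mul_comm]
  have hstab : Nat.card ↥(MulAction.stabilizer (MulAut ↥(twistedD4 K q)) x1) ≤ Nat.card ↥T := by
    have := H83.AutCount.card_fix_le hl hx1l hT hcyc hZ (c := 4) (by norm_num) (by omega) (hmod l ⟨m, hm⟩) hbx hord (d := 1)
      (by rw [hout]; omega) (by omega)
    rwa [one_mul] at this
  have hTx : ∀ y ∈ T, y * x1 = x1 * y := fun y hy => by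
    rw [← hT] at hy
    exact mem_centralizer_singleton_iff.1 hy
  have hlidx : ¬ l ∣ T.index := by
    intro h
    have h1 := hmod l ⟨m, hm⟩
    have h2 : l ∣ 4 := (Nat.modEq_zero_iff_dvd).1 (h1.symm.trans (Nat.modEq_zero_iff_dvd.2 h))
    have := Nat.le_of_dvd (by norm_num) h2
    omega
  -- all elements of order `l`
  have hall : ∀ x : ↥(twistedD4 K q), orderOf x = l → ∃ g, centralizer {g * x * g⁻¹} = T := by
    intro x hx
    obtain ⟨g, hg⟩ := exists_conj hl hcyc hlidx hx1T hx1l hx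
    refine ⟨g, hx0c _ ((zpowers_le.2 hx1T) hg) ?_⟩
    apply hne1
    rw [← hx]; exact MulEquiv.orderOf_eq (MulAut.conj g) x
  have hallc : ∀ x : ↥(twistedD4 K q), orderOf x = l → Nat.card ↥(centralizer ({x} : Set _)) = N := by
    intro x hx
    obtain ⟨g, hg⟩ := hall x hx
    rw [← card_centralizer_conj g, hg, hTcard]
  have hallcyc : ∀ x : ↥(twistedD4 K q), orderOf x = l → IsCyclic ↥(centralizer ({x} : Set _)) := by
    intro x hx
    obtain ⟨g, hg⟩ := hall x hx
    refine isCyclic_centralizer_conj g x ?_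
    rw [hg]; exact hcyc
  have hq1 := hq.one_lt
  have hrq : r ∣ q := by rw [← hqf]; exact dvd_pow_self r (by omega)
  have hNq : N = q ^ 2 * (q ^ 2 - 1) + 1 := by
    have h1 : 1 ≤ q ^ 2 := Nat.one_le_pow _ _ (by omega)
    have h2 : q ^ 2 ≤ q ^ 4 := Nat.pow_le_pow_right (by omega) (by norm_num)
    rw [hN]
    zify [h1, h2]
    ring
  have hrN : ¬ r ∣ N := by
    intro h
    rw [hNq] at h
    have h1 : r ∣ q ^ 2 * (q ^ 2 - 1) := (dvd_pow hrq (by norm_num)).mul_right _
    exact hr''.one_lt.ne' (Nat.dvd_one.1 ((Nat.dvd_add_right h1).1 h))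
  have h2N : ¬ 2 ∣ N := by
    intro h
    rw [hNq] at h
    have h1 : 2 ∣ q ^ 2 * (q ^ 2 - 1) := by
      have h3 : 1 ≤ q ^ 2 := Nat.one_le_pow _ _ (by omega)
      rw [show q ^ 2 * (q ^ 2 - 1) = (q ^ 2 - 1) * (q ^ 2 - 1 + 1) by rw [Nat.sub_add_cancel h3, mul_comm]]
      exact even_iff_two_dvd.1 (Nat.even_mul_succ_self _)
    omega
  have h2S : 2 ∣ Nat.card ↥(twistedD4 K q) := by
    rw [hcard]
    have h3 : 1 ≤ q ^ 2 := Nat.one_le_pow _ _ (by omega)
    have h1 : 2 ∣ q ^ 2 * (q ^ 2 - 1) := by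
      rw [show q ^ 2 * (q ^ 2 - 1) = (q ^ 2 - 1) * (q ^ 2 - 1 + 1) by rw [Nat.sub_add_cancel h3, mul_comm]]
      exact even_iff_two_dvd.1 (Nat.even_mul_succ_self _)
    refine h1.trans ⟨q ^ 10 * ((q ^ 6 - 1) * (q ^ 8 + q ^ 4 + 1)), by ring⟩
  have h12 : 12 * f ≤ v r ↥(twistedD4 K q) := by
    rw [v, ← hr''.pow_dvd_iff_le_factorization Nat.card_pos.ne', hcard, mul_comm 12 f, pow_mul, hqf, mul_assoc,
      mul_assoc]
    exact Dvd.intro _ rfl
  have hv3 : (out ↥(twistedD4 K q)).factorization r = (3 * f).factorization r := by rw [out, hout]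
  have hg : Good ↥(twistedD4 K q) l := by
    refine ⟨hl, by omega, ?_⟩
    have h1 : (out ↥(twistedD4 K q)).factorization l = 0 := by
      rw [out, hout]
      apply Nat.factorization_eq_zero_of_not_dvd
      intro h
      have := Nat.le_of_dvd (by omega) h
      omega
    rw [h1, v_pos hl]
    rw [← hx1l]
    exact _root_.orderOf_dvd_natCard x1
  refine row_tor hZ hr'' hg (f := f) (tors_of hl hcyc hlidx hx1T hx1l hTcard (fun y hy hy1 => (hx0c y hy hy1).le)
    fun b hb => inner_of_fix hZ hTx hstab hb) hrN h2N ?_ (by omega) (fun b hb hbr => syl hq hK hqf.symm hb hbr) ?_ ?_ h2S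
    fun hr2 y hy => bt hq hK hqf.symm (by omega) hr2 hy
  · intro hr2 H hH hlH
    have h1 := odd_bound_of_uniq (a := 0) (b := 0) hr'' hl (Ne.symm hlr) (uniq_of_cyclic hallcyc)
      (fun X hX x hxX hx => by
        have h2 := RowD4.noNorm_own hq hK hqf.symm (by omega) hl hord ⟨m, hm⟩ hlr hx (hallc x hx) X hX hxX
        rw [h2, v, Subgroup.card_bot, Nat.factorization_one]
        exact le_rfl)
      (fun x hx => by
        have hcx := hallc x hx
        have h3 : (centralizer ({x} : Set ↥(twistedD4 K q))).index = T.index := by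
          have h4 := (centralizer ({x} : Set ↥(twistedD4 K q))).card_mul_index
          have h5 := T.card_mul_index
          rw [hcx] at h4
          rw [hTcard] at h5
          exact Nat.eq_of_mul_eq_mul_left hNpos (h4.trans h5.symm)
        have h2 := card_norm hl hx rfl (hallcyc x hx) (c := 4) (by norm_num) (by omega)
          (by rw [h3]; exact hmod l ⟨m, hm⟩)
        rw [v, h2, hcx]
        apply le_of_eq
        apply Nat.factorization_eq_zero_of_not_dvd
        intro h6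
        rcases hr''.dvd_mul.1 h6 with h7 | h7
        · have h8 : r ∣ 2 ^ 2 := h7
          exact hr2 ((Nat.prime_dvd_prime_iff_eq hr'' Nat.prime_two).1 (hr''.dvd_of_dvd_pow h8))
        · exact hrN h7) H hH hlH
    omega
  · rw [hv3]
    rcases fact_out hr'' (f := f) (by omega) with h | ⟨rfl, rfl⟩
    · exact Or.inl h
    · right
      have h1 : q = 3 := by rw [← hqf]; norm_num
      have h2 : N = 73 := by rw [hN, h1]; norm_num
      intro t ht htN
      have h73 : Nat.Prime 73 := by norm_num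
      rw [h2] at htN
      rw [(Nat.prime_dvd_prime_iff_eq ht h73).1 htN]
      have h3 : l ∣ 73 := ⟨m, by rw [← h2, hm]⟩
      exact ((Nat.prime_dvd_prime_iff_eq hl h73).1 h3).symm
  · rw [hv3, fact_three_mul (by omega)]
    have h1 := fact_three (p := r)
    have h2 := fact_lt hr'' (f := f) (by omega)
    omega

/-- **The row `³D₄(q)` of S4246.** -/
theorem row_3d4 {G : Type*} [Group G] {K : Type u} [Field K] [Fintype K] {q : ℕ} (hq : IsPrimePow q)
    (hK : Fintype.card K = q ^ 3) (e : G ≃* ↥(twistedD4 K q)) : _root_.Cfsg.Agent.H160.PD.Row G := (row_tw hq hK).congr e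

/-- **The row `³D₄(q)` of S4246.** -/
theorem row_iso3D4 {G : Type*} [Group G] (h : Lie.Iso3D4 G) : _root_.Cfsg.Agent.H160.PD.Row G := by
  obtain ⟨K, i1, i2, q, hq, hK, ⟨e⟩⟩ := h
  exact row_3d4 hq hK e

end Cfsg.Agent.H699.PD
end

-- part: H874/PD/TwoB
section
/-!
# Rows of S4246: the large Ree groups (helper874)
-/

set_option autoImplicit false

namespace Cfsg.Agent.H874.PD

open Subgroup Cfsg Cfsg.Lie Cfsg.Agent.H160.PD Cfsg.Agent.H967.CopMat Cfsg.Agent.H967.CopSz
  Cfsg.Agent.H798.RowTw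

universe u

/-- Elements of prime order commuting with an element of prime order of the isolated torus of odd order. -/
theorem isolated_odd {G : Type*} [Group G] [Finite G] {T : Subgroup G} (hT : IsCyclic ↥T)
    (hc : ∀ r : ℕ, r.Prime → ∀ y ∈ T, orderOf y = r → centralizer {y} ≤ T) (hodd : ¬ 2 ∣ Nat.card ↥T) {l : ℕ}
    (hl : l.Prime) (hlT : l ∣ Nat.card ↥T) {x y z : G} (hx : orderOf x = l) (hy : (orderOf y).Prime)
    (hxy : x * y = y * x) (hz : orderOf z = 2) : y * z ≠ z * y := by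
  intro hyz
  have := Fact.mk hl
  have h1 := (isolated hT hc hlT).2 x y hx hxy
  have := Fact.mk hy
  have h2 := (isolated hT hc h1).2 y z rfl hyz
  rw [hz] at h2
  exact hodd h2

/-- **The row of the large Ree groups.** -/
theorem row_2f4 (K : Type u) [Group K] [Finite K] [IsSimpleGroup K] (h : Cfsg.Lie.Iso2F4 K) :
    Cfsg.Agent.H160.PD.Row K := by
  obtain ⟨F, iF, iF', m, hm, hF, ⟨e⟩⟩ := h
  have hs : IsSimpleGroup ↥(twistedF4 F (2 ^ m)) := e.symm.isSimpleGroup
  have hcard := Cfsg.Agent.S1068.result hF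
  have hF' : Nat.card F = 2 ^ (2 * m + 1) := by rw [Nat.card_eq_fintype_card, hF]
  have h2f : Fact (Nat.Prime 2) := ⟨Nat.prime_two⟩
  have hc2 : CharP F 2 := charP_of_card Nat.prime_two hF
  have hS : Cfsg.Lie.Iso2F4 ↥(twistedF4 F (2 ^ m)) := ⟨F, iF, iF', m, hm, hF, ⟨MulEquiv.refl _⟩⟩
  obtain ⟨l, hl, hE, hdv, hl2⟩ := Cfsg.Agent.Lib.Zsigmondy.exists_primitive (a := 2) (n := 12 * (2 * m + 1)) le_rfl
    (by omega) (by omega) (by omega)
  have hlle : 12 * (2 * m + 1) ≤ l - 1 := Nat.le_of_dvd (by have := hl.two_le; omega) hdv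
  have hq1 : 1 ≤ 2 ^ (2 * m + 1) := Nat.one_le_pow _ _ (by norm_num)
  have hldvd : l ∣ (2 ^ (2 * m + 1)) ^ 6 + 1 := by
    have h1 : l ∣ 2 ^ (12 * (2 * m + 1)) - 1 := (hE _).2 dvd_rfl
    have h2 : 2 ^ (12 * (2 * m + 1)) - 1 = (2 ^ (6 * (2 * m + 1)) - 1) * ((2 ^ (2 * m + 1)) ^ 6 + 1) := by
      have h3 : 2 ^ (12 * (2 * m + 1)) = ((2 ^ (2 * m + 1)) ^ 6) ^ 2 := by rw [← pow_mul, ← pow_mul]; ring_nf
      have h4 : 2 ^ (6 * (2 * m + 1)) = (2 ^ (2 * m + 1)) ^ 6 := by rw [← pow_mul]; ring_nf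
      rw [h3, h4]
      exact fac _
    rw [h2] at h1
    rcases hl.dvd_mul.1 h1 with h3 | h3
    · have h4 := (hE _).1 h3
      have := Nat.le_of_dvd (by omega) h4
      omega
    · exact h3
  have hdc : l ∣ Nat.card ↥(twistedF4 F (2 ^ m)) := by
    rw [hcard]
    exact hldvd.mul_left _
  have : Fact l.Prime := ⟨hl⟩
  have hna : ¬ IsMulCommutative ↥(twistedF4 F (2 ^ m)) := by
    intro hc
    have h1 : (Nat.card ↥(twistedF4 F (2 ^ m))).Prime := by
      let _ : CommGroup ↥(twistedF4 F (2 ^ m)) := { mul_comm := fun a b => hc.is_comm.comm a b }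
      exact IsSimpleGroup.prime_card
    have h2 : 2 ∣ Nat.card ↥(twistedF4 F (2 ^ m)) := by
      rw [hcard, mul_assoc, mul_assoc, mul_assoc]
      exact ((dvd_pow_self 2 (by omega)).trans (dvd_pow_self _ (by norm_num))).mul_right _
    have h3 := (Nat.prime_dvd_prime_iff_eq Nat.prime_two h1).1 h2
    have h4 := (Nat.prime_dvd_prime_iff_eq hl h1).1 hdc
    omega
  obtain ⟨ρ, hρi, hρ⟩ := exists_rep (F := F) (2 ^ m) hna
  -- the torus of `F₄(q)`
  obtain ⟨T, hT, hTc, hTi⟩ := f4_torus (F := F) _ hF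
  have hlT : l ∣ Nat.card ↥T := by
    set q := 2 ^ (2 * m + 1) with hq
    have h1 : (q ^ 2 + 1) * (Nat.card ↥T) = q ^ 6 + 1 := by
      have h2 : (q ^ 2 + 1) * (Nat.card ↥T + q ^ 2) = (q ^ 2 + 1) * (q ^ 4 + 1) := by rw [hTc]
      rw [mul_add] at h2
      have h3 : (q ^ 2 + 1) * (q ^ 4 + 1) = (q ^ 6 + 1) + (q ^ 2 + 1) * q ^ 2 := by ring
      rw [h3] at h2
      exact Nat.add_right_cancel h2
    rw [← h1] at hldvd
    rcases hl.dvd_mul.1 hldvd with h2 | h2
    · exfalso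
      have h3 : l ∣ 2 ^ (4 * (2 * m + 1)) - 1 := by
        have h4 : 2 ^ (4 * (2 * m + 1)) - 1 = (q ^ 2 - 1) * (q ^ 2 + 1) := by
          have h5 : 2 ^ (4 * (2 * m + 1)) = (q ^ 2) ^ 2 := by rw [hq, ← pow_mul, ← pow_mul]; ring_nf
          rw [h5]
          exact fac _
        rw [h4]
        exact h2.mul_left _
      have h4 := Nat.le_of_dvd (by omega) ((hE _).1 h3)
      omega
    · exact h2
  have hTodd : ¬ 2 ∣ Nat.card ↥T := by
    have hq : 2 ∣ 2 ^ (2 * m + 1) := dvd_pow_self 2 (by omega)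
    have h1 : 2 ∣ (2 ^ (2 * m + 1)) ^ 2 := hq.trans (dvd_pow_self _ (by norm_num))
    have h2 : 2 ∣ (2 ^ (2 * m + 1)) ^ 4 := hq.trans (dvd_pow_self _ (by norm_num))
    omega
  have hle := twF4_le_group (K := F) (2 ^ m)
  let inc := Subgroup.inclusion hle
  have hinc : Function.Injective inc := Subgroup.inclusion_injective hle
  have hout : out ↥(twistedF4 F (2 ^ m)) = 2 * m + 1 := S2128.result hm hF
  refine (row_two (S := ↥(twistedF4 F (2 ^ m))) hna (by unfold Cfsg.IsLieTypeChar; (clear * - hS; tauto)) (by rw [hout]; omega)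
    (good_of_lt hl (by omega) hout (by omega) (by omega) hdc) ?_ ?_).congr e
  · intro x hx a ha
    refine inner_of_fixes (stab_f4 _) ?_ ρ hρ Nat.prime_two hF' ⟨m, rfl⟩ hl (by omega) hE
      (by rw [Fintype.card_fin]; norm_num) hx ?_ a ha
    · intro ψ
      obtain ⟨g, σ, h⟩ := Cfsg.Agent.H71.FldAut.twF4_aut hm hF ψ
      exact ⟨g, σ, h⟩
    · intro h
      have h1 : x = 1 := hρi (by rw [h, map_one])
      rw [h1, orderOf_one] at hx
      exact hl.one_lt.ne hx
  · intro x hx y hy hy2 hxy z hz hyz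
    refine isolated_odd hT hTi hTodd hl hlT (x := inc x) (y := inc y) (z := inc z) ?_ ?_ ?_ ?_ ?_
    · rw [orderOf_injective inc hinc, hx]
    · rwa [orderOf_injective inc hinc]
    · rw [← map_mul, ← map_mul, hxy]
    · rw [orderOf_injective inc hinc, hz]
    · rw [← map_mul, ← map_mul, hyz]

end Cfsg.Agent.H874.PD
end

-- part: H874/PD/CharTwo
section
/-!
# Rows of S4246: groups of characteristic two type (helper874)
-/

set_option autoImplicit false

namespace Cfsg.Agent.H874.PD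

open Subgroup Cfsg Cfsg.Agent.H160.PD Cfsg.Agent.Lib.Cores

variable {S : Type*} [Group S] [Finite S]

omit [Finite S] in
/-- an element of odd order centralising `R` and normalising `T`, `|T : R| = 2`, centralises `T` -/
theorem comm_of_index_two {R T : Subgroup S} (hp : IsPGroup 2 ↥R) (hi : R.relIndex T = 2) {s : S}
    (hs : Odd (orderOf s)) (hR : ∀ r ∈ R, s * r = r * s) {o : S} (ho : o ∈ T) (hso : s * o * s⁻¹ ∈ T) :
    s * o = o * s := by
  by_cases hoR : o ∈ R
  · exact hR o hoR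
  have h1 : s * o * s⁻¹ ∉ R := by
    intro h
    have h2 := hR _ h
    apply hoR
    have h3 : s * o * s⁻¹ = o := by
      have h4 : s * (s * o * s⁻¹) = s * o := by rw [h2]; group
      exact mul_left_cancel h4
    rwa [← h3]
  have h2 : o⁻¹ * (s * o * s⁻¹) ∈ R := by
    have h3 := Subgroup.mul_mem_iff_of_index_two (H := R.subgroupOf T) hi (a := ⟨o, ho⟩⁻¹) (b := ⟨s * o * s⁻¹, hso⟩)
    simp only [mem_subgroupOf, coe_mul, coe_inv, inv_mem_iff] at h3
    exact h3.2 (iff_of_false hoR h1)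
  obtain ⟨r, hr, hor⟩ : ∃ r ∈ R, s * o = o * r * s := ⟨_, h2, by group⟩
  have h3 : ∀ n : ℕ, s ^ n * o = o * r ^ n * s ^ n := by
    intro n
    induction n with
    | zero => simp
    | succ n ih =>
      have hc : s ^ n * r = r * s ^ n := ((show Commute s r from hR r hr).pow_left n).eq
      calc s ^ (n + 1) * o = s ^ n * (s * o) := by rw [pow_succ]; group
        _ = s ^ n * o * r * s := by rw [hor]; group
        _ = o * r ^ n * (s ^ n * r) * s := by rw [ih]; group
        _ = o * r ^ n * r * s ^ n * s := by rw [hc]; group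
        _ = o * r ^ (n + 1) * s ^ (n + 1) := by rw [pow_succ, pow_succ]; group
  have h4 := h3 (orderOf s)
  rw [pow_orderOf_eq_one, one_mul, mul_one] at h4
  have h5 : r ^ orderOf s = 1 := by
    have h6 : o * r ^ orderOf s = o * 1 := by rw [mul_one]; exact h4.symm
    exact mul_left_cancel h6
  obtain ⟨k, hk⟩ := hp ⟨r, hr⟩
  have hk' : r ^ 2 ^ k = 1 := by simpa only [_root_.SubmonoidClass.mk_pow, _root_.OneMemClass.coe_one] using congrArg Subtype.val hk
  have h7 : orderOf r ∣ Nat.gcd (orderOf s) (2 ^ k) :=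
    Nat.dvd_gcd (orderOf_dvd_of_pow_eq_one h5) (orderOf_dvd_of_pow_eq_one hk')
  have h8 : Nat.gcd (orderOf s) (2 ^ k) = 1 := Nat.Coprime.pow_right k (Nat.coprime_two_right.2 hs)
  rw [h8, Nat.dvd_one, orderOf_eq_one_iff] at h7
  rw [h7, mul_one] at hor
  exact hor

/-- **Characteristic two type**: an element of odd prime order centralises no subgroup of index at most two of a Sylow
`2`-subgroup. -/
theorem v_centralizer_add_one_lt (h : IsCharacteristicTwoType S) (h2 : 2 ≤ v 2 S) {s : S} (hs : (orderOf s).Prime)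
    (hs2 : orderOf s ≠ 2) : v 2 (centralizer {s}) + 1 < v 2 S := by
  have hp2 : Fact (Nat.Prime 2) := ⟨Nat.prime_two⟩
  by_contra hlt
  rw [not_lt] at hlt
  let R0 : Sylow 2 ↥(centralizer ({s} : Set S)) := default
  obtain ⟨R, hR⟩ : ∃ R : Subgroup S, R = (R0 : Subgroup ↥(centralizer ({s} : Set S))).map (centralizer ({s} : Set S)).subtype :=
    ⟨_, rfl⟩
  have hRc : Nat.card ↥R = 2 ^ v 2 (centralizer ({s} : Set S)) := by
    rw [hR, ← Nat.card_congr ((R0 : Subgroup ↥(centralizer ({s} : Set S))).equivMapOfInjective _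
      (subtype_injective _)).toEquiv, R0.card_eq_multiplicity]
  have hRs : ∀ r ∈ R, s * r = r * s := by
    intro r hr
    rw [hR] at hr
    obtain ⟨y, -, rfl⟩ := hr
    exact (mem_centralizer_singleton_iff.1 y.2).symm
  have hRp : IsPGroup 2 ↥R := IsPGroup.of_card hRc
  have hR1 : R ≠ ⊥ := by
    intro h1
    rw [h1, card_bot] at hRc
    have h3 : v 2 (centralizer ({s} : Set S)) ≠ 0 := by omega
    have h4 := Nat.one_lt_pow h3 (by norm_num : 1 < 2)
    omega
  obtain ⟨T, hT⟩ := hRp.exists_le_sylow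
  have hTc : Nat.card ↥(T : Subgroup S) = 2 ^ v 2 S := T.card_eq_multiplicity
  have hi : R.relIndex (T : Subgroup S) ≤ 2 := by
    have h1 := card_mul_index (R.subgroupOf (T : Subgroup S))
    rw [Nat.card_congr (subgroupOfEquivOfLe hT).toEquiv, hRc, hTc] at h1
    have h3 : 2 ^ v 2 S ≤ 2 ^ v 2 (centralizer ({s} : Set S)) * 2 := by
      rw [← pow_succ]
      exact Nat.pow_le_pow_right (by norm_num) hlt
    rw [← h1] at h3
    exact Nat.le_of_mul_le_mul_left h3 (by positivity)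
  have hi0 : R.relIndex (T : Subgroup S) ≠ 0 := (index_ne_zero_of_finite (H := R.subgroupOf (T : Subgroup S)))
  have hnT : (T : Subgroup S) ≤ normalizer (R : Set S) := by
    by_cases h1 : R.relIndex (T : Subgroup S) = 1
    · exact (relIndex_eq_one.1 h1).trans le_normalizer
    · have h2 : R.relIndex (T : Subgroup S) = 2 := by omega
      have h3 : (R.subgroupOf (T : Subgroup S)).Normal := normal_of_index_eq_two h2
      exact (normal_subgroupOf_iff_le_normalizer hT).1 h3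
  have hodd : Odd (orderOf s) := hs.odd_of_ne_two hs2
  have hsN : s ∈ normalizer (R : Set S) := by
    apply centralizer_le_normalizer
    rw [mem_centralizer_iff]
    intro r hr
    exact (hRs r hr).symm
  -- the largest normal `2`-subgroup of the normaliser
  have hchar := h.2 R hRp hR1
  have hOT : ∀ o ∈ pCore 2 ↥(normalizer (R : Set S)), (o : S) ∈ (T : Subgroup S) := by
    intro o ho
    have h1 : Nat.card ↥((T : Subgroup S).subgroupOf (normalizer (R : Set S))) =
        2 ^ (Nat.card ↥(normalizer (R : Set S))).factorization 2 := by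
      rw [Nat.card_congr (subgroupOfEquivOfLe hnT).toEquiv, hTc]
      congr 1
      apply le_antisymm
      · have h2 : 2 ^ v 2 S ∣ Nat.card ↥(normalizer (R : Set S)) := by
          rw [← hTc]
          exact card_dvd_of_le hnT
        exact (Nat.prime_two.pow_dvd_iff_le_factorization Nat.card_pos.ne').1 h2
      · exact (Nat.factorization_le_iff_dvd Nat.card_pos.ne' Nat.card_pos.ne').2 (card_subgroup_dvd_card _) 2
    have h2 := pCore_le_sylow (Sylow.ofCard _ h1) ho
    exact mem_subgroupOf.1 h2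
  have hsO : (⟨s, hsN⟩ : ↥(normalizer (R : Set S))) ∈ centralizer
      ((pCore 2 ↥(normalizer (R : Set S)) : Subgroup ↥(normalizer (R : Set S))) : Set ↥(normalizer (R : Set S))) := by
    rw [mem_centralizer_iff]
    intro o ho
    apply Subtype.ext
    show (o : S) * s = s * (o : S)
    have h3 : (⟨s, hsN⟩ * o * ⟨s, hsN⟩⁻¹ : ↥(normalizer (R : Set S))) ∈ pCore 2 ↥(normalizer (R : Set S)) :=
      (Cfsg.Agent.Lib.Cores.pCore_normal (G := ↥(normalizer (R : Set S))) 2).conj_mem o ho ⟨s, hsN⟩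
    have h4 : s * (o : S) * s⁻¹ ∈ (T : Subgroup S) := hOT _ h3
    by_cases h1 : R.relIndex (T : Subgroup S) = 1
    · exact (hRs _ (relIndex_eq_one.1 h1 (hOT o ho))).symm
    · exact (comm_of_index_two hRp (by omega) hodd hRs (hOT o ho) h4).symm
  have h5 := hchar hsO
  obtain ⟨k, hk⟩ := (IsPGroup.iff_orderOf.1 (pCore_isPGroup (G := ↥(normalizer (R : Set S))) 2)) ⟨_, h5⟩
  rw [Subgroup.orderOf_mk, Subgroup.orderOf_mk] at hk
  rw [hk] at hodd
  rcases Nat.eq_zero_or_pos k with h6 | h6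
  · subst h6
    rw [hk] at hs
    exact hs.one_lt.ne rfl
  · exact Nat.not_odd_iff_even.2 ((Nat.even_pow.2 ⟨even_two, h6.ne'⟩)) hodd

end Cfsg.Agent.H874.PD
end

-- part: H874/PD/Tits
section
/-!
# Rows of S4246: the Tits group (helper874)
-/

set_option autoImplicit false

namespace Cfsg.Agent.H874.PD

open Subgroup Cfsg Cfsg.Lie Cfsg.Agent.H160.PD Cfsg.Agent.H798.RowTw

universe u

/-- **The criterion with an isolated prime**, `|Out| ≤ 2`, characteristic two type. -/
theorem row_charTwo {S : Type*} [Group S] [Finite S] (hZ : center S = ⊥) (hc : IsCharacteristicTwoType S)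
    (h2 : 2 ≤ v 2 S) (hout : out S ≤ 2) {l : ℕ} (hl : l.Prime) (hl2 : l ≠ 2) (hd : l ∣ Nat.card S)
    (hC : ∀ x : S, orderOf x = l → ∀ y : S, (orderOf y).Prime → orderOf y ≠ 2 → x * y = y * x →
      ∀ z : S, orderOf z = 2 → y * z ≠ z * y) : Row S := by
  have hout0 : 0 < out S := Nat.pos_of_ne_zero out_ne_zero
  have hl3 : 3 ≤ l := by have := hl.two_le; omega
  have hg : Good S l := ⟨hl, hl2, by
    rw [Nat.factorization_eq_zero_of_lt (by omega)]
    exact (v_pos hl).2 hd⟩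
  have key : ∀ x : S, orderOf x = l → ∀ y : S, (orderOf y).Prime → orderOf y ≠ 2 → x * y = y * x →
      v 2 (centralizer {y}) = 0 := by
    intro x hx y hy hy2 hxy
    refine v_eq_zero_of_order Nat.prime_two fun z hz hz2 => hC x hx y hy hy2 hxy z hz2 ?_
    exact (mem_centralizer_singleton_iff.1 hz).symm
  -- automorphisms of odd prime order are inner
  have hin : ∀ b : MulAut S, (orderOf b).Prime → orderOf b ≠ 2 → ∃ s : S, b = MulAut.conj s := by
    intro b hb hb2
    have h1 := hb.odd_of_ne_two hb2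
    have h3 : b ^ 2 ∈ (MulAut.conj : S →* MulAut S).range := by
      have hN : (MulAut.conj : S →* MulAut S).range.Normal := conj_range_normal
      have h4 : out S = 1 ∨ out S = 2 := by omega
      rcases h4 with h4 | h4
      · have h5 : (MulAut.conj : S →* MulAut S).range = ⊤ := index_eq_one.1 h4
        rw [h5]
        trivial
      · exact sq_mem_of_index_two h4 b
    have h4 : b ∈ (MulAut.conj : S →* MulAut S).range := by
      obtain ⟨k, hk⟩ := h1
      have h5 : b * (b ^ 2) ^ k = 1 := by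
        rw [← pow_mul, ← pow_succ', ← hk, pow_orderOf_eq_one]
      have h6 : b = ((b ^ 2) ^ k)⁻¹ := eq_inv_of_mul_eq_one_left h5
      rw [h6]
      exact inv_mem (pow_mem h3 k)
    obtain ⟨s, hs⟩ := h4
    exact ⟨s, hs.symm⟩
  refine row_iso hZ (c := 0) hg (fun x hx => ?_) (fun b hb hb2 x hx hbx => ?_) (fun b hb hb2 => ?_)
  · exact (key x hx x (hx ▸ hl) (hx ▸ hl2) rfl).le
  · obtain ⟨s, rfl⟩ := hin b hb hb2
    rw [orderOf_conj' hZ] at hb hb2
    rw [Fx_conj]
    refine (key x hx s hb hb2 ?_).le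
    rw [MulAut.conj_apply, mul_inv_eq_iff_eq_mul] at hbx
    exact hbx.symm
  · obtain ⟨s, rfl⟩ := hin b hb hb2
    rw [orderOf_conj' hZ] at hb hb2
    rw [Fx_conj]
    have h3 := v_centralizer_add_one_lt hc h2 hb hb2
    have h4 : (out S).factorization 2 ≤ 1 := by
      have h5 : out S = 1 ∨ out S = 2 := by omega
      rcases h5 with h5 | h5 <;> rw [h5]
      · simp
      · exact (Nat.Prime.factorization_self Nat.prime_two).le
    omega

/-- The row of a group with an embedding into `F₄(2)` -/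
theorem row_tits_aux {K : Type u} [Group K] [Finite K] [IsSimpleGroup K] (hna : ¬ IsMulCommutative K)
    (hcard : Nat.card K = 2 ^ 11 * 3 ^ 3 * 5 ^ 2 * 13) (hc : IsCharacteristicTwoType K)
    (hidx : ∀ (N : Subgroup (MulAut K)) [N.Normal], Nonempty (↥N ≃* K) → centralizer (N : Set (MulAut K)) = ⊥ →
      N.index ≤ 2) {G : Type*} [Group G] [Finite G] {T : Subgroup G} (hT : IsCyclic ↥T) (hT13 : Nat.card ↥T = 13)
    (hTi : ∀ r : ℕ, r.Prime → ∀ y ∈ T, orderOf y = r → centralizer {y} ≤ T) (inc : K →* G)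
    (hinc : Function.Injective inc) : Cfsg.Agent.H160.PD.Row K := by
  have hZ := Cfsg.Agent.H160.PD.center_eq_bot hna
  refine row_charTwo (S := K) hZ hc ?_ ?_ (l := 13) (by norm_num) (by norm_num) (by rw [hcard]; norm_num) ?_
  · apply (Nat.prime_two.pow_dvd_iff_le_factorization Nat.card_pos.ne').1
    rw [hcard]
    norm_num
  · have hN : (MulAut.conj : K →* MulAut K).range.Normal := conj_range_normal
    refine hidx (MulAut.conj : K →* MulAut K).range ⟨(MonoidHom.ofInjective (_root_.Cfsg.Agent.H160.PD.conj_injective hZ)).symm⟩ ?_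
    rw [eq_bot_iff]
    intro b hb
    rw [mem_bot]
    ext s
    have h1 := mem_centralizer_iff.1 hb (MulAut.conj s) ⟨s, rfl⟩
    rw [fix_of_comm hZ h1.symm]
    rfl
  · intro x hx y hy hy2 hxy z hz hyz
    refine isolated_odd hT hTi (by rw [hT13]; norm_num) (l := 13) (by norm_num) (by rw [hT13]) (x := inc x) (y := inc y)
      (z := inc z) ?_ ?_ ?_ ?_ ?_
    · rw [orderOf_injective inc hinc, hx]
    · rwa [orderOf_injective inc hinc]
    · rw [← map_mul, ← map_mul, hxy]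
    · rw [orderOf_injective inc hinc, hz]
    · rw [← map_mul, ← map_mul, hyz]

theorem exists_inc : ∃ inc : TitsGroup →* ↥(chevF4.group (ZMod 2)), Function.Injective inc :=
  ⟨(Subgroup.inclusion (twF4_le_group (K := ZMod 2) 1)).comp (Subgroup.subtype _),
    (Subgroup.inclusion_injective (twF4_le_group (K := ZMod 2) 1)).comp (Subgroup.subtype_injective _)⟩

theorem not_comm {K : Type u} [Group K] (h : Cfsg.Lie.IsoTits K) : ¬ IsMulCommutative K := by
  obtain ⟨e⟩ := h
  intro hc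
  exact Cfsg.Agent.S1074.result.2.2.1 ⟨⟨fun a b => e.symm.injective (by
    rw [map_mul, map_mul]
    exact hc.is_comm.comm _ _)⟩⟩

/-- **The row of the Tits group.** -/
theorem row_tits (K : Type u) [Group K] [Finite K] [IsSimpleGroup K] (h : Cfsg.Lie.IsoTits K) :
    Cfsg.Agent.H160.PD.Row K := by
  obtain ⟨inc, hinc⟩ := exists_inc
  obtain ⟨e⟩ := id h
  obtain ⟨T, hT, hTc, hTi⟩ := f4_torus (F := ZMod 2) 2 (ZMod.card 2)
  refine row_tits_aux (not_comm h) ?_ (Cfsg.Agent.EvenType.ChevTwoTits.charTwo h)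
    (fun N hN h1 h2 => Cfsg.Agent.TitsK.index_le h N h1 h2) hT (by omega) hTi (inc.comp e.toMonoidHom)
    (hinc.comp e.injective)
  exact (Nat.card_congr e.toEquiv).trans Cfsg.Agent.S1074.result.2.2.2

end Cfsg.Agent.H874.PD
end

-- part: H160/PD/AsmExc
section
/-!
# The rows of S4246 for the exceptional groups of Lie type: assembly (helper160)
-/

set_option autoImplicit false

namespace Cfsg.Agent.H160.PD

open Cfsg

universe u

/-- exceptional groups of Lie type -/
theorem row_exc (K : Type u) [Group K] [Finite K] [IsSimpleGroup K] (h : IsExceptionalLieType K) : Row K := by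
  rcases h with h | h | h | h | h | h | h | h | h | h | h
  · exact H5.PD.row_g2 K h
  · exact H5.PD.row_f4 K h
  · exact H742.PD.row_e6 K h
  · exact H446.PD.row_e7 K h
  · exact H71.PD.row_e8 K h
  · exact H29.PDTwE6.row_2e6 K h
  · exact H699.PD.row_iso3D4 h
  · exact H874.PD.row_sz K h
  · exact H874.PD.row_ree K h
  · exact H874.PD.row_2f4 K h
  · exact H874.PD.row_tits K h

end Cfsg.Agent.H160.PD
end

private theorem dce_2117044eeabd : _root_.True := by
  try have : _root_.True := by simp only [_root_.Cfsg.Agent.H160.PD.out.eq_1]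
  exact _root_.True.intro
end
end
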